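import Cfsg.Agent.Lib.Invol.HJ.Rigid

/-!
# Facts about the alternating group on five points
-/

set_option autoImplicit false
set_option maxRecDepth 100000
set_option Elab.async false

namespace Cfsg.Agent.Fus.SymSix

open Equiv

/-- The standard first involution. -/
def dOne : alternatingGroup (Fin 5) := ⟨swap 0 1 * swap 2 3, Perm.mem_alternatingGroup.mpr (by decide)⟩

/-- The standard second involution. -/
def dTwo : alternatingGroup (Fin 5) := ⟨swap 0 2 * swap 1 3, Perm.mem_alternatingGroup.mpr (by decide)⟩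

/-- The standard turning element. -/
def rThree : alternatingGroup (Fin 5) := ⟨swap 1 2 * swap 2 3, Perm.mem_alternatingGroup.mpr (by decide)⟩

theorem std_ok : dOne ≠ 1 ∧ dOne * dOne = 1 ∧ dTwo ≠ 1 ∧ dTwo * dTwo = 1 ∧ dTwo ≠ dOne ∧
    dOne * dTwo = dTwo * dOne ∧ rThree * rThree * rThree = 1 ∧ rThree * dOne * rThree⁻¹ = dTwo ∧
    rThree * dTwo * rThree⁻¹ = dOne * dTwo := by decide +kernel

set_option synthInstance.maxSize 1024 in
theorem std_conj : ∀ d1 : alternatingGroup (Fin 5), d1 ≠ 1 → d1 * d1 = 1 →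
    ∀ d2 : alternatingGroup (Fin 5), d2 ≠ 1 → d2 * d2 = 1 → d2 ≠ d1 → d1 * d2 = d2 * d1 →
    ∀ ρ : alternatingGroup (Fin 5), ρ * d1 * ρ⁻¹ = d2 → ρ * d2 * ρ⁻¹ = d1 * d2 →
    ∃ σ : Perm (Fin 5), σ * d1.1 * σ⁻¹ = dOne.1 ∧ σ * d2.1 * σ⁻¹ = dTwo.1 ∧ σ * ρ.1 * σ⁻¹ = rThree.1 := by
  decide +kernel

theorem two_odd : ∀ a : alternatingGroup (Fin 5), ∃ b : alternatingGroup (Fin 5), b ^ 15 = 1 ∧
    (b⁻¹ * a) ^ 15 = 1 := by
  decide +kernel

theorem turn_cases : ∀ ρ : alternatingGroup (Fin 5), ρ * dOne * ρ⁻¹ = dTwo → ρ * dTwo * ρ⁻¹ = dOne * dTwo →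
    ρ = rThree ∨ ρ = dOne * rThree ∨ ρ = dTwo * rThree ∨ ρ = dOne * dTwo * rThree := by
  decide +kernel

/-- An automorphism fixing the standard four group has order at most two. -/
theorem sq_trivial (α : alternatingGroup (Fin 5) ≃* alternatingGroup (Fin 5)) (h1 : α dOne = dOne)
    (h2 : α dTwo = dTwo) (g : alternatingGroup (Fin 5)) : α (α g) = g := by
  obtain ⟨a1, a2, a3, a4, a5, a6, a7, a8, a9⟩ := std_ok
  have hm : α rThree * dOne * (α rThree)⁻¹ = dTwo ∧ α rThree * dTwo * (α rThree)⁻¹ = dOne * dTwo := by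
    constructor
    · have := congrArg α a8
      rwa [map_mul, map_mul, map_inv, h1, h2] at this
    · have := congrArg α a9
      rwa [map_mul, map_mul, map_inv, map_mul, h1, h2] at this
  have h3 : α (α rThree) = rThree := by
    rcases turn_cases _ hm.1 hm.2 with e | e | e | e
    · rw [e, e]
    · rw [e, map_mul, h1, e, ← mul_assoc, a2, one_mul]
    · rw [e, map_mul, h2, e, ← mul_assoc, a4, one_mul]
    · rw [e, map_mul, map_mul, h1, h2, e, ← mul_assoc]
      rw [show dOne * dTwo * (dOne * dTwo) = 1 by decide +kernel, one_mul]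
  exact Cfsg.Agent.Invol.HJ.a5_rigid (α.trans α) dOne dTwo rThree a1 a2 a3 a4 a5 a6 a7 a8
    (by rw [MulEquiv.trans_apply, h1, h1]) (by rw [MulEquiv.trans_apply, h2, h2]) h3 g

end Cfsg.Agent.Fus.SymSix
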