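import Cfsg.Agent.Lib.Fus.SymSix.Fusion
import Cfsg.Agent.Lib.Spor.Cos.Words

/-!
# Words in the centralizer and two swapping elements, acting on numbers
-/

set_option autoImplicit false
set_option maxRecDepth 100000

namespace Cfsg.Agent.Fus.SymSix

open Cfsg.Agent.Spor.Cos (force force_eq ev ev_append ev_reverse)

theorem noVal_not_mem : ¬ Mem noVal := fun h => absurd (show inH noVal = true from h) (by decide +kernel)

theorem Mem.ne_noVal {c : ℕ} (h : Mem c) : c ≠ noVal := fun e => noVal_not_mem (e ▸ h)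

theorem beq_noVal_false {x : ℕ} (h : x ≠ noVal) : Nat.beq x noVal = false :=
  Bool.eq_false_iff.2 fun e => h (Nat.eq_of_beq_eq_true e)

/-- The image stored in an entry. -/
def mImg (v : ℕ) : ℕ := v % 16777216

/-- The generator in an entry. -/
def mGen (v : ℕ) : ℕ := (v >>> 24) % 16

/-- The depth in an entry. -/
def mDep (v : ℕ) : ℕ := (v >>> 28) % 64

/-- The parent in an entry. -/
def mPar (v : ℕ) : ℕ := v >>> 34

/-- The image of a number. -/
noncomputable def mapC (t : CTree) (x : ℕ) : ℕ :=
  force (t.find x) fun v => bif Nat.beq v noVal then noVal else mImg v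

/-- An involution acting as recorded. -/
structure Swap {K : Type*} [Group K] (I : ℕ → K) (a : K) (t : CTree) : Prop where
  /-- an involution -/
  sq : a * a = 1
  /-- its action -/
  map : ∀ x, mapC t x ≠ noVal → Mem x ∧ Mem (mapC t x) ∧ a * I x * a⁻¹ = I (mapC t x)

/-- The letters: six generators and the two involutions. -/
def gW {K : Type*} [Group K] (I : ℕ → K) (a b : K) (s : ℕ) : K :=
  if s < 6 then I (gensH.getD s oneC) else if s = 6 then a else b

/-- The number of a word in the generators. -/
def wC : List ℕ → ℕ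
  | [] => oneC
  | s :: w => mulC (gensH.getD s oneC) (wC w)

/-- The action of a letter on a number. -/
noncomputable def act1 (ta tb : CTree) (s x : ℕ) : ℕ :=
  bif Nat.blt s 6 then cjC (gensH.getD s oneC) x else mapC (bif Nat.beq s 6 then ta else tb) x

/-- The action of a word on a number, `noVal` for failure. -/
noncomputable def act (ta tb : CTree) : List ℕ → ℕ → ℕ
  | [], x => x
  | s :: w, x => force (act ta tb w x) fun y => bif Nat.beq y noVal then noVal else act1 ta tb s y

theorem gen_mem (s : ℕ) : Mem (gensH.getD s oneC) := by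
  by_cases hs : s < gensH.length
  · rw [List.getD_eq_getElem _ _ hs]
    have := List.all_eq_true.1 gens_mem _ (List.getElem_mem hs)
    simp only [Bool.and_eq_true] at this
    exact this.1
  · rw [List.getD_eq_default _ _ (by omega)]; exact mem_one

theorem gen_sq (s : ℕ) : mulC (gensH.getD s oneC) (gensH.getD s oneC) = oneC := by
  by_cases hs : s < gensH.length
  · rw [List.getD_eq_getElem _ _ hs]
    have := List.all_eq_true.1 gens_mem _ (List.getElem_mem hs)
    simp only [Bool.and_eq_true, isInv, Nat.beq_eq] at this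
    exact this.2.1
  · rw [List.getD_eq_default _ _ (by omega)]; exact mem_one.mul_one

theorem mem_wC : ∀ w : List ℕ, Mem (wC w)
  | [] => mem_one
  | s :: w => (gen_mem s).mul (mem_wC w)

theorem wC_append : ∀ v w : List ℕ, wC (v ++ w) = mulC (wC v) (wC w)
  | [], w => (mem_wC w).one_mul.symm
  | s :: v, w => by
    show mulC _ (wC (v ++ w)) = mulC (mulC _ _) _
    rw [wC_append v w, mulC_assoc (mem_wC v) (mem_wC w)]

/-- A homomorphic numbering with two swapping involutions. -/
structure Pair {K : Type*} [Group K] (I : ℕ → K) (a b : K) (ta tb : CTree) : Prop where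
  /-- the product -/
  hom : ∀ x y, Mem x → Mem y → I (mulC x y) = I x * I y
  /-- the first involution -/
  swA : Swap I a ta
  /-- the second involution -/
  swB : Swap I b tb

namespace Pair

variable {K : Type*} [Group K] {I : ℕ → K} {a b : K} {ta tb : CTree} (P : Pair I a b ta tb)
include P

theorem map_one : I oneC = 1 := by
  have h := P.hom oneC oneC mem_one mem_one
  rw [mem_one.mul_one] at h
  exact left_eq_mul.1 h

theorem map_inv {x : ℕ} (hx : Mem x) : I (invC x) = (I x)⁻¹ :=
  eq_inv_of_mul_eq_one_left (by rw [← P.hom _ _ hx.inv hx, hx.inv_mul, P.map_one])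

theorem map_cj {h x : ℕ} (hh : Mem h) (hx : Mem x) : I (cjC h x) = I h * I x * (I h)⁻¹ := by
  rw [cjC, force_eq, P.hom _ _ (hh.mul hx) hh.inv, P.hom _ _ hh hx, P.map_inv hh]

theorem gW_sq (s : ℕ) : gW I a b s * gW I a b s = 1 := by
  unfold gW
  split_ifs
  · rw [← P.hom _ _ (gen_mem s) (gen_mem s), gen_sq, P.map_one]
  · exact P.swA.sq
  · exact P.swB.sq

theorem ev_wC : ∀ w : List ℕ, (∀ s ∈ w, s < 6) → ev (gW I a b) w = I (wC w)
  | [], _ => P.map_one.symm
  | s :: w, h => by
    show gW I a b s * ev (gW I a b) w = I (mulC _ _)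
    rw [ev_wC w (fun t ht => h t (List.mem_cons_of_mem _ ht)), P.hom _ _ (gen_mem s) (mem_wC w), gW,
      if_pos (h s (List.mem_cons_self ..))]

theorem ev_rev (w : List ℕ) : ev (gW I a b) w.reverse = (ev (gW I a b) w)⁻¹ :=
  ev_reverse (n := w.sum + 1) (fun s _ => P.gW_sq s) w fun s hs =>
    Nat.lt_succ_of_le (List.single_le_sum (fun _ _ => Nat.zero_le _) s hs)

theorem act1_sound {s x : ℕ} (hx : Mem x) (h : act1 ta tb s x ≠ noVal) :
    Mem (act1 ta tb s x) ∧ gW I a b s * I x * (gW I a b s)⁻¹ = I (act1 ta tb s x) := by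
  unfold act1 gW at *
  by_cases h4 : s < 6
  · rw [if_pos h4, Nat.blt_eq.mpr h4, cond_true] at *
    exact ⟨Mem.cj (gen_mem s) hx, (P.map_cj (gen_mem s) hx).symm⟩
  · rw [if_neg h4, show Nat.blt s 6 = false from Bool.eq_false_iff.2 fun e => h4 (Nat.blt_eq.mp e),
      cond_false] at *
    by_cases he : s = 6
    · rw [if_pos he, show Nat.beq s 6 = true from Nat.beq_eq.mpr he, cond_true] at *
      exact (P.swA.map x h).2
    · rw [if_neg he, show Nat.beq s 6 = false from Bool.eq_false_iff.2 fun e => he (Nat.eq_of_beq_eq_true e),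
        cond_false] at *
      exact (P.swB.map x h).2

theorem act_sound : ∀ (w : List ℕ) {x : ℕ}, Mem x → act ta tb w x ≠ noVal →
    Mem (act ta tb w x) ∧ ev (gW I a b) w * I x * (ev (gW I a b) w)⁻¹ = I (act ta tb w x)
  | [], x, hx, _ => ⟨hx, by simp [ev, act]⟩
  | s :: w, x, hx, h => by
    simp only [act, force_eq] at h ⊢
    by_cases h0 : act ta tb w x = noVal
    · rw [h0, Nat.beq_refl, cond_true] at h; exact absurd rfl h
    rw [beq_noVal_false h0, cond_false] at h ⊢
    obtain ⟨hy, he⟩ := act_sound w hx h0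
    obtain ⟨h1, h2⟩ := P.act1_sound hy h
    refine ⟨h1, ?_⟩
    rw [← h2, ← he]
    show gW I a b s * ev (gW I a b) w * I x * (gW I a b s * ev (gW I a b) w)⁻¹ = _
    group

end Pair

theorem Loc.pair {G : Type*} [Group G] {z : G} {I : ℕ → G} (L : Loc z I) {a b : G} {ta tb : CTree}
    (ha : Swap I a ta) (hb : Swap I b tb) : Pair I a b ta tb := ⟨L.hom, ha, hb⟩

end Cfsg.Agent.Fus.SymSix
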