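import Cfsg.Agent.Lib.Fus.SymSix.NodeCert712

/-! Checks of the subgroups without fused elements. -/

set_option autoImplicit false
set_option maxRecDepth 100000
set_option Elab.async false

namespace Cfsg.Agent.Fus.SymSix

theorem nCert712_from20 : ((List.range' 20 1).all fun i => nCertOk 712 wEqA nodes712 nCerts712 39 i) = true := by decide +kernel

theorem nCert712_from21 : ((List.range' 21 6).all fun i => nCertOk 712 wEqA nodes712 nCerts712 39 i) = true := by decide +kernel

theorem nCert712_from27 : ((List.range' 27 4).all fun i => nCertOk 712 wEqA nodes712 nCerts712 39 i) = true := by decide +kernel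

theorem nCert712_from31 : ((List.range' 31 1).all fun i => nCertOk 712 wEqA nodes712 nCerts712 39 i) = true := by decide +kernel

theorem nCert712_from32 : ((List.range' 32 4).all fun i => nCertOk 712 wEqA nodes712 nCerts712 39 i) = true := by decide +kernel


end Cfsg.Agent.Fus.SymSix
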