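import Cfsg.Agent.Lib.Fus.SymSix.ListRun712_0
import Cfsg.Agent.Lib.Fus.SymSix.ListRun712_1
import Cfsg.Agent.Lib.Fus.SymSix.CertRun712_0
import Cfsg.Agent.Lib.Fus.SymSix.CertRun712_1
import Cfsg.Agent.Lib.Fus.SymSix.CertRun712_2
import Cfsg.Agent.Lib.Fus.SymSix.SwapData712_9
import Cfsg.Agent.Lib.Fus.SymSix.SwapData712_6

/-! Checks of the subgroups without fused elements. -/

set_option autoImplicit false
set_option maxRecDepth 100000
set_option Elab.async false

namespace Cfsg.Agent.Fus.SymSix

theorem wit712_ok : witOk swapTree712_9_0 swapTree712_6_1 712 witList712 = true := by decide +kernel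

theorem singles712_ok : singlesOk 712 nodes712 = true := by decide +kernel

theorem nodes712_len : nodes712.length = 43 := by decide +kernel

theorem sixty712_39_ok : sixtyOk 712 wEqA node712_39 sixty712_39 = true := by decide +kernel

theorem nodes712_ok : CNode.listOk 712 nodes712 = true := by
  refine listOk_of (fun i hi => ?_) singles712_ok
  rw [nodes712_len] at hi
  rcases lt_or_ge i 4 with h | h
  · exact of_range node712_from0 (by omega) (by omega)
  rcases lt_or_ge i 8 with h | h
  · exact of_range node712_from4 (by omega) (by omega)
  rcases lt_or_ge i 12 with h | h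
  · exact of_range node712_from8 (by omega) (by omega)
  rcases lt_or_ge i 16 with h | h
  · exact of_range node712_from12 (by omega) (by omega)
  rcases lt_or_ge i 20 with h | h
  · exact of_range node712_from16 (by omega) (by omega)
  rcases lt_or_ge i 24 with h | h
  · exact of_range node712_from20 (by omega) (by omega)
  rcases lt_or_ge i 28 with h | h
  · exact of_range node712_from24 (by omega) (by omega)
  rcases lt_or_ge i 32 with h | h
  · exact of_range node712_from28 (by omega) (by omega)
  rcases lt_or_ge i 36 with h | h
  · exact of_range node712_from32 (by omega) (by omega)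
  rcases lt_or_ge i 40 with h | h
  · exact of_range node712_from36 (by omega) (by omega)
  exact of_range node712_from40 (by omega) (by omega)

theorem nCerts712_ok : ∀ i < nodes712.length, nCertOk 712 wEqA nodes712 nCerts712 39 i = true := by
  intro i hi
  rw [nodes712_len] at hi
  rcases lt_or_ge i 6 with h | h
  · exact of_range nCert712_from0 (by omega) (by omega)
  rcases lt_or_ge i 8 with h | h
  · exact of_range nCert712_from6 (by omega) (by omega)
  rcases lt_or_ge i 9 with h | h
  · exact of_range nCert712_from8 (by omega) (by omega)
  rcases lt_or_ge i 15 with h | h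
  · exact of_range nCert712_from9 (by omega) (by omega)
  rcases lt_or_ge i 20 with h | h
  · exact of_range nCert712_from15 (by omega) (by omega)
  rcases lt_or_ge i 21 with h | h
  · exact of_range nCert712_from20 (by omega) (by omega)
  rcases lt_or_ge i 27 with h | h
  · exact of_range nCert712_from21 (by omega) (by omega)
  rcases lt_or_ge i 31 with h | h
  · exact of_range nCert712_from27 (by omega) (by omega)
  rcases lt_or_ge i 32 with h | h
  · exact of_range nCert712_from31 (by omega) (by omega)
  rcases lt_or_ge i 36 with h | h
  · exact of_range nCert712_from32 (by omega) (by omega)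
  rcases lt_or_ge i 37 with h | h
  · exact of_range nCert712_from36 (by omega) (by omega)
  rcases lt_or_ge i 40 with h | h
  · exact of_range nCert712_from37 (by omega) (by omega)
  rcases lt_or_ge i 41 with h | h
  · exact of_range nCert712_from40 (by omega) (by omega)
  rcases lt_or_ge i 42 with h | h
  · exact of_range nCert712_from41 (by omega) (by omega)
  exact of_range nCert712_from42 (by omega) (by omega)


end Cfsg.Agent.Fus.SymSix
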