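import Cfsg.Agent.Lib.Fus.SymSix.Loop

/-! Generated data for the centralizer of six transpositions. -/

set_option autoImplicit false
set_option maxRecDepth 100000

namespace Cfsg.Agent.Fus.SymSix

/-- The certified words. -/
def baseC512 : List (List ℕ × Cert) := [
  ([0, 1, 0, 1, 0, 1], .gen),
  ([0, 2, 0, 2], .gen),
  ([0, 3, 0, 3], .gen),
  ([0, 4, 0, 4], .gen),
  ([0, 5, 0, 5], .gen),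
  ([1, 2, 1, 2, 1, 2], .gen),
  ([1, 3, 1, 3], .gen),
  ([1, 4, 1, 4], .gen),
  ([1, 5, 1, 5, 1, 5, 1, 5], .gen),
  ([2, 3, 2, 3, 2, 3], .gen),
  ([2, 4, 2, 4], .gen),
  ([2, 5, 2, 5], .gen),
  ([3, 4, 3, 4, 3, 4], .gen),
  ([3, 5, 3, 5], .gen),
  ([4, 5, 4, 5], .gen),
  ([5, 1, 5, 1, 0, 1, 5, 1, 0], .gen),
  ([6, 4, 6, 5, 2, 0], .sw 6 [4] [5, 2, 0]),
  ([6, 3, 6, 5, 2, 3, 4, 3, 2, 0], .sw 6 [3] [5, 2, 3, 4, 3, 2, 0]),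
  ([6, 2, 6, 5, 4, 0], .sw 6 [2] [5, 4, 0]),
  ([6, 5, 6, 0], .sw 6 [5] [0]),
  ([6, 0, 6, 5], .sw 6 [0] [5]),
  ([6, 1, 2, 5, 1, 2, 5, 1, 6, 1, 5, 1, 2, 0, 1, 5, 1], .sw 6 [1, 2, 5, 1, 2, 5, 1] [1, 5, 1, 2, 0, 1, 5, 1])]

/-- A loop. -/
def loop512_0 : List ℕ := [6, 1, 0, 2, 1, 6, 1, 0, 2, 1, 6]

/-- Its action. -/
def loopAct512_0 : List (ℕ × ℕ) := [
  (9069600, 9069600), (11028000, 11035650), (11035697, 11040032), (11035650, 11028000),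
  (11032352, 11035667), (10183712, 10183712)]

/-- Its options. -/
def loopOpts512_0 : List ℕ := [
  11018340, 9052260, 11010660, 9044580, 11018310, 9052230, 11010630, 9044550,
  12132452, 10166372, 12124772, 10158692, 12132422, 10166342, 12124742, 10158662,
  11018357, 9052277, 11010677, 9044597, 11018327, 9052247, 11010647, 9044567,
  12132469, 10166389, 12124789, 10158709, 12132439, 10166359, 12124759, 10158679,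
  11022692, 9056612, 11015012, 9048932, 11022662, 9056582, 11014982, 9048902,
  12136804, 10170724, 12129124, 10163044, 12136774, 10170694, 12129094, 10163014,
  11022709, 9056629, 11015029, 9048949, 11022679, 9056599, 11014999, 9048919,
  12136821, 10170741, 12129141, 10163061, 12136791, 10170711, 12129111, 10163031]

/-- The chosen option. -/
def canon512_0 : ℕ := 11018340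

/-- Words for the options. -/
def optW512_0 : List (List ℕ) := [
  [1, 0, 2, 1], [1, 0, 2, 1, 4], [0, 1, 0, 2, 1], [0, 1, 0, 2, 1, 4],
  [1, 0, 2, 1, 0], [1, 0, 2, 1, 0, 4], [0, 1, 0, 2, 1, 0], [0, 1, 0, 2, 1, 0, 4],
  [1, 0, 2, 1, 3, 2, 1, 4, 3, 2, 1, 5, 1, 2, 3, 4, 5, 1, 2, 3], [1, 0, 2, 1, 3, 2, 1, 4, 3, 2, 5, 1, 2, 3, 4, 5, 1, 2, 3], [0, 1, 0, 2, 1, 3, 2, 1, 4, 3, 2, 1, 5, 1, 2, 3, 4, 5, 1, 2, 3], [0, 1, 0, 2, 1, 3, 2, 1, 4, 3, 2, 5, 1, 2, 3, 4, 5, 1, 2, 3],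
  [1, 0, 2, 1, 0, 3, 2, 1, 4, 3, 2, 1, 5, 1, 2, 3, 4, 5, 1, 2, 3], [1, 0, 2, 1, 0, 3, 2, 1, 4, 3, 2, 5, 1, 2, 3, 4, 5, 1, 2, 3], [0, 1, 0, 2, 1, 0, 3, 2, 1, 4, 3, 2, 1, 5, 1, 2, 3, 4, 5, 1, 2, 3], [0, 1, 0, 2, 1, 0, 3, 2, 1, 4, 3, 2, 5, 1, 2, 3, 4, 5, 1, 2, 3],
  [1, 0, 2, 1, 5], [1, 0, 2, 1, 4, 5], [0, 1, 0, 2, 1, 5], [0, 1, 0, 2, 1, 4, 5],
  [1, 0, 2, 1, 0, 5], [1, 0, 2, 1, 0, 4, 5], [0, 1, 0, 2, 1, 0, 5], [0, 1, 0, 2, 1, 0, 4, 5],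
  [1, 0, 2, 1, 3, 2, 1, 4, 3, 2, 1, 5, 1, 2, 3, 4, 5, 1, 2, 3, 5], [1, 0, 2, 1, 3, 2, 1, 4, 3, 2, 5, 1, 2, 3, 4, 5, 1, 2, 3, 5], [0, 1, 0, 2, 1, 3, 2, 1, 4, 3, 2, 1, 5, 1, 2, 3, 4, 5, 1, 2, 3, 5], [0, 1, 0, 2, 1, 3, 2, 1, 4, 3, 2, 5, 1, 2, 3, 4, 5, 1, 2, 3, 5],
  [1, 0, 2, 1, 3, 2, 1, 4, 3, 5, 1, 0, 2, 1, 3, 4, 5, 1, 2, 3, 4], [1, 0, 2, 1, 3, 2, 1, 4, 3, 5, 1, 0, 2, 1, 3, 4, 5, 1, 2, 3], [0, 1, 0, 2, 1, 3, 2, 1, 4, 3, 5, 1, 0, 2, 1, 3, 4, 5, 1, 2, 3, 4], [0, 1, 0, 2, 1, 3, 2, 1, 4, 3, 5, 1, 0, 2, 1, 3, 4, 5, 1, 2, 3],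
  [5, 1, 0, 2, 1], [4, 5, 1, 0, 2, 1], [0, 5, 1, 0, 2, 1], [0, 4, 5, 1, 0, 2, 1],
  [2, 5, 1, 0, 2, 1], [2, 4, 5, 1, 0, 2, 1], [0, 2, 5, 1, 0, 2, 1], [0, 2, 4, 5, 1, 0, 2, 1],
  [3, 2, 1, 4, 3, 2, 1, 5, 1, 2, 3, 4, 5, 1, 2, 3, 5, 1, 0, 2, 1], [3, 2, 1, 4, 3, 2, 5, 1, 2, 3, 4, 5, 1, 2, 3, 5, 1, 0, 2, 1], [3, 2, 1, 4, 3, 5, 1, 0, 2, 1, 3, 2, 4, 3, 5, 1, 0, 2, 1, 3, 4], [3, 2, 1, 4, 3, 5, 1, 0, 2, 1, 3, 2, 4, 3, 5, 1, 0, 2, 1, 3],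
  [2, 3, 2, 1, 4, 3, 2, 1, 5, 1, 2, 3, 4, 5, 1, 2, 3, 5, 1, 0, 2, 1], [2, 3, 2, 1, 4, 3, 2, 5, 1, 2, 3, 4, 5, 1, 2, 3, 5, 1, 0, 2, 1], [2, 3, 2, 1, 4, 3, 5, 1, 0, 2, 1, 3, 2, 4, 3, 5, 1, 0, 2, 1, 3, 4], [2, 3, 2, 1, 4, 3, 5, 1, 0, 2, 1, 3, 2, 4, 3, 5, 1, 0, 2, 1, 3],
  [5, 1, 0, 2, 1, 5], [4, 5, 1, 0, 2, 1, 5], [0, 5, 1, 0, 2, 1, 5], [0, 4, 5, 1, 0, 2, 1, 5],
  [2, 5, 1, 0, 2, 1, 5], [2, 4, 5, 1, 0, 2, 1, 5], [0, 2, 5, 1, 0, 2, 1, 5], [0, 2, 4, 5, 1, 0, 2, 1, 5],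
  [3, 2, 1, 4, 3, 2, 1, 5, 1, 2, 3, 4, 5, 1, 2, 3, 5, 1, 0, 2, 1, 5], [3, 2, 1, 4, 3, 2, 5, 1, 2, 3, 4, 5, 1, 2, 3, 5, 1, 0, 2, 1, 5], [3, 2, 1, 4, 3, 5, 1, 0, 2, 1, 3, 2, 4, 3, 5, 1, 0, 2, 1, 3, 4, 5], [3, 2, 1, 4, 3, 5, 1, 0, 2, 1, 3, 2, 4, 3, 5, 1, 0, 2, 1, 3, 5],
  [3, 5, 1, 0, 2, 1, 3, 2, 4, 3, 5, 1, 0, 2, 1, 3, 4, 5, 1, 2, 3, 4], [3, 5, 1, 0, 2, 1, 3, 2, 4, 3, 5, 1, 0, 2, 1, 3, 4, 5, 1, 2, 3], [0, 3, 5, 1, 0, 2, 1, 3, 2, 4, 3, 5, 1, 0, 2, 1, 3, 4, 5, 1, 2, 3, 4], [0, 3, 5, 1, 0, 2, 1, 3, 2, 4, 3, 5, 1, 0, 2, 1, 3, 4, 5, 1, 2, 3]]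

/-- A word for the chosen option. -/
def canonW512_0 : List ℕ := [1, 0, 2, 1]

/-- The surviving options with the changes leading to the chosen one. -/
def gauge512_0 : List (ℕ × ℕ × ℕ) := [
  (11018340, 11035680, 11035680), (10163031, 12154144, 12154144)]

/-- The words of the chosen options. -/
def fixed512 : List (List ℕ) := [loop512_0 ++ canonW512_0.reverse]

/-- Words for the generators. -/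
def genWd512_9 : List (List ℕ) := [
  [1, 3, 2, 1, 4, 5, 1, 2, 3, 5, 1, 5], [0, 1, 3, 4, 3, 2, 1, 5, 1, 2, 3, 4, 5, 1],
  [1, 2, 3, 2, 1, 4, 3, 2, 1, 5, 1, 2, 3, 4, 5, 1, 2, 3, 5, 1, 2, 5, 1, 5], [0, 1, 2, 1, 3, 2, 4, 3, 5, 1, 2, 3, 4, 5, 1, 2, 3, 5, 1, 2, 5, 1],
  [1, 2, 1, 3, 2, 1, 4, 3, 2, 1, 5, 1, 2, 3, 4, 5, 1, 2, 3, 5, 1, 2, 5, 1, 5], [0, 1, 2, 1, 3, 2, 1, 4, 3, 2, 1, 5, 1, 2, 3, 4, 5, 1, 2, 3, 5, 1, 2, 5, 1]]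

/-- Words for the images. -/
def imgWd512_9 : List (List ℕ) := [
  [2, 1, 3, 4, 3, 2, 1, 5, 1, 2, 3, 4, 5, 1, 2, 5], [0, 1, 3, 4, 3, 2, 1, 5, 1, 2, 3, 4, 5, 1],
  [1, 2, 1, 3, 2, 1, 4, 3, 2, 5, 1, 2, 3, 4, 5, 1, 2, 3, 5, 1, 2, 5, 1, 5], [0, 1, 2, 1, 3, 2, 4, 3, 5, 1, 2, 3, 4, 5, 1, 2, 3, 5, 1, 2, 5, 1],
  [0, 1, 2, 1, 3, 2, 1, 4, 3, 2, 1, 5, 1, 2, 3, 4, 5, 1, 2, 3, 5, 1, 2, 5, 1], [1, 2, 1, 3, 2, 1, 4, 3, 2, 1, 5, 1, 2, 3, 4, 5, 1, 2, 3, 5, 1, 2, 5, 1, 5]]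

/-- The certified words. -/
def baseC712 : List (List ℕ × Cert) := [
  ([0, 1, 0, 1, 0, 1], .gen),
  ([0, 2, 0, 2], .gen),
  ([0, 3, 0, 3], .gen),
  ([0, 4, 0, 4], .gen),
  ([0, 5, 0, 5], .gen),
  ([1, 2, 1, 2, 1, 2], .gen),
  ([1, 3, 1, 3], .gen),
  ([1, 4, 1, 4], .gen),
  ([1, 5, 1, 5, 1, 5, 1, 5], .gen),
  ([2, 3, 2, 3, 2, 3], .gen),
  ([2, 4, 2, 4], .gen),
  ([2, 5, 2, 5], .gen),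
  ([3, 4, 3, 4, 3, 4], .gen),
  ([3, 5, 3, 5], .gen),
  ([4, 5, 4, 5], .gen),
  ([5, 1, 5, 1, 0, 1, 5, 1, 0], .gen),
  ([6, 4, 6, 2, 1, 5, 4, 3, 2, 1, 5, 2, 3, 4, 1, 2], .sw 6 [4] [2, 1, 5, 4, 3, 2, 1, 5, 2, 3, 4, 1, 2]),
  ([6, 3, 6, 3], .sw 6 [3] [3]),
  ([6, 2, 6, 2, 3, 2], .sw 6 [2] [2, 3, 2]),
  ([6, 5, 6, 0], .sw 6 [5] [0]),
  ([6, 0, 6, 5], .sw 6 [0] [5]),
  ([6, 1, 2, 5, 1, 2, 5, 1, 6, 1, 5, 3, 2, 1, 5, 2, 3, 1], .sw 6 [1, 2, 5, 1, 2, 5, 1] [1, 5, 3, 2, 1, 5, 2, 3, 1]),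
  ([7, 4, 7, 4], .sw 7 [4] [4]),
  ([7, 2, 7, 5], .sw 7 [2] [5]),
  ([7, 5, 7, 2], .sw 7 [5] [2]),
  ([7, 0, 7, 1, 5, 2, 1, 5, 1, 2, 1], .sw 7 [0] [1, 5, 2, 1, 5, 1, 2, 1]),
  ([7, 1, 0, 2, 1, 7, 1, 2, 0, 1], .sw 7 [1, 0, 2, 1] [1, 2, 0, 1]),
  ([7, 3, 2, 1, 4, 3, 2, 5, 1, 2, 3, 4, 5, 1, 2, 3, 7, 3, 2, 1, 5, 4, 3, 2, 1, 5, 2, 3, 4, 1, 2, 3], .sw 7 [3, 2, 1, 4, 3, 2, 5, 1, 2, 3, 4, 5, 1, 2, 3] [3, 2, 1, 5, 4, 3, 2, 1, 5, 2, 3, 4, 1, 2, 3])]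

/-- A loop. -/
def loop712_0 : List ℕ := [6, 1, 5, 1, 6, 1, 5, 1, 6]

/-- Its action. -/
def loopAct712_0 : List (ℕ × ℕ) := [
  (9069600, 7910432), (10912800, 10912800), (11028000, 10774560), (11035697, 11035697),
  (11035650, 11035667), (11032352, 10840352)]

/-- Its options. -/
def loopOpts712_0 : List ℕ := [
  11961392, 11961347, 10982704, 10982659, 11961377, 11961362, 10982689, 10982674]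

/-- The chosen option. -/
def canon712_0 : ℕ := 11961377

/-- Words for the options. -/
def optW712_0 : List (List ℕ) := [
  [3, 4, 3, 2, 1, 5, 1, 2, 3, 4, 5], [0, 3, 4, 3, 2, 1, 5, 1, 2, 3, 4], [1, 2, 1, 3, 2, 5, 1, 2, 3, 5, 1, 2, 5, 1, 5], [0, 1, 2, 1, 3, 2, 5, 1, 2, 3, 5, 1, 2, 5, 1],
  [3, 4, 3, 2, 1, 5, 1, 2, 3, 4], [3, 4, 3, 2, 1, 5, 1, 0, 2, 3, 4], [1, 2, 1, 3, 2, 5, 1, 2, 3, 5, 1, 2, 5, 1], [1, 2, 1, 3, 2, 5, 1, 2, 3, 5, 1, 2, 5, 1, 0]]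

/-- A word for the chosen option. -/
def canonW712_0 : List ℕ := [3, 4, 3, 2, 1, 5, 1, 2, 3, 4]

/-- The surviving options with the changes leading to the chosen one. -/
def gauge712_0 : List (ℕ × ℕ × ℕ) := [
  (11961377, 11035680, 11035680), (10982689, 12154144, 11035680)]

/-- A loop. -/
def loop712_1 : List ℕ := [7, 1, 7, 1, 7]

/-- Its action. -/
def loopAct712_1 : List (ℕ × ℕ) := [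
  (9069600, 9069600), (11027970, 11018340), (11018340, 11027970), (11022709, 11032339),
  (10183712, 10183712)]

/-- Its options. -/
def loopOpts712_1 : List ℕ := [
  11035200, 9069120, 11026530, 9060450, 11019780, 9053700, 11011110, 9045030,
  12149312, 10183232, 12140642, 10174562, 12133892, 10167812, 12125222, 10159142,
  11039569, 9073489, 11030899, 9064819, 11024149, 9058069, 11015479, 9049399,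
  12153681, 10187601, 12145011, 10178931, 12138261, 10172181, 12129591, 10163511]

/-- The chosen option. -/
def canon712_1 : ℕ := 11015479

/-- Words for the options. -/
def optW712_1 : List (List ℕ) := [
  [1], [1, 4], [0, 2, 1], [0, 2, 1, 4],
  [1, 0, 2], [1, 0, 2, 4], [0, 1, 2, 1, 0], [0, 1, 2, 1, 0, 4],
  [1, 3, 2, 1, 4, 3, 2, 1, 5, 1, 2, 3, 4, 5, 1, 2, 3], [1, 3, 2, 1, 4, 3, 2, 5, 1, 2, 3, 4, 5, 1, 2, 3], [0, 2, 1, 3, 2, 1, 4, 3, 2, 1, 5, 1, 2, 3, 4, 5, 1, 2, 3], [0, 2, 1, 3, 2, 1, 4, 3, 2, 5, 1, 2, 3, 4, 5, 1, 2, 3],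
  [1, 0, 2, 3, 2, 1, 4, 3, 2, 1, 5, 1, 2, 3, 4, 5, 1, 2, 3], [1, 0, 2, 3, 2, 1, 4, 3, 2, 5, 1, 2, 3, 4, 5, 1, 2, 3], [0, 1, 2, 1, 0, 3, 2, 1, 4, 3, 2, 1, 5, 1, 2, 3, 4, 5, 1, 2, 3], [0, 1, 2, 1, 0, 3, 2, 1, 4, 3, 2, 5, 1, 2, 3, 4, 5, 1, 2, 3],
  [2, 1, 5, 1, 2, 5, 1, 5], [2, 1, 4, 5, 1, 2, 5, 1, 5], [1, 5, 1, 0, 2, 1, 5], [1, 4, 5, 1, 0, 2, 1, 5],
  [5, 1, 0, 2, 1, 5, 1], [4, 5, 1, 0, 2, 1, 5, 1], [0, 5, 1, 2, 5, 1, 0, 5], [0, 4, 5, 1, 2, 5, 1, 0, 5],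
  [2, 1, 3, 2, 1, 4, 3, 2, 1, 5, 1, 2, 3, 4, 5, 1, 2, 3, 5, 1, 2, 5, 1, 5], [2, 1, 3, 2, 1, 4, 3, 2, 5, 1, 2, 3, 4, 5, 1, 2, 3, 5, 1, 2, 5, 1, 5], [1, 3, 2, 1, 4, 3, 2, 1, 5, 1, 2, 3, 4, 5, 1, 2, 3, 5, 1, 0, 2, 1, 5], [1, 3, 2, 1, 4, 3, 2, 5, 1, 2, 3, 4, 5, 1, 2, 3, 5, 1, 0, 2, 1, 5],
  [2, 3, 2, 1, 5, 1, 2, 3, 4, 5, 1, 2, 3, 5, 1, 0, 2, 1, 5, 1, 2, 3, 4], [2, 3, 2, 1, 5, 1, 2, 3, 4, 5, 1, 2, 3, 5, 1, 0, 2, 1, 5, 1, 2, 3], [3, 2, 1, 5, 1, 0, 2, 1, 3, 2, 4, 3, 5, 1, 0, 2, 1, 5, 1, 2, 3, 4], [3, 2, 1, 5, 1, 0, 2, 1, 3, 2, 4, 3, 5, 1, 0, 2, 1, 5, 1, 2, 3]]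

/-- A word for the chosen option. -/
def canonW712_1 : List ℕ := [0, 5, 1, 2, 5, 1, 0, 5]

/-- The surviving options with the changes leading to the chosen one. -/
def gauge712_1 : List (ℕ × ℕ × ℕ) := [
  (11015479, 11035680, 11035680), (9049399, 11035680, 9069600), (12129591, 11035680, 12149792),
  (10163511, 11035680, 10183712)]

/-- A loop. -/
def loop712_2 : List ℕ := [6, 7, 6]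

/-- Its action. -/
def loopAct712_2 : List (ℕ × ℕ) := [
  (11035697, 11101472), (11035650, 10774560), (6857760, 6857760), (10774560, 11035650),
  (10840352, 11035667), (7910432, 7910432)]

/-- Its options. -/
def loopOpts712_2 : List ℕ := [
  10641540, 6463620, 10510980, 6333060, 10641480, 6463560, 10510920, 6333000,
  11694212, 7516292, 11563652, 7385732, 11694152, 7516232, 11563592, 7385672,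
  10641557, 6463637, 10510997, 6333077, 10641497, 6463577, 10510937, 6333017,
  11694229, 7516309, 11563669, 7385749, 11694169, 7516249, 11563609, 7385689,
  10707332, 6529412, 10576772, 6398852, 10707272, 6529352, 10576712, 6398792,
  11760004, 7582084, 11629444, 7451524, 11759944, 7582024, 11629384, 7451464,
  10707349, 6529429, 10576789, 6398869, 10707289, 6529369, 10576729, 6398809,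
  11760021, 7582101, 11629461, 7451541, 11759961, 7582041, 11629401, 7451481]

/-- The chosen option. -/
def canon712_2 : ℕ := 10641540

/-- Words for the options. -/
def optW712_2 : List (List ℕ) := [
  [1, 0, 2, 3, 2, 1], [1, 0, 3, 2, 1, 4, 3], [0, 1, 0, 2, 3, 2, 1], [0, 1, 0, 3, 2, 1, 4, 3],
  [1, 0, 2, 3, 2, 1, 0], [1, 0, 3, 2, 1, 0, 4, 3], [0, 1, 0, 2, 3, 2, 1, 0], [0, 1, 0, 3, 2, 1, 0, 4, 3],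
  [1, 0, 2, 1, 3, 2, 4, 3, 2, 1, 5, 1, 2, 3, 4, 5, 1, 2], [1, 0, 2, 1, 3, 2, 4, 3, 2, 5, 1, 2, 3, 4, 5, 1, 2], [0, 1, 0, 2, 1, 3, 2, 4, 3, 2, 1, 5, 1, 2, 3, 4, 5, 1, 2], [0, 1, 0, 2, 1, 3, 2, 4, 3, 2, 5, 1, 2, 3, 4, 5, 1, 2],
  [1, 0, 2, 1, 3, 2, 4, 3, 2, 1, 5, 1, 2, 3, 4, 5, 1, 0, 2], [1, 0, 2, 1, 3, 2, 4, 3, 2, 5, 1, 2, 3, 4, 5, 1, 0, 2], [0, 1, 0, 2, 1, 3, 2, 4, 3, 2, 1, 5, 1, 2, 3, 4, 5, 1, 0, 2], [0, 1, 0, 2, 1, 3, 2, 4, 3, 2, 5, 1, 2, 3, 4, 5, 1, 0, 2],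
  [1, 0, 2, 3, 2, 1, 5], [1, 0, 3, 2, 1, 4, 3, 5], [0, 1, 0, 2, 3, 2, 1, 5], [0, 1, 0, 3, 2, 1, 4, 3, 5],
  [1, 0, 2, 3, 2, 1, 0, 5], [1, 0, 3, 2, 1, 0, 4, 3, 5], [0, 1, 0, 2, 3, 2, 1, 0, 5], [0, 1, 0, 3, 2, 1, 0, 4, 3, 5],
  [1, 0, 2, 1, 3, 2, 4, 3, 2, 1, 5, 1, 2, 3, 4, 5, 1, 2, 5], [1, 0, 2, 1, 3, 2, 4, 3, 2, 5, 1, 2, 3, 4, 5, 1, 2, 5], [0, 1, 0, 2, 1, 3, 2, 4, 3, 2, 1, 5, 1, 2, 3, 4, 5, 1, 2, 5], [0, 1, 0, 2, 1, 3, 2, 4, 3, 2, 5, 1, 2, 3, 4, 5, 1, 2, 5],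
  [1, 0, 2, 1, 3, 2, 4, 3, 5, 1, 0, 2, 1, 3, 5, 1, 2, 3, 4], [1, 0, 2, 1, 3, 2, 4, 3, 5, 1, 0, 2, 1, 3, 4, 5, 1, 2], [0, 1, 0, 2, 1, 3, 2, 4, 3, 5, 1, 0, 2, 1, 3, 5, 1, 2, 3, 4], [0, 1, 0, 2, 1, 3, 2, 4, 3, 5, 1, 0, 2, 1, 3, 4, 5, 1, 2],
  [3, 5, 1, 0, 2, 1, 3], [3, 4, 5, 1, 0, 2, 1, 3], [0, 3, 5, 1, 0, 2, 1, 3], [0, 3, 4, 5, 1, 0, 2, 1, 3],
  [3, 2, 5, 1, 0, 2, 1, 3], [3, 2, 4, 5, 1, 0, 2, 1, 3], [0, 3, 2, 5, 1, 0, 2, 1, 3], [0, 3, 2, 4, 5, 1, 0, 2, 1, 3],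
  [2, 4, 3, 2, 1, 5, 1, 2, 3, 4, 5, 1, 2, 3, 5, 1, 0, 2, 1], [2, 1, 4, 3, 5, 1, 2, 3, 4, 5, 1, 2, 3, 5, 1, 0, 2, 1], [2, 4, 3, 2, 1, 5, 1, 0, 2, 1, 3, 2, 4, 3, 5, 1, 0, 2, 1], [2, 1, 4, 3, 5, 1, 0, 2, 1, 3, 2, 4, 3, 5, 1, 0, 2, 1],
  [2, 3, 4, 3, 2, 1, 5, 1, 2, 3, 4, 5, 1, 2, 3, 5, 1, 0, 2, 1], [2, 1, 3, 4, 3, 5, 1, 2, 3, 4, 5, 1, 2, 3, 5, 1, 0, 2, 1], [2, 3, 4, 3, 2, 1, 5, 1, 0, 2, 1, 3, 2, 4, 3, 5, 1, 0, 2, 1], [2, 1, 3, 4, 3, 5, 1, 0, 2, 1, 3, 2, 4, 3, 5, 1, 0, 2, 1],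
  [3, 5, 1, 0, 2, 1, 3, 5], [3, 4, 5, 1, 0, 2, 1, 3, 5], [0, 3, 5, 1, 0, 2, 1, 3, 5], [0, 3, 4, 5, 1, 0, 2, 1, 3, 5],
  [3, 2, 5, 1, 0, 2, 1, 3, 5], [3, 2, 4, 5, 1, 0, 2, 1, 3, 5], [0, 3, 2, 5, 1, 0, 2, 1, 3, 5], [0, 3, 2, 4, 5, 1, 0, 2, 1, 3, 5],
  [2, 4, 3, 2, 1, 5, 1, 2, 3, 4, 5, 1, 2, 3, 5, 1, 0, 2, 1, 5], [2, 1, 4, 3, 5, 1, 2, 3, 4, 5, 1, 2, 3, 5, 1, 0, 2, 1, 5], [2, 4, 3, 2, 1, 5, 1, 0, 2, 1, 3, 2, 4, 3, 5, 1, 0, 2, 1, 5], [2, 1, 4, 3, 5, 1, 0, 2, 1, 3, 2, 4, 3, 5, 1, 0, 2, 1, 5],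
  [5, 1, 0, 2, 1, 3, 2, 4, 3, 5, 1, 0, 2, 1, 3, 5, 1, 2, 3, 4], [5, 1, 0, 2, 1, 3, 2, 4, 3, 5, 1, 0, 2, 1, 3, 4, 5, 1, 2], [0, 5, 1, 0, 2, 1, 3, 2, 4, 3, 5, 1, 0, 2, 1, 3, 5, 1, 2, 3, 4], [0, 5, 1, 0, 2, 1, 3, 2, 4, 3, 5, 1, 0, 2, 1, 3, 4, 5, 1, 2]]

/-- A word for the chosen option. -/
def canonW712_2 : List ℕ := [1, 0, 2, 3, 2, 1]

/-- The surviving options with the changes leading to the chosen one. -/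
def gauge712_2 : List (ℕ × ℕ × ℕ) := [
  (10641540, 11035680, 11035680), (10576729, 11035680, 11032339)]

/-- The words of the chosen options. -/
def fixed712 : List (List ℕ) := [loop712_0 ++ canonW712_0.reverse, loop712_1 ++ canonW712_1.reverse, loop712_2 ++ canonW712_2.reverse]

/-- Words for the generators. -/
def genWd712_9 : List (List ℕ) := [
  [0, 2, 1, 3, 4, 3, 2, 5, 1, 2, 3, 4, 5, 1, 2], [2, 4],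
  [2, 1, 4, 3, 2, 5, 1, 2, 3, 4, 5, 1, 2, 5], [0, 3],
  [1, 2, 1, 3, 2, 1, 4, 3, 2, 1, 5, 1, 2, 3, 4, 5, 1, 2, 3, 5, 1, 2, 5, 1, 5], [0, 1, 2, 1, 3, 2, 1, 4, 3, 2, 1, 5, 1, 2, 3, 4, 5, 1, 2, 3, 5, 1, 2, 5, 1]]

/-- Words for the images. -/
def imgWd712_9 : List (List ℕ) := [
  [2, 4, 5], [2, 1, 3, 4, 3, 2, 5, 1, 2, 3, 4, 5, 1, 2],
  [0, 4], [3, 5],
  [0, 1, 2, 1, 3, 2, 1, 4, 3, 2, 1, 5, 1, 2, 3, 4, 5, 1, 2, 3, 5, 1, 2, 5, 1], [1, 2, 1, 3, 2, 1, 4, 3, 2, 1, 5, 1, 2, 3, 4, 5, 1, 2, 3, 5, 1, 2, 5, 1, 5]]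

/-- Words for the generators. -/
def genWd712_6 : List (List ℕ) := [
  [0, 2, 3, 2, 1, 4, 3, 2, 5, 1, 2, 3, 4, 5, 1, 2, 3], [0, 2, 4, 5],
  [1, 2, 1, 3, 2, 1, 5, 1, 2, 3, 4, 5, 1, 2, 3, 5, 1, 0, 2, 1, 5, 1, 2, 3], [3, 2, 1, 4, 3, 2, 5, 1, 2, 3, 4, 5, 1, 2, 3, 5, 1, 0, 2, 1, 5],
  [1, 2, 1, 3, 2, 1, 4, 3, 2, 1, 5, 1, 2, 3, 4, 5, 1, 2, 3, 5, 1, 2, 5, 1, 5], [0, 2, 3, 2, 1, 4, 3, 2, 1, 5, 1, 2, 3, 4, 5, 1, 2, 3]]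

/-- Words for the images. -/
def imgWd712_6 : List (List ℕ) := [
  [1, 2, 1, 3, 2, 1, 4, 3, 2, 5, 1, 2, 3, 4, 5, 1, 2, 3, 5, 1, 2, 5, 1, 5], [1, 2, 4, 5, 1, 2, 5, 1, 5],
  [0, 1, 2, 3, 2, 1, 4, 3, 2, 5, 1, 2, 3, 4, 5, 1, 2, 3, 5, 1, 2, 5, 1], [0, 1, 0, 2, 1, 0, 3, 2, 1, 4, 3, 2, 5, 1, 2, 3, 4, 5, 1, 2, 3],
  [0, 2, 3, 2, 1, 4, 3, 2, 1, 5, 1, 2, 3, 4, 5, 1, 2, 3], [1, 2, 1, 3, 2, 1, 4, 3, 2, 1, 5, 1, 2, 3, 4, 5, 1, 2, 3, 5, 1, 2, 5, 1, 5]]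


end Cfsg.Agent.Fus.SymSix
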