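import Mathlib

/-! Generated data for the centralizer of six transpositions. -/

set_option autoImplicit false
set_option maxRecDepth 100000

namespace Cfsg.Agent.Fus.SymSix

/-- A witness against options. -/
def relWit512_0 : ℕ × ℕ × ℕ × ℕ × ℕ × ℕ := (4815409, 4745747, 9, 9, 8790180, 10887557)

/-- A witness against options. -/
def relWit512_1 : ℕ × ℕ × ℕ × ℕ × ℕ × ℕ := (4815409, 4622867, 9, 9, 8790180, 10887557)

/-- A witness against options. -/
def relWit512_2 : ℕ × ℕ × ℕ × ℕ × ℕ × ℕ := (4815409, 4745747, 9, 9, 8790180, 10887300)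

/-- A witness against options. -/
def relWit512_5 : ℕ × ℕ × ℕ × ℕ × ℕ × ℕ := (4815409, 4692499, 9, 9, 8790180, 8659367)

/-- A witness against options. -/
def relWit712_0_0 : ℕ × ℕ × ℕ × ℕ × ℕ × ℕ := (4815362, 5671699, 6, 9, 8823840, 8790437)

/-- A witness against options. -/
def relWit712_1_0 : ℕ × ℕ × ℕ × ℕ × ℕ × ℕ := (4815362, 5671699, 6, 9, 8823840, 11018597)

/-- A witness against options. -/
def relWit712_1_1 : ℕ × ℕ × ℕ × ℕ × ℕ × ℕ := (4815379, 5671682, 6, 6, 8889377, 11035937)

/-- The elements central in the domain. -/
def zenList512_9 : List ℕ := [11035680, 11035650, 12154144, 12154114, 11035697, 11035667, 12154161, 12154131]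

/-- The elements central in the domain. -/
def zenList712_9 : List ℕ := [11035680, 11035650, 12154144, 12154114, 11035697, 11035667, 12154161, 12154131]

/-- The elements central in the domain. -/
def zenList712_6 : List ℕ := [11035680, 9069600, 11027970, 9061890, 12149792, 10183712, 12142082, 10176002, 11040049, 9073969, 11032339, 9066259, 12154161, 10188081, 12146451, 10180371]

/-- An odd permutation normalizing everything. -/
def oddC : ℕ := 11035936

end Cfsg.Agent.Fus.SymSix
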