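import Cfsg.Agent.Lib.Fus.SymSix.Exist
import Cfsg.Agent.Lib.Fus.SymSix.SwapData512_9
import Cfsg.Agent.Lib.Fus.SymSix.WitData

/-! Checks of the search at one representative and pattern. -/

set_option autoImplicit false
set_option maxRecDepth 100000
set_option Elab.async false

namespace Cfsg.Agent.Fus.SymSix

theorem psiOk512_9 : psiOk 512 9 psiGens512_9 psiImgs512_9 psiLevels512_9 psiLeaf512_9 psiFirst512_9 = true := by decide +kernel

theorem selfOk512_9 : selfOk 512 9 = true := by decide +kernel

/-- The maps of the options. -/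
def swapTrees512_9 : List CTree := [swapTree512_9_0, swapTree512_9_1, swapTree512_9_2, swapTree512_9_3, swapTree512_9_4, swapTree512_9_5]

theorem treeOk512_9_0 : treeOk 9 (psiGens512_9 ++ [zC, repC 9]) ((psiImgs512_9.getD 0 []) ++ [repC 9, zC]) swapTree512_9_0 = true := by decide +kernel

theorem treeOk512_9_1 : treeOk 9 (psiGens512_9 ++ [zC, repC 9]) ((psiImgs512_9.getD 1 []) ++ [repC 9, zC]) swapTree512_9_1 = true := by decide +kernel

theorem treeOk512_9_2 : treeOk 9 (psiGens512_9 ++ [zC, repC 9]) ((psiImgs512_9.getD 2 []) ++ [repC 9, zC]) swapTree512_9_2 = true := by decide +kernel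

theorem treeOk512_9_3 : treeOk 9 (psiGens512_9 ++ [zC, repC 9]) ((psiImgs512_9.getD 3 []) ++ [repC 9, zC]) swapTree512_9_3 = true := by decide +kernel

theorem treeOk512_9_4 : treeOk 9 (psiGens512_9 ++ [zC, repC 9]) ((psiImgs512_9.getD 4 []) ++ [repC 9, zC]) swapTree512_9_4 = true := by decide +kernel

theorem treeOk512_9_5 : treeOk 9 (psiGens512_9 ++ [zC, repC 9]) ((psiImgs512_9.getD 5 []) ++ [repC 9, zC]) swapTree512_9_5 = true := by decide +kernel

theorem treesOk512_9 : ∀ o < psiImgs512_9.length, treeOk 9 (psiGens512_9 ++ [zC, repC 9]) ((psiImgs512_9.getD o []) ++ [repC 9, zC]) (swapTrees512_9.getD o .leaf) = true := by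
  intro o ho
  have ho' : o < 6 := lt_of_lt_of_le ho (by decide +kernel)
  interval_cases o
  exacts [treeOk512_9_0, treeOk512_9_1, treeOk512_9_2, treeOk512_9_3, treeOk512_9_4, treeOk512_9_5]

theorem zen512_9_part0 : (((halvesList.drop 0).take 60).all fun p => flipList.all fun f => zenAt (psiGens512_9 ++ [zC, repC 9]) zenList512_9 (p + f)) = true := by
  decide +kernel

theorem zen512_9_part1 : (((halvesList.drop 60).take 60).all fun p => flipList.all fun f => zenAt (psiGens512_9 ++ [zC, repC 9]) zenList512_9 (p + f)) = true := by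
  decide +kernel

theorem zen512_9_part2 : (((halvesList.drop 120).take 60).all fun p => flipList.all fun f => zenAt (psiGens512_9 ++ [zC, repC 9]) zenList512_9 (p + f)) = true := by
  decide +kernel

theorem zen512_9_part3 : (((halvesList.drop 180).take 60).all fun p => flipList.all fun f => zenAt (psiGens512_9 ++ [zC, repC 9]) zenList512_9 (p + f)) = true := by
  decide +kernel

theorem zen512_9_part4 : (((halvesList.drop 240).take 60).all fun p => flipList.all fun f => zenAt (psiGens512_9 ++ [zC, repC 9]) zenList512_9 (p + f)) = true := by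
  decide +kernel

theorem zen512_9_part5 : (((halvesList.drop 300).take 60).all fun p => flipList.all fun f => zenAt (psiGens512_9 ++ [zC, repC 9]) zenList512_9 (p + f)) = true := by
  decide +kernel

theorem zen512_9_part6 : (((halvesList.drop 360).take 60).all fun p => flipList.all fun f => zenAt (psiGens512_9 ++ [zC, repC 9]) zenList512_9 (p + f)) = true := by
  decide +kernel

theorem zen512_9_part7 : (((halvesList.drop 420).take 60).all fun p => flipList.all fun f => zenAt (psiGens512_9 ++ [zC, repC 9]) zenList512_9 (p + f)) = true := by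
  decide +kernel

theorem zen512_9_part8 : (((halvesList.drop 480).take 60).all fun p => flipList.all fun f => zenAt (psiGens512_9 ++ [zC, repC 9]) zenList512_9 (p + f)) = true := by
  decide +kernel

theorem zen512_9_part9 : (((halvesList.drop 540).take 60).all fun p => flipList.all fun f => zenAt (psiGens512_9 ++ [zC, repC 9]) zenList512_9 (p + f)) = true := by
  decide +kernel

theorem zen512_9_part10 : (((halvesList.drop 600).take 60).all fun p => flipList.all fun f => zenAt (psiGens512_9 ++ [zC, repC 9]) zenList512_9 (p + f)) = true := by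
  decide +kernel

theorem zen512_9_part11 : (((halvesList.drop 660).take 60).all fun p => flipList.all fun f => zenAt (psiGens512_9 ++ [zC, repC 9]) zenList512_9 (p + f)) = true := by
  decide +kernel

theorem zen512_9 : ∀ c, Mem c → zenAt (psiGens512_9 ++ [zC, repC 9]) zenList512_9 c = true :=
  all_elems (fun j hj => by interval_cases j; exacts [zen512_9_part0, zen512_9_part1, zen512_9_part2, zen512_9_part3, zen512_9_part4, zen512_9_part5, zen512_9_part6, zen512_9_part7, zen512_9_part8, zen512_9_part9, zen512_9_part10, zen512_9_part11])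

theorem sqOk512_9 : sqOk 512 (psiGens512_9 ++ [zC, repC 9]) zenList512_9 swapTree512_9_3 = true := by decide +kernel

theorem invOk512_9 : invOk (psiGens512_9 ++ [zC, repC 9]) ((psiImgs512_9.getD 3 []) ++ [repC 9, zC]) swapTree512_9_3 = true := by decide +kernel

end Cfsg.Agent.Fus.SymSix
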