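import Cfsg.Agent.Lib.Fus.SymSix.Tree

/-! Generated data for the centralizer of six transpositions. -/

set_option autoImplicit false
set_option maxRecDepth 100000

namespace Cfsg.Agent.Fus.SymSix

/-- The generators. -/
def psiGens520_3 : List ℕ := [
  9061937, 2119592, 11035697, 4622880]

/-- The images of the options. -/
def psiImgs520_3 : List (List ℕ) := []

/-- The candidates and tests of each generator. -/
def psiLevels520_3 : List (List ℕ × List (List ℕ × ℕ)) := [
  ([161162, 9061920, 9061937, 11035697], []),
  ([156810, 1270939, 2122920, 3237049, 4622880, 5741344, 6596640, 7715104, 10180384, 10180401, 10183699, 10188051, 11010630, 11014999, 11018340, 11022709, 11032339, 11040049, 12146451, 12149809, 12154144], [([0, 1, 0, 1], 8)]),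
  ([161162, 1275291, 2127272, 3241401, 4622897, 5741361, 6596657, 7715121, 9061920, 9061937, 9069570, 9073922, 11027970, 11035697, 11040032, 12124742, 12129111, 12132452, 12136821, 12142082, 12149792], []),
  ([153482, 1267611, 2119592, 3233721, 4622867, 5741331, 6596627, 7715091, 9061907, 9066242, 9069600, 10158662, 10163031, 10166372, 10170741, 10176002, 10183712, 11028000, 11032352, 11035650, 11035667], [])]

/-- The surviving tuples. -/
def psiLeaf520_3 : List (List ℕ × ℕ × ℕ) := []

/-- Reducing the first candidates. -/
def psiFirst520_3 : List (ℕ × ℕ) := [
  (161162, 11035680), (1275291, 12149792), (2127272, 9069600), (3241401, 10183712), (4622897, 11018340), (5741361, 12132452),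
  (6596657, 9052260), (7715121, 10166372), (9061920, 11035680), (9061937, 11035680), (9069570, 11018340), (9073922, 11018340),
  (11027970, 2140260), (11035697, 11035680), (11040032, 11018340), (12124742, 6596640), (12129111, 6600992), (12132452, 6588960),
  (12136821, 6593312), (12142082, 2140260), (12149792, 2140260)]


end Cfsg.Agent.Fus.SymSix
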