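import Cfsg.Agent.Lib.Fus.SymSix.Tree

/-! Generated data for the centralizer of six transpositions. -/

set_option autoImplicit false
set_option maxRecDepth 100000

namespace Cfsg.Agent.Fus.SymSix

/-- The generators. -/
def psiGens640_7 : List ℕ := [
  6662402, 12142099, 10166372]

/-- The images of the options. -/
def psiImgs640_7 : List (List ℕ) := []

/-- The candidates and tests of each generator. -/
def psiLevels640_7 : List (List ℕ × List (List ℕ × ℕ)) := [
  ([214682, 9061907, 9073969, 10188081], []),
  ([9061920, 9061937, 9069570, 9069617, 9073922, 9073952, 10180384, 10180401, 10183699, 10183729, 10188051, 10188064, 11027987, 11028017, 11032322, 11032369, 11040002, 11040019, 12142099, 12142112, 12146434, 12146464, 12149762, 12149779], [([0, 1, 0, 1], 8)]),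
  ([214682, 1197707, 2180777, 3163832, 4692482, 5671682, 6662402, 7649282, 9061907, 9066242, 9073969, 10158662, 10163031, 10166372, 10170741, 10180371, 10188081, 12142129, 12146481, 12154114, 12154131], [])]

/-- The surviving tuples. -/
def psiLeaf640_7 : List (List ℕ × ℕ × ℕ) := []

/-- Reducing the first candidates. -/
def psiFirst640_7 : List (ℕ × ℕ) := [
  (214682, 11035680), (1197707, 9069570), (2180777, 11035650), (3163832, 9069600), (4692482, 11018340), (5671682, 9044580),
  (6662402, 11010660), (7649282, 9052260), (9061907, 11035680), (9066242, 11018340), (9073969, 11035680), (10158662, 7645472),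
  (10163031, 7649312), (10166372, 7641632), (10170741, 7637792), (10180371, 7649312), (10188081, 11035680), (12142129, 7649312),
  (12146481, 7649312), (12154114, 7610552), (12154131, 7610552)]


end Cfsg.Agent.Fus.SymSix
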