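import Cfsg.Agent.Lib.Fus.SymSix.Exist
import Cfsg.Agent.Lib.Fus.SymSix.SwapData640_7
import Cfsg.Agent.Lib.Fus.SymSix.WitData

/-! Checks of the search at one representative and pattern. -/

set_option autoImplicit false
set_option maxRecDepth 100000
set_option Elab.async false

namespace Cfsg.Agent.Fus.SymSix

theorem psiOk640_7 : psiOk 640 7 psiGens640_7 psiImgs640_7 psiLevels640_7 psiLeaf640_7 psiFirst640_7 = true := by decide +kernel

theorem selfOk640_7 : selfOk 640 7 = true := by decide +kernel

end Cfsg.Agent.Fus.SymSix
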