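import Cfsg.Agent.Lib.Fus.SymSix.Exist
import Cfsg.Agent.Lib.Fus.SymSix.SwapData712_9
import Cfsg.Agent.Lib.Fus.SymSix.WitData

/-! Checks of the search at one representative and pattern. -/

set_option autoImplicit false
set_option maxRecDepth 100000
set_option Elab.async false

namespace Cfsg.Agent.Fus.SymSix

theorem psiOk712_9 : psiOk 712 9 psiGens712_9 psiImgs712_9 psiLevels712_9 psiLeaf712_9 psiFirst712_9 = true := by decide +kernel

theorem selfOk712_9 : selfOk 712 9 = true := by decide +kernel

/-- The maps of the options. -/
def swapTrees712_9 : List CTree := [swapTree712_9_0, swapTree712_9_1]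

theorem treeOk712_9_0 : treeOk 9 (psiGens712_9 ++ [zC, repC 9]) ((psiImgs712_9.getD 0 []) ++ [repC 9, zC]) swapTree712_9_0 = true := by decide +kernel

theorem treeOk712_9_1 : treeOk 9 (psiGens712_9 ++ [zC, repC 9]) ((psiImgs712_9.getD 1 []) ++ [repC 9, zC]) swapTree712_9_1 = true := by decide +kernel

theorem treesOk712_9 : ∀ o < psiImgs712_9.length, treeOk 9 (psiGens712_9 ++ [zC, repC 9]) ((psiImgs712_9.getD o []) ++ [repC 9, zC]) (swapTrees712_9.getD o .leaf) = true := by
  intro o ho
  have ho' : o < 2 := lt_of_lt_of_le ho (by decide +kernel)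
  interval_cases o
  exacts [treeOk712_9_0, treeOk712_9_1]

theorem zen712_9_part0 : (((halvesList.drop 0).take 60).all fun p => flipList.all fun f => zenAt (psiGens712_9 ++ [zC, repC 9]) zenList712_9 (p + f)) = true := by
  decide +kernel

theorem zen712_9_part1 : (((halvesList.drop 60).take 60).all fun p => flipList.all fun f => zenAt (psiGens712_9 ++ [zC, repC 9]) zenList712_9 (p + f)) = true := by
  decide +kernel

theorem zen712_9_part2 : (((halvesList.drop 120).take 60).all fun p => flipList.all fun f => zenAt (psiGens712_9 ++ [zC, repC 9]) zenList712_9 (p + f)) = true := by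
  decide +kernel

theorem zen712_9_part3 : (((halvesList.drop 180).take 60).all fun p => flipList.all fun f => zenAt (psiGens712_9 ++ [zC, repC 9]) zenList712_9 (p + f)) = true := by
  decide +kernel

theorem zen712_9_part4 : (((halvesList.drop 240).take 60).all fun p => flipList.all fun f => zenAt (psiGens712_9 ++ [zC, repC 9]) zenList712_9 (p + f)) = true := by
  decide +kernel

theorem zen712_9_part5 : (((halvesList.drop 300).take 60).all fun p => flipList.all fun f => zenAt (psiGens712_9 ++ [zC, repC 9]) zenList712_9 (p + f)) = true := by
  decide +kernel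

theorem zen712_9_part6 : (((halvesList.drop 360).take 60).all fun p => flipList.all fun f => zenAt (psiGens712_9 ++ [zC, repC 9]) zenList712_9 (p + f)) = true := by
  decide +kernel

theorem zen712_9_part7 : (((halvesList.drop 420).take 60).all fun p => flipList.all fun f => zenAt (psiGens712_9 ++ [zC, repC 9]) zenList712_9 (p + f)) = true := by
  decide +kernel

theorem zen712_9_part8 : (((halvesList.drop 480).take 60).all fun p => flipList.all fun f => zenAt (psiGens712_9 ++ [zC, repC 9]) zenList712_9 (p + f)) = true := by
  decide +kernel

theorem zen712_9_part9 : (((halvesList.drop 540).take 60).all fun p => flipList.all fun f => zenAt (psiGens712_9 ++ [zC, repC 9]) zenList712_9 (p + f)) = true := by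
  decide +kernel

theorem zen712_9_part10 : (((halvesList.drop 600).take 60).all fun p => flipList.all fun f => zenAt (psiGens712_9 ++ [zC, repC 9]) zenList712_9 (p + f)) = true := by
  decide +kernel

theorem zen712_9_part11 : (((halvesList.drop 660).take 60).all fun p => flipList.all fun f => zenAt (psiGens712_9 ++ [zC, repC 9]) zenList712_9 (p + f)) = true := by
  decide +kernel

theorem zen712_9 : ∀ c, Mem c → zenAt (psiGens712_9 ++ [zC, repC 9]) zenList712_9 c = true :=
  all_elems (fun j hj => by interval_cases j; exacts [zen712_9_part0, zen712_9_part1, zen712_9_part2, zen712_9_part3, zen712_9_part4, zen712_9_part5, zen712_9_part6, zen712_9_part7, zen712_9_part8, zen712_9_part9, zen712_9_part10, zen712_9_part11])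

theorem sqOk712_9 : sqOk 712 (psiGens712_9 ++ [zC, repC 9]) zenList712_9 swapTree712_9_0 = true := by decide +kernel

theorem invOk712_9 : invOk (psiGens712_9 ++ [zC, repC 9]) ((psiImgs712_9.getD 0 []) ++ [repC 9, zC]) swapTree712_9_0 = true := by decide +kernel

end Cfsg.Agent.Fus.SymSix
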