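import Cfsg.Agent.Lib.Fus.SymSix.Tree

/-! Generated data for the centralizer of six transpositions. -/

set_option autoImplicit false
set_option maxRecDepth 100000

namespace Cfsg.Agent.Fus.SymSix

/-- The generators. -/
def psiGens8_3 : List ℕ := [
  2119592, 11035697, 1263259, 4622880]

/-- The images of the options. -/
def psiImgs8_3 : List (List ℕ) := []

/-- The candidates and tests of each generator. -/
def psiLevels8_3 : List (List ℕ × List (List ℕ × ℕ)) := [
  ([156810, 11040049], []),
  ([161162, 1275291, 2127272, 3241401, 4622897, 5741361, 6596657, 7715121, 11035697, 11040032, 12124742, 12129111, 12132452, 12136821, 12149792], [([0, 1, 0, 1], 8)]),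
  ([149130, 1263259, 2115240, 3229369, 4622850, 5741314, 6596610, 7715074, 9044550, 9048919, 9052260, 9056629, 9066259, 10176019, 10180354], []),
  ([153482, 1267611, 2119592, 3233721, 4622867, 5741331, 6596627, 7715091, 9061907, 9066242, 10158662, 10163031, 10166372, 10170741, 10176002], [])]

/-- The surviving tuples. -/
def psiLeaf8_3 : List (List ℕ × ℕ × ℕ) := []

/-- Reducing the first candidates. -/
def psiFirst8_3 : List (ℕ × ℕ) := [
  (156810, 11035680), (1270939, 12149792), (2122920, 9069600), (3237049, 10183712), (4622880, 11018340), (5741344, 12132452),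
  (6596640, 9052260), (7715104, 10166372), (11010630, 6596640), (11014999, 6600992), (11018340, 6588960), (11022709, 6593312),
  (11040049, 11035680), (12149809, 6596640), (12154144, 6561960)]


end Cfsg.Agent.Fus.SymSix
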