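import Cfsg.Agent.Lib.Fus.SymSix.Exist
import Cfsg.Agent.Lib.Fus.SymSix.SwapData8_3
import Cfsg.Agent.Lib.Fus.SymSix.WitData

/-! Checks of the search at one representative and pattern. -/

set_option autoImplicit false
set_option maxRecDepth 100000
set_option Elab.async false

namespace Cfsg.Agent.Fus.SymSix

theorem psiOk8_3 : psiOk 8 3 psiGens8_3 psiImgs8_3 psiLevels8_3 psiLeaf8_3 psiFirst8_3 = true := by decide +kernel

theorem selfOk8_3 : selfOk 8 3 = true := by decide +kernel

end Cfsg.Agent.Fus.SymSix
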