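import Cfsg.Agent.Lib.Fus.SymSix.Outer
import Cfsg.Agent.Lib.Fus.SymSix.SwapRun512_9
import Cfsg.Agent.Lib.Fus.SymSix.SwapRun712_9
import Cfsg.Agent.Lib.Fus.SymSix.SwapRun712_6
import Cfsg.Agent.Lib.Fus.SymSix.SwapRun8_3
import Cfsg.Agent.Lib.Fus.SymSix.SwapRun520_3
import Cfsg.Agent.Lib.Fus.SymSix.SwapRun640_7

/-!
# The two patterns and their swapping involutions
-/

set_option autoImplicit false
set_option maxRecDepth 100000

namespace Cfsg.Agent.Fus.SymSix

/-- A witness from its numbers. -/
def toWit (p : ℕ × ℕ × ℕ × ℕ × ℕ × ℕ) : RelWit :=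
  ⟨p.1, p.2.1, p.2.2.1, p.2.2.2.1, p.2.2.2.2.1, p.2.2.2.2.2⟩

theorem kill512_0 : relBad swapTree512_9_0 swapTree512_9_0 swapTree512_9_0 (toWit relWit512_0) = true := by
  decide +kernel

theorem kill512_1 : relBad swapTree512_9_1 swapTree512_9_1 swapTree512_9_1 (toWit relWit512_1) = true := by
  decide +kernel

theorem kill512_2 : relBad swapTree512_9_2 swapTree512_9_2 swapTree512_9_2 (toWit relWit512_2) = true := by
  decide +kernel

theorem kill512_5 : relBad swapTree512_9_5 swapTree512_9_5 swapTree512_9_5 (toWit relWit512_5) = true := by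
  decide +kernel

theorem kill712_00 : relBad swapTree712_9_0 swapTree712_6_0 swapTree712_9_0 (toWit relWit712_0_0) = true := by
  decide +kernel

theorem kill712_10 : relBad swapTree712_9_1 swapTree712_6_0 swapTree712_9_1 (toWit relWit712_1_0) = true := by
  decide +kernel

theorem kill712_11 : relBad swapTree712_9_1 swapTree712_6_1 swapTree712_6_1 (toWit relWit712_1_1) = true := by
  decide +kernel

theorem nu512 : nuOk swapTree512_9_4 swapTree512_9_3 = true := by decide +kernel

/-- The fusion is preserved at one class. -/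
noncomputable def nuMaskAt (i : ℕ) : Bool :=
  Nat.blt (clsF (nuC (repC i))) noVal && (inMask 512 (clsF (nuC (repC i))) == inMask 512 i)

theorem nu_mask : ((List.range 10).all nuMaskAt) = true := by decide +kernel

theorem tau_mask : ([2, 128, 10, 130, 202].all fun m => [8, 520, 640, 512, 712].any fun m' =>
    (List.range 10).all fun i => inMask m' i == inMask m (tauCls.getD i 0)) = true := by decide +kernel

namespace Loc

variable {G : Type*} [Group G] {z : G} {I : ℕ → G} (L : Loc z I)
include L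

theorem mask_twisted {m m' : ℕ} (hm : ∀ k < noVal, inMask m k = true ↔ IsConj (I (repC k)) z)
    (h : ((List.range 10).all fun i => inMask m' i == inMask m (tauCls.getD i 0)) = true) :
    ∀ k < noVal, inMask m' k = true ↔ IsConj (I (tauC (repC k))) z := by
  intro k hk
  have := List.all_eq_true.1 h k (List.mem_range.2 hk)
  rw [beq_iff_eq] at this
  rw [this, L.fused_twisted hk, hm _ ((show ∀ i < 10, tauCls.getD i 0 < 10 by decide) k hk)]

/-- The data of the first pattern. -/
theorem swaps512 (hm : ∀ k < noVal, inMask 512 k = true ↔ IsConj (I (repC k)) z) :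
    ∃ I', Loc z I' ∧ (∀ k < noVal, inMask 512 k = true ↔ IsConj (I' (repC k)) z) ∧
      ∃ a, Swap I' a swapTree512_9_3 := by
  obtain ⟨o, ho, g, hg⟩ := L.exists_option hm selfOk512_9 psiOk512_9 treesOk512_9
  have ho' : o < 6 := lt_of_lt_of_le ho (by decide +kernel)
  interval_cases o
  · exact (L.rel_kill hg hg hg kill512_0).elim
  · exact (L.rel_kill hg hg hg kill512_1).elim
  · exact (L.rel_kill hg hg hg kill512_2).elim
  · exact ⟨I, L, hm, L.exists_swap_inv hm treeOk512_9_3 invOk512_9 hg zen512_9 sqOk512_9⟩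
  · have L' := L.outer
    have hm' : ∀ k < noVal, inMask 512 k = true ↔ IsConj (I (nuC (repC k))) z := by
      intro k hk
      have := List.all_eq_true.1 nu_mask k (List.mem_range.2 hk)
      simp only [nuMaskAt, Bool.and_eq_true, Nat.blt_eq, beq_iff_eq] at this
      rw [← this.2, L.fused_cls (Mem.rep k).nu.1, hm _ this.1]
      exact ⟨fun h => ⟨this.1, h⟩, fun h => h.2⟩
    have hg' : Acts (fun c => I (nuC c)) g swapTree512_9_3 := Loc.acts_outer hg nu512
    exact ⟨_, L', hm', L'.exists_swap_inv hm' treeOk512_9_3 invOk512_9 hg' zen512_9 sqOk512_9⟩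
  · exact (L.rel_kill hg hg hg kill512_5).elim

/-- The data of the second pattern. -/
theorem swaps712 (hm : ∀ k < noVal, inMask 712 k = true ↔ IsConj (I (repC k)) z) :
    ∃ a b, Swap I a swapTree712_9_0 ∧ Swap I b swapTree712_6_1 := by
  obtain ⟨o, ho, g, hg⟩ := L.exists_option hm selfOk712_9 psiOk712_9 treesOk712_9
  obtain ⟨o', ho'', g', hg'⟩ := L.exists_option hm selfOk712_6 psiOk712_6 treesOk712_6
  have h1 : o < 2 := lt_of_lt_of_le ho (by decide +kernel)
  have h2 : o' < 2 := lt_of_lt_of_le ho'' (by decide +kernel)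
  interval_cases o <;> interval_cases o'
  · exact (L.rel_kill hg hg' hg kill712_00).elim
  · obtain ⟨a, ha⟩ := L.exists_swap_inv hm treeOk712_9_0 invOk712_9 hg zen712_9 sqOk712_9
    obtain ⟨b, hb⟩ := L.exists_swap_inv hm treeOk712_6_1 invOk712_6 hg' zen712_6 sqOk712_6
    exact ⟨a, b, ha, hb⟩
  · exact (L.rel_kill hg hg' hg kill712_10).elim
  · exact (L.rel_kill hg hg' hg' kill712_11).elim

/-- Nothing fused, or one of two patterns. -/
theorem patterns : (∀ i < noVal, i ≠ 0 → ¬ IsConj (I (repC i)) z) ∨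
    ∃ I' : ℕ → G, Loc z I' ∧
      (((∀ k < noVal, inMask 512 k = true ↔ IsConj (I' (repC k)) z) ∧ ∃ a, Swap I' a swapTree512_9_3) ∨
      ((∀ k < noVal, inMask 712 k = true ↔ IsConj (I' (repC k)) z) ∧
        ∃ a b, Swap I' a swapTree712_9_0 ∧ Swap I' b swapTree712_6_1)) := by
  obtain ⟨m, hmem, hm⟩ := L.exists_mask
  have main : ∀ {I : ℕ → G} (_ : Loc z I) (m : ℕ), m ∈ [8, 520, 640, 512, 712] →
      (∀ k < noVal, inMask m k = true ↔ IsConj (I (repC k)) z) →
      ∃ I' : ℕ → G, Loc z I' ∧
        (((∀ k < noVal, inMask 512 k = true ↔ IsConj (I' (repC k)) z) ∧ ∃ a, Swap I' a swapTree512_9_3) ∨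
        ((∀ k < noVal, inMask 712 k = true ↔ IsConj (I' (repC k)) z) ∧
          ∃ a b, Swap I' a swapTree712_9_0 ∧ Swap I' b swapTree712_6_1)) := by
    intro I L m hmem hm
    simp only [List.mem_cons, List.not_mem_nil, or_false] at hmem
    rcases hmem with rfl | rfl | rfl | rfl | rfl
    · exact (L.no_option hm selfOk8_3 psiOk8_3).elim
    · exact (L.no_option hm selfOk520_3 psiOk520_3).elim
    · exact (L.no_option hm selfOk640_7 psiOk640_7).elim
    · obtain ⟨I', L', hm', ha⟩ := L.swaps512 hm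
      exact ⟨I', L', Or.inl ⟨hm', ha⟩⟩
    · exact ⟨I, L, Or.inr ⟨hm, L.swaps712 hm⟩⟩
  rcases eq_or_ne m 0 with rfl | h0
  · refine Or.inl fun i hi hi0 h => ?_
    have := (hm i hi).2 h
    simp [inMask, hi0] at this
  right
  by_cases hin : m ∈ [8, 520, 640, 512, 712]
  · exact main L m hin hm
  · have hm2 : m ∈ [2, 128, 10, 130, 202] := by
      simp only [maskList, List.mem_cons, List.not_mem_nil, or_false, not_or] at hmem hin ⊢
      omega
    obtain ⟨m', hm'1, hm'2⟩ := List.any_eq_true.1 (List.all_eq_true.1 tau_mask m hm2)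
    exact main L.twisted m' hm'1 (L.mask_twisted hm hm'2)

end Loc

end Cfsg.Agent.Fus.SymSix
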