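import Cfsg.Agent.Lib.Fus.SymSix.Bound
import Cfsg.Agent.Lib.Fus.SymSix.Swaps
import Cfsg.Agent.Lib.Fus.SymSix.RelData
import Cfsg.Agent.Lib.Fus.SymSix.ModelData

/-!
# The alternating group as a group of the second pattern
-/

set_option autoImplicit false
set_option maxRecDepth 100000
set_option Elab.async false

namespace Cfsg.Agent.Fus.SymSix

open Cfsg.Agent.Spor.Cos (force force_eq ev ev_append ev_mem)

/-- The trivial words of the second pattern. -/
def base712 : List (List ℕ) := baseC712.map Prod.fst ++ fixed712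

/-- The image of a point under a letter. -/
def letPt (s x : ℕ) : ℕ :=
  bif Nat.blt s 6 then app (gensH.getD s oneC) x else bif Nat.beq s 6 then altA.getD x 0 else altB.getD x 0

/-- The image of a point under a word. -/
def goP : List ℕ → ℕ → ℕ
  | [], x => x
  | s :: w, x => force (goP w x) fun y => letPt s y

/-- A permutation from a list of values. -/
noncomputable def permL (l : List ℕ) : Equiv.Perm (Fin 12) :=
  if h : Function.Injective (fun x : Fin 12 => (⟨l.getD x 0 % 12, Nat.mod_lt _ (by norm_num)⟩ : Fin 12)) then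
    Equiv.ofBijective _ (Finite.injective_iff_bijective.1 h) else 1

theorem altA_ok : Equiv.Perm.sign (permL altA) = 1 ∧ ∀ x : Fin 12, (permL altA x : ℕ) = altA.getD x 0 := by
  decide +kernel

theorem altB_ok : Equiv.Perm.sign (permL altB) = 1 ∧ ∀ x : Fin 12, (permL altB x : ℕ) = altB.getD x 0 := by
  decide +kernel

/-- The first swapping involution. -/
noncomputable def aA : alternatingGroup (Fin 12) := ⟨permL altA, altA_ok.1⟩

/-- The second swapping involution. -/
noncomputable def bA : alternatingGroup (Fin 12) := ⟨permL altB, altB_ok.1⟩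

open Classical in
/-- The coordinates of the centralizer in the alternating group. -/
noncomputable def altI (c : ℕ) : alternatingGroup (Fin 12) :=
  if h : Mem c then ⟨toPerm c, h.toPerm_mem.1⟩ else 1

theorem altI_val {c : ℕ} (h : Mem c) : (altI c : Equiv.Perm (Fin 12)) = toPerm c := by
  rw [altI, dif_pos h]

theorem altI_hom (a b : ℕ) (ha : Mem a) (hb : Mem b) : altI (mulC a b) = altI a * altI b :=
  Subtype.ext (by rw [Subgroup.coe_mul, altI_val (ha.mul hb), altI_val ha, altI_val hb, toPerm_mul ha hb])

theorem letter_apply {s : ℕ} (hs : s < 8) (x : Fin 12) :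
    (((gW altI aA bA s : alternatingGroup (Fin 12)) : Equiv.Perm (Fin 12)) x : ℕ) = letPt s x := by
  unfold gW letPt
  by_cases h : s < 6
  · rw [if_pos h, Nat.blt_eq.mpr h, cond_true, altI_val (gen_mem s), toPerm_apply (gen_mem s)]
  rw [if_neg h, show Nat.blt s 6 = false from Bool.eq_false_iff.2 fun e => h (Nat.blt_eq.mp e), cond_false]
  by_cases h6 : s = 6
  · rw [if_pos h6, show Nat.beq s 6 = true from Nat.beq_eq.mpr h6, cond_true]
    exact altA_ok.2 x
  · rw [if_neg h6, show Nat.beq s 6 = false from Bool.eq_false_iff.2 fun e => h6 (Nat.eq_of_beq_eq_true e),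
      cond_false]
    exact altB_ok.2 x

theorem word_apply : ∀ (w : List ℕ), (∀ s ∈ w, s < 8) → ∀ x : Fin 12,
    (((ev (gW altI aA bA) w : alternatingGroup (Fin 12)) : Equiv.Perm (Fin 12)) x : ℕ) = goP w x
  | [], _, x => by simp [ev, goP]
  | s :: w, h, x => by
    rw [goP, force_eq, show ev (gW altI aA bA) (s :: w) = gW altI aA bA s * ev (gW altI aA bA) w from rfl,
      Subgroup.coe_mul, Equiv.Perm.mul_apply, letter_apply (h s (List.mem_cons_self ..)),
      word_apply w (fun t ht => h t (List.mem_cons_of_mem _ ht)) x]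

theorem eq_of_goP {v w : List ℕ} (hv : ∀ s ∈ v, s < 8) (hw : ∀ s ∈ w, s < 8)
    (h : ∀ x < 12, goP v x = goP w x) : ev (gW altI aA bA) v = ev (gW altI aA bA) w :=
  Subtype.ext (Equiv.ext fun x => Fin.ext (by rw [word_apply v hv, word_apply w hw, h x x.2]))

/-- The checks of a swapping involution in the alternating group. -/
def swapA_ok (s : ℕ) (gw iw : List (List ℕ)) : Bool :=
  ((gw ++ iw).all fun w => w.all fun t => Nat.blt t 6) && Nat.beq gw.length iw.length &&
    (List.range 12).all (fun x => Nat.beq (goP [s, s] x) x) &&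
      (gw.zip iw).all fun p => (List.range 12).all fun x => Nat.beq (goP ([s] ++ p.1 ++ [s]) x) (goP p.2 x)

theorem alt_swap {s i : ℕ} (hs : s = 6 ∨ s = 7) {gens imgs : List ℕ} {t : CTree} (hok : treeOk i gens imgs t = true)
    {gw iw : List (List ℕ)} (hg : (gw.map wC == gens) = true) (hi : (iw.map wC == imgs) = true)
    (h : swapA_ok s gw iw = true) (hI : ∀ w : List ℕ, (∀ t ∈ w, t < 6) → ev (gW altI aA bA) w = altI (wC w)) :
    Swap altI (gW altI aA bA s) t := by
  simp only [swapA_ok, Bool.and_eq_true, List.all_eq_true, List.mem_range, Nat.beq_eq, Nat.blt_eq] at h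
  obtain ⟨⟨⟨hl, hlen⟩, hsq⟩, hmap⟩ := h
  have hs8 : s < 8 := by omega
  have hss : ∀ t ∈ [s, s], t < 8 := fun t ht => by simp at ht; omega
  have hsq' : gW altI aA bA s * gW altI aA bA s = 1 := by
    have := eq_of_goP (v := [s, s]) (w := []) hss (by simp) hsq
    simpa [ev] using this
  refine ⟨hsq', acts_of_gens altI_hom hok fun j hj => ?_⟩
  rw [← eq_of_beq hg, List.length_map] at hj
  rw [← eq_of_beq hg, ← eq_of_beq hi, List.getD_eq_getElem _ _ (by rw [List.length_map]; exact hj),
    List.getD_eq_getElem _ _ (by rw [List.length_map]; omega), List.getElem_map, List.getElem_map,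
    ← hI _ (hl _ (List.mem_append_left _ (List.getElem_mem _))),
    ← hI _ (hl _ (List.mem_append_right _ (List.getElem_mem _))), inv_eq_of_mul_eq_one_left hsq']
  have hz : j < (gw.zip iw).length := by rw [List.length_zip]; omega
  have := hmap _ (List.getElem_mem hz)
  rw [List.getElem_zip] at this
  have e := eq_of_goP (fun t ht => by
      simp only [List.mem_append, List.mem_singleton] at ht
      rcases ht with (rfl | ht) | rfl
      · exact hs8
      · have := hl _ (List.mem_append_left _ (List.getElem_mem (h := hj))) t ht; omega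
      · exact hs8)
    (fun t ht => by
      have := hl _ (List.mem_append_right _ (List.getElem_mem (h := hlen ▸ hj))) t ht; omega) this
  simpa [ev, ev_append, mul_assoc] using e

theorem altI_one : altI oneC = 1 := Subtype.ext (by rw [altI_val mem_one, toPerm_one]; rfl)

theorem alt_wC : ∀ w : List ℕ, (∀ t ∈ w, t < 6) → ev (gW altI aA bA) w = altI (wC w)
  | [], _ => altI_one.symm
  | s :: w, h => by
    show gW altI aA bA s * ev (gW altI aA bA) w = altI (mulC _ _)
    rw [alt_wC w (fun t ht => h t (List.mem_cons_of_mem _ ht)), altI_hom _ _ (gen_mem s) (mem_wC w), gW,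
      if_pos (h s (List.mem_cons_self ..))]

theorem swapA : swapA_ok 6 genWd712_9 imgWd712_9 = true ∧ swapA_ok 7 genWd712_6 imgWd712_6 = true ∧
    (genWd712_9.map wC == psiGens712_9 ++ [zC, repC 9]) = true ∧
    (imgWd712_9.map wC == (psiImgs712_9.getD 0 []) ++ [repC 9, zC]) = true ∧
    (genWd712_6.map wC == psiGens712_6 ++ [zC, repC 6]) = true ∧
    (imgWd712_6.map wC == (psiImgs712_6.getD 1 []) ++ [repC 6, zC]) = true := by decide +kernel

theorem altRels_ok : (base712.all fun r => (r.all fun s => Nat.blt s 8) &&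
    (List.range 12).all fun x => Nat.beq (goP r x) x) = true := by decide +kernel

theorem sit712 : Sit altI aA bA swapTree712_9_0 swapTree712_6_1 base712 := by
  obtain ⟨h1, h2, g1, g2, g3, g4⟩ := swapA
  refine ⟨⟨altI_hom, alt_swap (Or.inl rfl) treeOk712_9_0 g1 g2 h1 alt_wC,
    alt_swap (Or.inr rfl) treeOk712_6_1 g3 g4 h2 alt_wC⟩, fun r hr => ?_⟩
  have := List.all_eq_true.1 altRels_ok r hr
  simp only [Bool.and_eq_true, List.all_eq_true, List.mem_range, Nat.beq_eq, Nat.blt_eq] at this
  exact eq_of_goP (w := []) this.1 (by simp) this.2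

/-- The check of a word for a three-cycle. -/
def cycAt (a b c : ℕ) : Bool :=
  Nat.beq a b || Nat.beq a c || Nat.beq b c || force ((cycIdx.getD (12 * a + b) []).getD c 0) fun i =>
    (fun w : List ℕ => w.all (fun s => Nat.blt s 8) && (List.range 12).all fun x =>
      Nat.beq (goP w x) (bif Nat.beq x a then b else bif Nat.beq x b then c else bif Nat.beq x c then a else x))
      (cycWords.getD i [])

theorem cyc_part0 : ((List.range 4).all fun a => (List.range 12).all fun b => (List.range 12).all (cycAt a b)) = true := by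
  decide +kernel

theorem cyc_part1 : ((List.range 4).all fun a => (List.range 12).all fun b =>
    (List.range 12).all (cycAt (a + 4) b)) = true := by decide +kernel

theorem cyc_part2 : ((List.range 4).all fun a => (List.range 12).all fun b =>
    (List.range 12).all (cycAt (a + 8) b)) = true := by decide +kernel

theorem cyc_all {a b c : ℕ} (ha : a < 12) (hb : b < 12) (hc : c < 12) : cycAt a b c = true := by
  have h0 := cyc_part0; have h1 := cyc_part1; have h2 := cyc_part2
  simp only [List.all_eq_true, List.mem_range] at h0 h1 h2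
  rcases Nat.lt_or_ge a 4 with h | h
  · exact h0 a h b hb c hc
  rcases Nat.lt_or_ge a 8 with h' | h'
  · have := h1 (a - 4) (by omega) b hb c hc
    rwa [show a - 4 + 4 = a by omega] at this
  · have := h2 (a - 8) (by omega) b hb c hc
    rwa [show a - 8 + 8 = a by omega] at this

theorem alt_gen : genGrp altI aA bA = ⊤ := by
  suffices h : alternatingGroup (Fin 12) ≤ (genGrp altI aA bA).map (alternatingGroup (Fin 12)).subtype by
    refine eq_top_iff.2 fun x _ => ?_
    obtain ⟨y, hy, e⟩ := Subgroup.mem_map.1 (h x.2)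
    rwa [← Subtype.ext e]
  refine le_trans (le_of_eq Equiv.Perm.closure_three_cycles_eq_alternating.symm) ((Subgroup.closure_le _).2 ?_)
  intro σ hσ
  obtain ⟨a, ha⟩ : σ.support.Nonempty := by
    rw [← Finset.card_pos, Equiv.Perm.IsThreeCycle.card_support hσ]; norm_num
  have hfix := (Equiv.Perm.IsThreeCycle.support_eq_iff_mem_support hσ).2 ha
  have hnd := (Equiv.Perm.IsThreeCycle.nodup_iff_mem_support hσ).2 ha
  simp only [List.nodup_cons, List.mem_cons, List.not_mem_nil, or_false, not_or, not_false_eq_true,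
    List.nodup_nil, and_true] at hnd
  obtain ⟨⟨hab, hac⟩, hbc⟩ := hnd
  have h := cyc_all a.2 (σ a).2 (σ (σ a)).2
  simp only [cycAt, force_eq, Bool.or_eq_true, Bool.and_eq_true, List.all_eq_true, List.mem_range, Nat.beq_eq,
    Nat.blt_eq, Fin.val_inj] at h
  have h' := h.resolve_left (by tauto)
  set w := cycWords.getD ((cycIdx.getD (12 * (a : ℕ) + (σ a : ℕ)) []).getD (σ (σ a) : ℕ) 0) []
  refine Subgroup.mem_map.2 ⟨ev (gW altI aA bA) w, ev_mem _ fun s hs => Subgroup.subset_closure ⟨s, h'.1 s hs, rfl⟩,
    Equiv.ext fun x => Fin.ext ?_⟩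
  show (((ev (gW altI aA bA) w : alternatingGroup (Fin 12)) : Equiv.Perm (Fin 12)) x : ℕ) = σ x
  rw [word_apply w h'.1, h'.2 x x.2]
  have h3 : σ (σ (σ a)) = a := by
    have h4 : (σ ^ 3) a = a := by rw [← hσ.orderOf, pow_orderOf_eq_one]; rfl
    simpa [pow_succ] using h4
  by_cases hxa : x = a
  · subst hxa; simp [Nat.beq_refl]
  rw [show Nat.beq (x : ℕ) a = false from Bool.eq_false_iff.2 fun e => hxa (Fin.ext (Nat.eq_of_beq_eq_true e)),
    cond_false]
  by_cases hxb : x = σ a
  · subst hxb; simp [Nat.beq_refl]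
  rw [show Nat.beq (x : ℕ) (σ a : ℕ) = false from
    Bool.eq_false_iff.2 fun e => hxb (Fin.ext (Nat.eq_of_beq_eq_true e)), cond_false]
  by_cases hxc : x = σ (σ a)
  · subst hxc; simp [Nat.beq_refl, h3]
  rw [show Nat.beq (x : ℕ) (σ (σ a) : ℕ) = false from
    Bool.eq_false_iff.2 fun e => hxc (Fin.ext (Nat.eq_of_beq_eq_true e)), cond_false]
  have hx : x ∉ σ.support := by rw [hfix]; simp [hxa, hxb, hxc]
  rw [Equiv.Perm.notMem_support.1 hx]

theorem alt_simple : IsSimpleGroup (alternatingGroup (Fin 12)) := alternatingGroup.isSimpleGroup (by simp)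

theorem alt_card : Nat.card (alternatingGroup (Fin 12)) = 10395 * 23040 := by
  rw [nat_card_alternatingGroup, Nat.card_fin]
  rfl

end Cfsg.Agent.Fus.SymSix
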