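import Cfsg.Agent.Lib.Fus.SymSix.Tree

/-! Generated data for the centralizer of six transpositions. -/

set_option autoImplicit false
set_option maxRecDepth 100000

namespace Cfsg.Agent.Fus.SymSix

/-- A piece of the tree. -/
def halfIdxP0 : CTree := (.node 565830 430 (.node 304770 220 (.node 174150 436 (.node 158340 346 (.node 150150 466 (.node 149610 706 (.node 149160 610 (.node 149130 730 .leaf .leaf) .leaf) (.node 150120 586 (.node 149670 490 .leaf .leaf) .leaf)) (.node 157770 682 (.node 156840 604 (.node 156810 724 .leaf .leaf) .leaf) (.node 158280 562 (.node 157860 370 .leaf .leaf) .leaf))) (.node 166500 322 (.node 165450 676 (.node 165030 484 (.node 164970 700 .leaf .leaf) .leaf) (.node 166470 442 (.node 165540 364 .leaf .leaf) .leaf)) (.node 173640 556 (.node 173190 460 (.node 173160 580 .leaf .leaf) .leaf) (.node 173700 340 .leaf .leaf)))) (.node 289320 538 (.node 273000 584 (.node 272040 608 (.node 272010 728 (.node 174180 316 .leaf .leaf) .leaf) (.node 272550 488 (.node 272490 704 .leaf .leaf) .leaf)) (.node 287400 598 (.node 287370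 718 (.node 273030 464 .leaf .leaf) .leaf) (.node 288930 250 (.node 288810 658 .leaf .leaf) .leaf))) (.node 297510 418 (.node 295590 478 (.node 295530 694 (.node 289410 226 .leaf .leaf) .leaf) (.node 296610 244 (.node 296490 652 .leaf .leaf) .leaf)) (.node 303750 454 (.node 303720 574 (.node 297570 202 .leaf .leaf) .leaf) (.node 304680 532 .leaf .leaf))))) (.node 435240 526 (.node 411810 248 (.node 403620 368 (.node 402570 722 (.node 305250 196 (.node 305190 412 .leaf .leaf) .leaf) (.node 403530 680 (.node 402600 602 .leaf .leaf) .leaf)) (.node 410250 716 (.node 404100 344 (.node 404040 560 .leaf .leaf) .leaf) (.node 411690 656 (.node 410280 596 .leaf .leaf) .leaf))) (.node 427170 238 (.node 426570 670 (.node 412290 224 (.node 412200 536 .leaf .leaf) .leaf) (.node 427050 646 (.node 426660 358 .leaf .leaf) .leaf)) (.node 434760 550 (.node 428610 178 (.node 428580 298 .leaf .leaf) .leaf) (.node 434820 334 .leaf .leaf)))) (.node 541350 476 (.node 534090 674 (.node 436290 172 (.node 436260 292 (.node 435330 214 .leaf .leaf) .leaf) (.node 533670 482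 (.node 533610 698 .leaf .leaf) .leaf)) (.node 535140 320 (.node 535110 440 (.node 534180 362 .leaf .leaf) .leaf) (.node 541290 692 .leaf .leaf))) (.node 549540 356 (.node 543270 416 (.node 542370 242 (.node 542250 650 .leaf .leaf) .leaf) (.node 549450 668 (.node 543330 200 .leaf .leaf) .leaf)) (.node 551460 296 (.node 550050 236 (.node 549930 644 .leaf .leaf) .leaf) (.node 551490 176 .leaf .leaf)))))) (.node 2131620 363 (.node 682050 170 (.node 672360 572 (.node 664680 578 (.node 566370 190 (.node 566310 406 (.node 565860 310 .leaf .leaf) .leaf) (.node 566850 166 (.node 566820 286 .leaf .leaf) .leaf)) (.node 665220 338 (.node 665160 554 (.node 664710 458 .leaf .leaf) .leaf) (.node 665700 314 (.node 665670 434 .leaf .leaf) .leaf))) (.node 680520 548 (.node 673410 218 (.node 673320 530 (.node 672390 452 .leaf .leaf) .leaf) (.node 673890 194 (.node 673830 410 .leaf .leaf) .leaf)) (.node 681090 212 (.node 681000 524 (.node 680580 332 .leaf .leaf) .leaf) (.node 682020 290 .leaf .leaf)))) (.node 2116200 585 (.node 689730 164 (.node 689190 404 (.node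 688740 308 (.node 688710 428 .leaf .leaf) .leaf) (.node 689700 284 (.node 689250 188 .leaf .leaf) .leaf)) (.node 2115690 705 (.node 2115240 609 (.node 2115210 729 .leaf .leaf) .leaf) (.node 2115750 489 .leaf .leaf))) (.node 2124360 561 (.node 2122920 603 (.node 2122890 723 (.node 2116230 465 .leaf .leaf) .leaf) (.node 2123940 369 (.node 2123850 681 .leaf .leaf) .leaf)) (.node 2131110 483 (.node 2131050 699 (.node 2124420 345 .leaf .leaf) .leaf) (.node 2131530 675 .leaf .leaf))))) (.node 2393610 628 (.node 2361510 486 (.node 2139780 339 (.node 2139240 579 (.node 2132580 321 (.node 2132550 441 .leaf .leaf) .leaf) (.node 2139720 555 (.node 2139270 459 .leaf .leaf) .leaf)) (.node 2360970 726 (.node 2140260 315 (.node 2140230 435 .leaf .leaf) .leaf) (.node 2361450 702 (.node 2361000 606 .leaf .leaf) .leaf))) (.node 2386080 130 (.node 2384010 712 (.node 2361990 462 (.node 2361960 582 .leaf .leaf) .leaf) (.node 2385930 634 (.node 2384040 592 .leaf .leaf) .leaf)) (.node 2392170 688 (.node 2386560 106 (.node 2386440 514 .leaf .leaf) .leaf) (.node 2392230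 472 .leaf .leaf)))) (.node 2491560 600 (.node 2401800 508 (.node 2394720 82 (.node 2394630 394 (.node 2393760 124 .leaf .leaf) .leaf) (.node 2400390 448 (.node 2400360 568 .leaf .leaf) .leaf)) (.node 2402400 76 (.node 2402310 388 (.node 2401920 100 .leaf .leaf) .leaf) (.node 2491530 720 .leaf .leaf))) (.node 2506920 590 (.node 2493000 558 (.node 2492580 366 (.node 2492490 678 .leaf .leaf) .leaf) (.node 2506890 710 (.node 2493060 342 .leaf .leaf) .leaf)) (.node 2509320 512 (.node 2508960 128 (.node 2508810 632 .leaf .leaf) .leaf) (.node 2509440 104 .leaf .leaf)))))))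

/-- A piece of the tree. -/
def halfIdxP1 : CTree := (.node 4350090 711 (.node 2770560 98 (.node 2640480 80 (.node 2622570 696 (.node 2531400 544 (.node 2524320 118 (.node 2524170 622 (.node 2523300 352 .leaf .leaf) .leaf) (.node 2525760 58 (.node 2525700 274 .leaf .leaf) .leaf)) (.node 2532480 94 (.node 2532360 502 (.node 2531460 328 .leaf .leaf) .leaf) (.node 2533440 52 (.node 2533380 268 .leaf .leaf) .leaf))) (.node 2637930 686 (.node 2623140 360 (.node 2623050 672 (.node 2622630 480 .leaf .leaf) .leaf) (.node 2624100 318 (.node 2624070 438 .leaf .leaf) .leaf)) (.node 2639520 122 (.node 2639370 626 (.node 2637990 470 .leaf .leaf) .leaf) (.node 2640390 392 .leaf .leaf)))) (.node 2663940 262 (.node 2648640 56 (.node 2647050 620 (.node 2646180 350 (.node 2646090 662 .leaf .leaf) .leaf) (.node 2648580 272 (.node 2647200 116 .leaf .leaf) .leaf)) (.node 2663430 382 (.node 2662500 304 (.node 2662470 424 .leaf .leaf) .leaf) (.node 2663520 70 .leaf .leaf))) (.node 2754630 432 (.node 2753670 456 (.node 2753640 576 (.node 2664000 46 .leaf .leaf) .leaf)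 (.node 2754180 336 (.node 2754120 552 .leaf .leaf) .leaf)) (.node 2769030 446 (.node 2769000 566 (.node 2754660 312 .leaf .leaf) .leaf) (.node 2770440 506 .leaf .leaf))))) (.node 4220970 657 (.node 2786400 68 (.node 2778240 92 (.node 2777160 542 (.node 2771040 74 (.node 2770950 386 .leaf .leaf) .leaf) (.node 2778120 500 (.node 2777220 326 .leaf .leaf) .leaf)) (.node 2785350 422 (.node 2779200 50 (.node 2779140 266 .leaf .leaf) .leaf) (.node 2786310 380 (.node 2785380 302 .leaf .leaf) .leaf))) (.node 4204710 487 (.node 4204170 727 (.node 2786880 44 (.node 2786820 260 .leaf .leaf) .leaf) (.node 4204650 703 (.node 4204200 607 .leaf .leaf) .leaf)) (.node 4219530 717 (.node 4205190 463 (.node 4205160 583 .leaf .leaf) .leaf) (.node 4219560 597 .leaf .leaf)))) (.node 4235910 453 (.node 4228650 651 (.node 4221570 225 (.node 4221480 537 (.node 4221090 249 .leaf .leaf) .leaf) (.node 4227750 477 (.node 4227690 693 .leaf .leaf) .leaf)) (.node 4229730 201 (.node 4229670 417 (.node 4228770 243 .leaf .leaf) .leaf) (.node 4235880 573 .leaf .leaf))) (.node 4327080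 605 (.node 4237350 411 (.node 4236930 219 (.node 4236840 531 .leaf .leaf) .leaf) (.node 4327050 725 (.node 4237410 195 .leaf .leaf) .leaf)) (.node 4328040 581 (.node 4327590 485 (.node 4327530 701 .leaf .leaf) .leaf) (.node 4328070 461 .leaf .leaf)))))) (.node 4720290 240 (.node 4590210 222 (.node 4366440 567 (.node 4358250 687 (.node 4352160 129 (.node 4352010 633 (.node 4350120 591 .leaf .leaf) .leaf) (.node 4352640 105 (.node 4352520 513 .leaf .leaf) .leaf)) (.node 4359840 123 (.node 4359690 627 (.node 4358310 471 .leaf .leaf) .leaf) (.node 4360800 81 (.node 4360710 393 .leaf .leaf) .leaf))) (.node 4588170 714 (.node 4368000 99 (.node 4367880 507 (.node 4366470 447 .leaf .leaf) .leaf) (.node 4368480 75 (.node 4368390 387 .leaf .leaf) .leaf)) (.node 4589730 246 (.node 4589610 654 (.node 4588200 594 .leaf .leaf) .leaf) (.node 4590120 534 .leaf .leaf)))) (.node 4622850 154 (.node 4598400 102 (.node 4597770 630 (.node 4595880 588 (.node 4595850 708 .leaf .leaf) .leaf) (.node 4598280 510 (.node 4597920 126 .leaf .leaf) .leaf)) (.node 4620810 616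 (.node 4620450 232 (.node 4620330 640 .leaf .leaf) .leaf) (.node 4620960 112 .leaf .leaf))) (.node 4630530 148 (.node 4628610 208 (.node 4628520 520 (.node 4622880 34 .leaf .leaf) .leaf) (.node 4629120 88 (.node 4629000 496 .leaf .leaf) .leaf)) (.node 4719270 474 (.node 4719210 690 (.node 4630560 28 .leaf .leaf) .leaf) (.node 4720170 648 .leaf .leaf))))) (.node 4851240 528 (.node 4743840 110 (.node 4728480 120 (.node 4726890 684 (.node 4721250 198 (.node 4721190 414 .leaf .leaf) .leaf) (.node 4728330 624 (.node 4726950 468 .leaf .leaf) .leaf)) (.node 4743210 638 (.node 4729440 78 (.node 4729350 390 .leaf .leaf) .leaf) (.node 4743690 614 (.node 4743330 230 .leaf .leaf) .leaf))) (.node 4760160 64 (.node 4759590 400 (.node 4745760 32 (.node 4745730 152 .leaf .leaf) .leaf) (.node 4760070 376 (.node 4759650 184 .leaf .leaf) .leaf)) (.node 4850280 570 (.node 4761120 22 (.node 4761090 142 .leaf .leaf) .leaf) (.node 4850310 450 .leaf .leaf)))) (.node 4874370 206 (.node 4859400 504 (.node 4851810 192 (.node 4851750 408 (.node 4851330 216 .leaf .leaf)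 .leaf) (.node 4857990 444 (.node 4857960 564 .leaf .leaf) .leaf)) (.node 4860000 72 (.node 4859910 384 (.node 4859520 96 .leaf .leaf) .leaf) (.node 4874280 518 .leaf .leaf))) (.node 4882530 182 (.node 4876290 146 (.node 4874880 86 (.node 4874760 494 .leaf .leaf) .leaf) (.node 4882470 398 (.node 4876320 26 .leaf .leaf) .leaf)) (.node 4883970 140 (.node 4883040 62 (.node 4882950 374 .leaf .leaf) .leaf) (.node 4884000 20 .leaf .leaf)))))))

/-- A piece of the tree. -/
def halfIdxP2 : CTree := (.node 6856740 280 (.node 6464640 93 (.node 6334530 171 (.node 6324810 669 (.node 6308490 715 (.node 6301860 367 (.node 6301770 679 (.node 6300840 601 .leaf .leaf) .leaf) (.node 6302340 343 (.node 6302280 559 .leaf .leaf) .leaf)) (.node 6310050 247 (.node 6309930 655 (.node 6308520 595 .leaf .leaf) .leaf) (.node 6310530 223 (.node 6310440 535 .leaf .leaf) .leaf))) (.node 6333000 549 (.node 6325410 237 (.node 6325290 645 (.node 6324900 357 .leaf .leaf) .leaf) (.node 6326850 177 (.node 6326820 297 .leaf .leaf) .leaf)) (.node 6333570 213 (.node 6333480 525 (.node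 6333060 333 .leaf .leaf) .leaf) (.node 6334500 291 .leaf .leaf)))) (.node 6441480 511 (.node 6425220 341 (.node 6424650 677 (.node 6423720 599 (.node 6423690 719 .leaf .leaf) .leaf) (.node 6425160 557 (.node 6424740 365 .leaf .leaf) .leaf)) (.node 6440970 631 (.node 6439080 589 (.node 6439050 709 .leaf .leaf) .leaf) (.node 6441120 127 .leaf .leaf))) (.node 6457860 273 (.node 6455460 351 (.node 6455370 663 (.node 6441600 103 .leaf .leaf) .leaf) (.node 6456480 117 (.node 6456330 621 .leaf .leaf) .leaf)) (.node 6463620 327 (.node 6463560 543 (.node 6457920 57 .leaf .leaf) .leaf) (.node 6464520 501 .leaf .leaf))))) (.node 6595080 495 (.node 6564000 125 (.node 6555810 245 (.node 6554250 713 (.node 6465600 51 (.node 6465540 267 .leaf .leaf) .leaf) (.node 6555690 653 (.node 6554280 593 .leaf .leaf) .leaf)) (.node 6561930 707 (.node 6556290 221 (.node 6556200 533 .leaf .leaf) .leaf) (.node 6563850 629 (.node 6561960 587 .leaf .leaf) .leaf))) (.node 6587040 111 (.node 6586410 639 (.node 6564480 101 (.node 6564360 509 .leaf .leaf) .leaf) (.node 6586890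 615 (.node 6586530 231 .leaf .leaf) .leaf)) (.node 6594600 519 (.node 6588960 33 (.node 6588930 153 .leaf .leaf) .leaf) (.node 6594690 207 .leaf .leaf)))) (.node 6824100 348 (.node 6816810 642 (.node 6596640 27 (.node 6596610 147 (.node 6595200 87 .leaf .leaf) .leaf) (.node 6816420 354 (.node 6816330 666 .leaf .leaf) .leaf)) (.node 6818370 174 (.node 6818340 294 (.node 6816930 234 .leaf .leaf) .leaf) (.node 6824010 660 .leaf .leaf))) (.node 6832290 228 (.node 6826500 270 (.node 6825120 114 (.node 6824970 618 .leaf .leaf) .leaf) (.node 6832170 636 (.node 6826560 54 .leaf .leaf) .leaf)) (.node 6834690 150 (.node 6832800 108 (.node 6832650 612 .leaf .leaf) .leaf) (.node 6834720 30 .leaf .leaf)))))) (.node 8414370 235 (.node 6965280 24 (.node 6955080 540 (.node 6947400 546 (.node 6857280 40 (.node 6857220 256 (.node 6856770 160 .leaf .leaf) .leaf) (.node 6857760 16 (.node 6857730 136 .leaf .leaf) .leaf)) (.node 6947970 210 (.node 6947880 522 (.node 6947460 330 .leaf .leaf) .leaf) (.node 6948930 168 (.node 6948900 288 .leaf .leaf) .leaf))) (.node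 6963240 516 (.node 6956160 90 (.node 6956040 498 (.node 6955140 324 .leaf .leaf) .leaf) (.node 6957120 48 (.node 6957060 264 .leaf .leaf) .leaf)) (.node 6963840 84 (.node 6963720 492 (.node 6963330 204 .leaf .leaf) .leaf) (.node 6965250 144 .leaf .leaf)))) (.node 8399430 439 (.node 6980640 14 (.node 6980100 254 (.node 6979650 158 (.node 6979620 278 .leaf .leaf) .leaf) (.node 6980610 134 (.node 6980160 38 .leaf .leaf) .leaf)) (.node 8398410 673 (.node 8397990 481 (.node 8397930 697 .leaf .leaf) .leaf) (.node 8398500 361 .leaf .leaf))) (.node 8407590 415 (.node 8405670 475 (.node 8405610 691 (.node 8399460 319 .leaf .leaf) .leaf) (.node 8406690 241 (.node 8406570 649 .leaf .leaf) .leaf)) (.node 8413860 355 (.node 8413770 667 (.node 8407650 199 .leaf .leaf) .leaf) (.node 8414250 643 .leaf .leaf))))) (.node 8545290 619 (.node 8521380 359 (.node 8430690 189 (.node 8430150 429 (.node 8415810 175 (.node 8415780 295 .leaf .leaf) .leaf) (.node 8430630 405 (.node 8430180 309 .leaf .leaf) .leaf)) (.node 8520810 695 (.node 8431170 165 (.node 8431140 285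 .leaf .leaf) .leaf) (.node 8521290 671 (.node 8520870 479 .leaf .leaf) .leaf))) (.node 8537760 121 (.node 8536170 685 (.node 8522340 317 (.node 8522310 437 .leaf .leaf) .leaf) (.node 8537610 625 (.node 8536230 469 .leaf .leaf) .leaf)) (.node 8544330 661 (.node 8538720 79 (.node 8538630 391 .leaf .leaf) .leaf) (.node 8544420 349 .leaf .leaf)))) (.node 8651430 473 (.node 8561670 381 (.node 8546880 55 (.node 8546820 271 (.node 8545440 115 .leaf .leaf) .leaf) (.node 8560740 303 (.node 8560710 423 .leaf .leaf) .leaf)) (.node 8562240 45 (.node 8562180 261 (.node 8561760 69 .leaf .leaf) .leaf) (.node 8651370 689 .leaf .leaf))) (.node 8659110 467 (.node 8653350 413 (.node 8652450 239 (.node 8652330 647 .leaf .leaf) .leaf) (.node 8659050 683 (.node 8653410 197 .leaf .leaf) .leaf)) (.node 8661510 389 (.node 8660640 119 (.node 8660490 623 .leaf .leaf) .leaf) (.node 8661600 77 .leaf .leaf)))))))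

/-- A piece of the tree. -/
def halfIdxP3 : CTree := (.node 10633320 565 (.node 9053280 66 (.node 8792640 53 (.node 8782410 665 (.node 8691750 399 (.node 8676000 109 (.node 8675850 613 (.node 8675490 229 .leaf .leaf) .leaf) (.node 8677920 31 (.node 8677890 151 .leaf .leaf) .leaf)) (.node 8692320 63 (.node 8692230 375 (.node 8691810 183 .leaf .leaf) .leaf) (.node 8693280 21 (.node 8693250 141 .leaf .leaf) .leaf))) (.node 8790090 659 (.node 8783010 233 (.node 8782890 641 (.node 8782500 353 .leaf .leaf) .leaf) (.node 8784450 173 (.node 8784420 293 .leaf .leaf) .leaf)) (.node 8791200 113 (.node 8791050 617 (.node 8790180 347 .leaf .leaf) .leaf) (.node 8792580 269 .leaf .leaf)))) (.node 8823810 135 (.node 8800800 29 (.node 8798730 611 (.node 8798370 227 (.node 8798250 635 .leaf .leaf) .leaf) (.node 8800770 149 (.node 8798880 107 .leaf .leaf) .leaf)) (.node 8823300 255 (.node 8822850 159 (.node 8822820 279 .leaf .leaf) .leaf) (.node 8823360 39 .leaf .leaf))) (.node 9045540 282 (.node 9044580 306 (.node 9044550 426 (.node 8823840 15 .leaf .leaf) .leaf)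 (.node 9045090 186 (.node 9045030 402 .leaf .leaf) .leaf)) (.node 9052260 300 (.node 9052230 420 (.node 9045570 162 .leaf .leaf) .leaf) (.node 9053190 378 .leaf .leaf))))) (.node 10503720 529 (.node 9069120 36 (.node 9060960 60 (.node 9060390 396 (.node 9053760 42 (.node 9053700 258 .leaf .leaf) .leaf) (.node 9060870 372 (.node 9060450 180 .leaf .leaf) .leaf)) (.node 9068580 276 (.node 9061920 18 (.node 9061890 138 .leaf .leaf) .leaf) (.node 9069060 252 (.node 9068610 156 .leaf .leaf) .leaf))) (.node 10495620 337 (.node 10495080 577 (.node 9069600 12 (.node 9069570 132 .leaf .leaf) .leaf) (.node 10495560 553 (.node 10495110 457 .leaf .leaf) .leaf)) (.node 10502760 571 (.node 10496100 313 (.node 10496070 433 .leaf .leaf) .leaf) (.node 10502790 451 .leaf .leaf)))) (.node 10519140 307 (.node 10511400 523 (.node 10504290 193 (.node 10504230 409 (.node 10503810 217 .leaf .leaf) .leaf) (.node 10510980 331 (.node 10510920 547 .leaf .leaf) .leaf)) (.node 10512450 169 (.node 10512420 289 (.node 10511490 211 .leaf .leaf) .leaf) (.node 10519110 427 .leaf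 .leaf))) (.node 10617990 455 (.node 10520100 283 (.node 10519650 187 (.node 10519590 403 .leaf .leaf) .leaf) (.node 10617960 575 (.node 10520130 163 .leaf .leaf) .leaf)) (.node 10618950 431 (.node 10618500 335 (.node 10618440 551 .leaf .leaf) .leaf) (.node 10618980 311 .leaf .leaf)))))) (.node 10880130 209 (.node 10750050 191 (.node 10649670 421 (.node 10641480 541 (.node 10634880 97 (.node 10634760 505 (.node 10633350 445 .leaf .leaf) .leaf) (.node 10635360 73 (.node 10635270 385 .leaf .leaf) .leaf)) (.node 10642560 91 (.node 10642440 499 (.node 10641540 325 .leaf .leaf) .leaf) (.node 10643520 49 (.node 10643460 265 .leaf .leaf) .leaf))) (.node 10748520 569 (.node 10650720 67 (.node 10650630 379 (.node 10649700 301 .leaf .leaf) .leaf) (.node 10651200 43 (.node 10651140 259 .leaf .leaf) .leaf)) (.node 10749570 215 (.node 10749480 527 (.node 10748550 449 .leaf .leaf) .leaf) (.node 10749990 407 .leaf .leaf)))) (.node 10774530 145 (.node 10758240 71 (.node 10757640 503 (.node 10756230 443 (.node 10756200 563 .leaf .leaf) .leaf) (.node 10758150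 383 (.node 10757760 95 .leaf .leaf) .leaf)) (.node 10773000 493 (.node 10772610 205 (.node 10772520 517 .leaf .leaf) .leaf) (.node 10773120 85 .leaf .leaf))) (.node 10782210 139 (.node 10780770 181 (.node 10780710 397 (.node 10774560 25 .leaf .leaf) .leaf) (.node 10781280 61 (.node 10781190 373 .leaf .leaf) .leaf)) (.node 10879620 329 (.node 10879560 545 (.node 10782240 19 .leaf .leaf) .leaf) (.node 10880040 521 .leaf .leaf))))) (.node 11011110 401 (.node 10896000 83 (.node 10888320 89 (.node 10887240 539 (.node 10881090 167 (.node 10881060 287 .leaf .leaf) .leaf) (.node 10888200 497 (.node 10887300 323 .leaf .leaf) .leaf)) (.node 10895400 515 (.node 10889280 47 (.node 10889220 263 .leaf .leaf) .leaf) (.node 10895880 491 (.node 10895490 203 .leaf .leaf) .leaf))) (.node 10912320 37 (.node 10911780 277 (.node 10897440 23 (.node 10897410 143 .leaf .leaf) .leaf) (.node 10912260 253 (.node 10911810 157 .leaf .leaf) .leaf)) (.node 11010630 425 (.node 10912800 13 (.node 10912770 133 .leaf .leaf) .leaf) (.node 11010660 305 .leaf .leaf)))) (.node 11026530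 179 (.node 11019270 377 (.node 11011650 161 (.node 11011620 281 (.node 11011170 185 .leaf .leaf) .leaf) (.node 11018340 299 (.node 11018310 419 .leaf .leaf) .leaf)) (.node 11019840 41 (.node 11019780 257 (.node 11019360 65 .leaf .leaf) .leaf) (.node 11026470 395 .leaf .leaf))) (.node 11034690 155 (.node 11027970 137 (.node 11027040 59 (.node 11026950 371 .leaf .leaf) .leaf) (.node 11034660 275 (.node 11028000 17 .leaf .leaf) .leaf)) (.node 11035650 131 (.node 11035200 35 (.node 11035140 251 .leaf .leaf) .leaf) (.node 11035680 11 .leaf .leaf)))))))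

/-- The place of a half, shifted by eleven. -/
def halfIdx : CTree := (.node 6300810 721 (.node 2523210 664 halfIdxP0 halfIdxP1) (.node 8675370 637 halfIdxP2 halfIdxP3))

end Cfsg.Agent.Fus.SymSix
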