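import Cfsg.Agent.Lib.Fus.SymSix.Bound
import Cfsg.Agent.Lib.Fus.SymSix.Swaps
import Cfsg.Agent.Lib.Fus.SymSix.RelData
import Cfsg.Agent.Lib.Fus.SymSix.ModelData
import Cfsg.Agent.Lib.Fus.SymSix.IdxData
import Cfsg.Agent.Lib.Classical.SpSix.Two
import Cfsg.Agent.S0270

/-!
# The symplectic group as a group of the first pattern
-/

set_option autoImplicit false
set_option maxRecDepth 100000
set_option Elab.async false

namespace Cfsg.Agent.Fus.SymSix

open Cfsg.Agent.Classical.SpSix (G0 tvN piA vec num tvN_apply piA_val det vec_num num_vec num_lt eq_tvN card_G0 center_eq_bot actA)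
open Cfsg
open Cfsg.Agent.Spor.Cos (ev ev_append ev_mem)

/-- The trivial words of the first pattern. -/
def base512 : List (List ℕ) := baseC512.map Prod.fst ++ fixed512 ++ [[6, 7]]

/-- The parity of six bits. -/
def par6 (m : ℕ) : ℕ := (m % 2 + m / 2 % 2 + m / 4 % 2 + m / 8 % 2 + m / 16 % 2 + m / 32 % 2) % 2

/-- The action of a transvection. -/
def tvAct (n p : ℕ) : ℕ := Cfsg.Agent.Spor.Cos.force p fun p =>
  bif Nat.beq ((par6 (Nat.land (p % 8) (n / 8)) + par6 (Nat.land (p / 8) (n % 8))) % 2) 1 then Nat.xor p n else p

/-- The action of a product of transvections. -/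
def goT : List ℕ → ℕ → ℕ
  | [], p => p
  | n :: l, p => Cfsg.Agent.Spor.Cos.force (goT l p) fun q => tvAct n q

/-- The transvections of a letter. -/
def spLet (s : ℕ) : List ℕ := spGenT.getD (min s 6) []

/-- The action of a word. -/
def goL : List ℕ → ℕ → ℕ
  | [], p => p
  | s :: w, p => Cfsg.Agent.Spor.Cos.force (goL w p) fun q => goT (spLet s) q

/-- The basis. -/
def spBasis : List ℕ := [1, 2, 4, 8, 16, 32]

/-- The halves of a number. -/
def hpC (c : ℕ) : ℕ := Nat.land c 15658734

/-- The flips of a number. -/
def fpC (c : ℕ) : ℕ := Nat.land c 1118481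

/-- The word of a half. -/
noncomputable def wH (q : ℕ) : List ℕ := wordsH.getD (halfIdx.find q - 11) []

/-- The word of a flip. -/
def wF (f : ℕ) : List ℕ := wordsF.getD (flipList.findIdx fun x => Nat.beq x f) []

/-- The word of an element. -/
noncomputable def wordC (c : ℕ) : List ℕ := wH (hpC c) ++ wF (fpC c)

/-- Moving a generator past a half. -/
noncomputable def stepAt (q : ℕ) : Bool :=
  (List.range 6).all fun s => Cfsg.Agent.Spor.Cos.force (mulC (gensH.getD s oneC) q) fun d =>
    spBasis.all fun b => Nat.beq (goL (s :: wH q) b) (goL (wordC d) b)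

/-- Multiplying two flips. -/
noncomputable def flipAt (f : ℕ) : Bool :=
  flipList.all fun f' => Cfsg.Agent.Spor.Cos.force (mulC (oneC + f) (oneC + f')) fun d =>
    Nat.beq (hpC d) oneC && spBasis.all fun b => Nat.beq (goL (wF f ++ wF f') b) (goL (wF (fpC d)) b)

/-- The symplectic form of two numbers. -/
def bform (p n : ℕ) : ℕ := (par6 (Nat.land (p % 8) (n / 8)) + par6 (Nat.land (p / 8) (n % 8))) % 2

theorem step_part0 : (((halvesList.drop 0).take 60).all stepAt) = true := by decide +kernel

theorem step_part1 : (((halvesList.drop 60).take 60).all stepAt) = true := by decide +kernel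

theorem step_part2 : (((halvesList.drop 120).take 60).all stepAt) = true := by decide +kernel

theorem step_part3 : (((halvesList.drop 180).take 60).all stepAt) = true := by decide +kernel

theorem step_part4 : (((halvesList.drop 240).take 60).all stepAt) = true := by decide +kernel

theorem step_part5 : (((halvesList.drop 300).take 60).all stepAt) = true := by decide +kernel

theorem step_part6 : (((halvesList.drop 360).take 60).all stepAt) = true := by decide +kernel

theorem step_part7 : (((halvesList.drop 420).take 60).all stepAt) = true := by decide +kernel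

theorem step_part8 : (((halvesList.drop 480).take 60).all stepAt) = true := by decide +kernel

theorem step_part9 : (((halvesList.drop 540).take 60).all stepAt) = true := by decide +kernel

theorem step_part10 : (((halvesList.drop 600).take 60).all stepAt) = true := by decide +kernel

theorem step_part11 : (((halvesList.drop 660).take 60).all stepAt) = true := by decide +kernel

theorem step_ok : (halvesList.all stepAt) = true :=
  List.all_eq_true.2 (fun q hq => List.all_eq_true.1 (all_of_parts (p := stepAt) 12 (by rw [halves_length]) (fun j hj => by interval_cases j; exacts [step_part0, step_part1, step_part2, step_part3, step_part4, step_part5, step_part6, step_part7, step_part8, step_part9, step_part10, step_part11])) q hq)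

theorem flip_ok : (flipList.all flipAt) = true := by decide +kernel

theorem split_part0' : (((halvesList.drop 0).take 60).all (fun q => flipList.all fun f => Nat.beq (hpC (q + f)) q && Nat.beq (fpC (q + f)) f)) = true := by decide +kernel

theorem split_part1' : (((halvesList.drop 60).take 60).all (fun q => flipList.all fun f => Nat.beq (hpC (q + f)) q && Nat.beq (fpC (q + f)) f)) = true := by decide +kernel

theorem split_part2' : (((halvesList.drop 120).take 60).all (fun q => flipList.all fun f => Nat.beq (hpC (q + f)) q && Nat.beq (fpC (q + f)) f)) = true := by decide +kernel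

theorem split_part3' : (((halvesList.drop 180).take 60).all (fun q => flipList.all fun f => Nat.beq (hpC (q + f)) q && Nat.beq (fpC (q + f)) f)) = true := by decide +kernel

theorem split_part4' : (((halvesList.drop 240).take 60).all (fun q => flipList.all fun f => Nat.beq (hpC (q + f)) q && Nat.beq (fpC (q + f)) f)) = true := by decide +kernel

theorem split_part5' : (((halvesList.drop 300).take 60).all (fun q => flipList.all fun f => Nat.beq (hpC (q + f)) q && Nat.beq (fpC (q + f)) f)) = true := by decide +kernel

theorem split_part6' : (((halvesList.drop 360).take 60).all (fun q => flipList.all fun f => Nat.beq (hpC (q + f)) q && Nat.beq (fpC (q + f)) f)) = true := by decide +kernel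

theorem split_part7' : (((halvesList.drop 420).take 60).all (fun q => flipList.all fun f => Nat.beq (hpC (q + f)) q && Nat.beq (fpC (q + f)) f)) = true := by decide +kernel

theorem split_part8' : (((halvesList.drop 480).take 60).all (fun q => flipList.all fun f => Nat.beq (hpC (q + f)) q && Nat.beq (fpC (q + f)) f)) = true := by decide +kernel

theorem split_part9' : (((halvesList.drop 540).take 60).all (fun q => flipList.all fun f => Nat.beq (hpC (q + f)) q && Nat.beq (fpC (q + f)) f)) = true := by decide +kernel

theorem split_part10' : (((halvesList.drop 600).take 60).all (fun q => flipList.all fun f => Nat.beq (hpC (q + f)) q && Nat.beq (fpC (q + f)) f)) = true := by decide +kernel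

theorem split_part11' : (((halvesList.drop 660).take 60).all (fun q => flipList.all fun f => Nat.beq (hpC (q + f)) q && Nat.beq (fpC (q + f)) f)) = true := by decide +kernel

theorem split_ok : (halvesList.all (fun q => flipList.all fun f => Nat.beq (hpC (q + f)) q && Nat.beq (fpC (q + f)) f)) = true :=
  List.all_eq_true.2 fun q hq => List.all_eq_true.1 (all_of_parts (p := (fun q => flipList.all fun f => Nat.beq (hpC (q + f)) q && Nat.beq (fpC (q + f)) f)) 12 (by rw [halves_length]) (fun j hj => by interval_cases j; exacts [split_part0', split_part1', split_part2', split_part3', split_part4', split_part5', split_part6', split_part7', split_part8', split_part9', split_part10', split_part11'])) q hq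

theorem wH_part0 : (((halvesList.drop 0).take 60).all fun q => partOk (wH q) q) = true := by decide +kernel

theorem wH_part1 : (((halvesList.drop 60).take 60).all fun q => partOk (wH q) q) = true := by decide +kernel

theorem wH_part2 : (((halvesList.drop 120).take 60).all fun q => partOk (wH q) q) = true := by decide +kernel

theorem wH_part3 : (((halvesList.drop 180).take 60).all fun q => partOk (wH q) q) = true := by decide +kernel

theorem wH_part4 : (((halvesList.drop 240).take 60).all fun q => partOk (wH q) q) = true := by decide +kernel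

theorem wH_part5 : (((halvesList.drop 300).take 60).all fun q => partOk (wH q) q) = true := by decide +kernel

theorem wH_part6 : (((halvesList.drop 360).take 60).all fun q => partOk (wH q) q) = true := by decide +kernel

theorem wH_part7 : (((halvesList.drop 420).take 60).all fun q => partOk (wH q) q) = true := by decide +kernel

theorem wH_part8 : (((halvesList.drop 480).take 60).all fun q => partOk (wH q) q) = true := by decide +kernel

theorem wH_part9 : (((halvesList.drop 540).take 60).all fun q => partOk (wH q) q) = true := by decide +kernel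

theorem wH_part10 : (((halvesList.drop 600).take 60).all fun q => partOk (wH q) q) = true := by decide +kernel

theorem wH_part11 : (((halvesList.drop 660).take 60).all fun q => partOk (wH q) q) = true := by decide +kernel

theorem wH_ok : (halvesList.all fun q => partOk (wH q) q) = true :=
  List.all_eq_true.2 fun q hq => List.all_eq_true.1 (all_of_parts (p := fun q => partOk (wH q) q) 12 (by rw [halves_length]) (fun j hj => by interval_cases j; exacts [wH_part0, wH_part1, wH_part2, wH_part3, wH_part4, wH_part5, wH_part6, wH_part7, wH_part8, wH_part9, wH_part10, wH_part11])) q hq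

theorem wF_ok : (flipList.all fun f => partOk (wF f) (oneC + f)) = true := by decide +kernel

theorem wordC_one : wordC oneC = [] := by decide +kernel

theorem num_tv : ∀ n < 64, ∀ p < 64,
    num (bif Nat.beq (bform p n) 1 then vec p + vec n else vec p) = tvAct n p ∧ tvAct n p < 64 := by
  decide +kernel

theorem form_eq : ∀ n < 64, ∀ p < 64,
    sympForm 3 (ZMod 2) (vec p) (vec n) = (bform p n : ZMod 2) ∧ bform p n < 2 := by
  decide +kernel

theorem tvAct_eq : ∀ n < 64, ∀ p < 64,
    num (vec p + sympForm 3 (ZMod 2) (vec p) (vec n) • vec n) = tvAct n p ∧ tvAct n p < 64 := by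
  intro n hn p hp
  obtain ⟨h1, h2⟩ := form_eq n hn p hp
  obtain ⟨h3, h4⟩ := num_tv n hn p hp
  refine ⟨?_, h4⟩
  rw [h1, ← h3]
  rcases (show bform p n = 0 ∨ bform p n = 1 by omega) with e | e <;> rw [e] <;> simp [show Nat.beq 0 1 = false from rfl]

theorem spGenT_ok : ((List.range 8).all fun s => (spLet s).all fun n => Nat.blt n 64) = true ∧
    (spBasis.all fun b => Nat.blt b 64) = true := by decide +kernel

theorem spLet_lt (s : ℕ) : ∀ n ∈ spLet s, n < 64 := by
  intro n hn
  have h : spLet s = spLet (min s 6) := by unfold spLet; rw [Nat.min_assoc, Nat.min_self]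
  rw [h] at hn
  exact Nat.blt_eq.mp (List.all_eq_true.1 (List.all_eq_true.1 spGenT_ok.1 _ (List.mem_range.2 (by omega))) n hn)

/-- A letter in the symplectic group. -/
noncomputable def gS (s : ℕ) : G0 := ev tvN (spLet s)

theorem piA_tv : ∀ (l : List ℕ), (∀ n ∈ l, n < 64) → ∀ q : Fin actA.N,
    ((piA (ev tvN l) q : Fin actA.N) : ℕ) = goT l q ∧ goT l q < 64
  | [], _, q => ⟨by simp [ev, goT], q.2⟩
  | n :: l, h, q => by
    obtain ⟨h1, h2⟩ := piA_tv l (fun m hm => h m (List.mem_cons_of_mem _ hm)) q
    obtain ⟨h3, h4⟩ := tvAct_eq n (h n (List.mem_cons_self ..)) _ h2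
    refine ⟨?_, by rw [goT, Cfsg.Agent.Spor.Cos.force_eq]; exact h4⟩
    rw [goT, Cfsg.Agent.Spor.Cos.force_eq]
    show ((piA (tvN n * ev tvN l) q : Fin actA.N) : ℕ) = tvAct n (goT l q)
    rw [map_mul, Equiv.Perm.mul_apply, piA_val, h1, tvN_apply, h3]

theorem piA_gS : ∀ (w : List ℕ) (q : Fin actA.N),
    ((piA (ev gS w) q : Fin actA.N) : ℕ) = goL w q
  | [], q => by simp [ev, goL]
  | s :: w, q => by
    rw [goL, Cfsg.Agent.Spor.Cos.force_eq]
    show ((piA (gS s * ev gS w) q : Fin actA.N) : ℕ) = goT (spLet s) (goL w q)
    rw [map_mul, Equiv.Perm.mul_apply, gS, (piA_tv _ (spLet_lt s) _).1, piA_gS w q]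

theorem eq_of_goL {v w : List ℕ} (h : ∀ b ∈ spBasis, goL v b = goL w b) : ev gS v = ev gS w := by
  refine inv_mul_eq_one.1 (det _ fun q hq => ?_)
  have e : piA (ev gS w) q = piA (ev gS v) q := Fin.ext (by rw [piA_gS, piA_gS]; exact (h q.1 hq).symm)
  rw [map_mul, map_inv, Equiv.Perm.mul_apply, e, Equiv.Perm.inv_def, Equiv.symm_apply_apply]

theorem Mem.parts {c : ℕ} (hc : Mem c) :
    hpC c ∈ halvesList ∧ fpC c ∈ flipList ∧ mulC (hpC c) (oneC + fpC c) = c := by
  have he := hc.mem_elems
  simp only [elems, List.mem_flatMap, List.mem_map] at he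
  obtain ⟨q, hq, f, hf, rfl⟩ := he
  have := List.all_eq_true.1 (List.all_eq_true.1 split_ok q hq) f hf
  simp only [Bool.and_eq_true, Nat.beq_eq] at this
  rw [this.1, this.2]
  exact ⟨hq, hf, split_all hq hf⟩

theorem wordC_spec {c : ℕ} (hc : Mem c) : (∀ s ∈ wordC c, s < 6) ∧ wC (wordC c) = c := by
  obtain ⟨hq, hf, he⟩ := hc.parts
  have h1 := List.all_eq_true.1 wH_ok _ hq
  have h2 := List.all_eq_true.1 wF_ok _ hf
  simp only [partOk, Bool.and_eq_true, List.all_eq_true, Nat.blt_eq, Nat.beq_eq] at h1 h2
  exact ⟨fun s hs => (List.mem_append.1 hs).elim (h1.1 s) (h2.1 s), by rw [wordC, wC_append, h1.2, h2.2, he]⟩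

/-- Every word agrees with the chosen word of its element. -/
theorem ev_wordC : ∀ w : List ℕ, (∀ s ∈ w, s < 6) → ev gS w = ev gS (wordC (wC w))
  | [], _ => by rw [show wC [] = oneC from rfl, wordC_one]
  | s :: w, h => by
    have hs := h s (List.mem_cons_self ..)
    show gS s * ev gS w = _
    rw [ev_wordC w fun t ht => h t (List.mem_cons_of_mem _ ht)]
    show gS s * ev gS (wordC (wC w)) = ev gS (wordC (mulC (gensH.getD s oneC) (wC w)))
    set c := wC w
    have hc : Mem c := mem_wC w
    obtain ⟨hq, hf, he⟩ := hc.parts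
    have hqm : Mem (hpC c) := by
      have h1 := List.all_eq_true.1 wH_ok _ hq
      simp only [partOk, Bool.and_eq_true, Nat.beq_eq] at h1
      exact h1.2 ▸ mem_wC _
    have hfm : Mem (oneC + fpC c) := by
      have h1 := List.all_eq_true.1 wF_ok _ hf
      simp only [partOk, Bool.and_eq_true, Nat.beq_eq] at h1
      exact h1.2 ▸ mem_wC _
    set d := mulC (gensH.getD s oneC) (hpC c) with hd
    have hdm : Mem d := (gen_mem s).mul hqm
    obtain ⟨hq', hf', he'⟩ := hdm.parts
    have hfm' : Mem (oneC + fpC d) := by
      have h1 := List.all_eq_true.1 wF_ok _ hf'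
      simp only [partOk, Bool.and_eq_true, Nat.beq_eq] at h1
      exact h1.2 ▸ mem_wC _
    have hqm' : Mem (hpC d) := by
      have h1 := List.all_eq_true.1 wH_ok _ hq'
      simp only [partOk, Bool.and_eq_true, Nat.beq_eq] at h1
      exact h1.2 ▸ mem_wC _
    set e := mulC (oneC + fpC d) (oneC + fpC c) with hedef
    have hem : Mem e := hfm'.mul hfm
    have hstep : gS s * ev gS (wH (hpC c)) = ev gS (wordC d) := by
      have h1 := List.all_eq_true.1 (List.all_eq_true.1 step_ok _ hq) s (List.mem_range.2 hs)
      simp only [Cfsg.Agent.Spor.Cos.force_eq, List.all_eq_true, Nat.beq_eq] at h1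
      exact eq_of_goL (v := s :: wH (hpC c)) h1
    have h2 := List.all_eq_true.1 (List.all_eq_true.1 flip_ok _ hf') _ hf
    simp only [Cfsg.Agent.Spor.Cos.force_eq, Bool.and_eq_true, List.all_eq_true, Nat.beq_eq, ← hedef] at h2
    obtain ⟨hhe, hflip⟩ := h2
    have hflip' : ev gS (wF (fpC d)) * ev gS (wF (fpC c)) = ev gS (wF (fpC e)) := by
      rw [← ev_append]; exact eq_of_goL hflip
    obtain ⟨-, hfe, hee⟩ := hem.parts
    have hmul : mulC (gensH.getD s oneC) c = hpC d + fpC e := by
      have h1 := List.all_eq_true.1 wF_ok _ hfe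
      simp only [partOk, Bool.and_eq_true, Nat.beq_eq] at h1
      have hfem : Mem (oneC + fpC e) := h1.2 ▸ mem_wC _
      rw [hhe, hfem.one_mul] at hee
      rw [← split_all hq' hfe, hee, hedef, ← mulC_assoc hfm' hfm, he', hd, mulC_assoc hqm hfm, he]
    have hsp := List.all_eq_true.1 (List.all_eq_true.1 split_ok _ hq') _ hfe
    simp only [Bool.and_eq_true, Nat.beq_eq] at hsp
    rw [hmul, wordC, ev_append, ← mul_assoc, hstep, wordC, ev_append, mul_assoc, hflip', wordC, ev_append, hsp.1,
      hsp.2]

/-- The coordinates of the centralizer in the symplectic group. -/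
noncomputable def spI (c : ℕ) : G0 := ev gS (wordC c)

theorem spI_wC {w : List ℕ} (hw : ∀ s ∈ w, s < 6) : spI (wC w) = ev gS w := (ev_wordC w hw).symm

theorem spI_hom (a b : ℕ) (ha : Mem a) (hb : Mem b) : spI (mulC a b) = spI a * spI b := by
  obtain ⟨v, hv, rfl⟩ := ha.exists_word
  obtain ⟨w, hw, rfl⟩ := hb.exists_word
  rw [← wC_append, spI_wC hv, spI_wC hw,
    spI_wC fun s hs => (List.mem_append.1 hs).elim (hv s) (hw s), ev_append]

theorem gS_gen {s : ℕ} (hs : s < 6) : spI (gensH.getD s oneC) = gS s := by
  have h := spI_wC (w := [s]) (by simpa using hs)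
  rw [show wC [s] = gensH.getD s oneC from (gen_mem s).mul_one] at h
  simpa [ev] using h

theorem gW_eq (s : ℕ) : gW spI (gS 6) (gS 6) s = gS s := by
  unfold gW
  split_ifs with h1 h2
  · exact gS_gen h1
  · rw [h2]
  · unfold gS spLet; rw [Nat.min_eq_right (le_refl 6), Nat.min_eq_right (by omega : 6 ≤ s)]

/-- The checks of the swapping involution. -/
def swapS_ok : Bool :=
  spBasis.all (fun b => Nat.beq (goL [6, 6] b) b) &&
    (genWd512_9.zip imgWd512_9).all fun p => spBasis.all fun b => Nat.beq (goL ([6] ++ p.1 ++ [6]) b) (goL p.2 b)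

theorem swapS : swapS_ok = true := by decide +kernel

theorem genWd_ok : (genWd512_9.map wC == psiGens512_9 ++ [zC, repC 9]) = true ∧
    (imgWd512_9.map wC == (psiImgs512_9.getD 3 []) ++ [repC 9, zC]) = true ∧
    ((genWd512_9 ++ imgWd512_9).all fun w => w.all fun s => Nat.blt s 6) = true := by decide +kernel

theorem sp_swap : Swap spI (gS 6) swapTree512_9_3 := by
  have h := swapS
  simp only [swapS_ok, Bool.and_eq_true, List.all_eq_true, Nat.beq_eq] at h
  have hsq : gS 6 * gS 6 = 1 := by
    have := eq_of_goL (v := [6, 6]) (w := []) h.1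
    simpa [ev] using this
  refine ⟨hsq, acts_of_gens spI_hom treeOk512_9_3 fun j hj => ?_⟩
  obtain ⟨g1, g2, g3⟩ := genWd_ok
  rw [← eq_of_beq g1, List.length_map] at hj
  have hlen : genWd512_9.length = imgWd512_9.length := by decide +kernel
  rw [← eq_of_beq g1, ← eq_of_beq g2, List.getD_eq_getElem _ _ (by rw [List.length_map]; exact hj),
    List.getD_eq_getElem _ _ (by rw [List.length_map]; omega), List.getElem_map, List.getElem_map]
  have hl : ∀ w ∈ genWd512_9 ++ imgWd512_9, ∀ s ∈ w, s < 6 := fun w hw s hs =>
    Nat.blt_eq.mp (List.all_eq_true.1 (List.all_eq_true.1 g3 w hw) s hs)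
  rw [spI_wC (hl _ (List.mem_append_left _ (List.getElem_mem _))),
    spI_wC (hl _ (List.mem_append_right _ (List.getElem_mem _))), inv_eq_of_mul_eq_one_left hsq]
  have hz : j < (genWd512_9.zip imgWd512_9).length := by rw [List.length_zip]; omega
  have := h.2 _ (List.getElem_mem hz)
  rw [List.getElem_zip] at this
  have e := eq_of_goL this
  simpa [ev, ev_append, mul_assoc] using e

theorem spRels_ok : (base512.all fun r => spBasis.all fun b => Nat.beq (goL r b) b) = true := by decide +kernel

theorem sit512 : Sit spI (gS 6) (gS 6) swapTree512_9_3 swapTree512_9_3 base512 := by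
  refine ⟨⟨spI_hom, sp_swap, sp_swap⟩, fun r hr => ?_⟩
  rw [show gW spI (gS 6) (gS 6) = gS from funext gW_eq]
  exact eq_of_goL (w := []) fun b hb => Nat.eq_of_beq_eq_true (List.all_eq_true.1 (List.all_eq_true.1 spRels_ok r hr) b hb)

/-- The check of a word for a transvection. -/
def tvWAt (n : ℕ) : Bool :=
  (spTvW.getD n []).all (fun s => Nat.blt s 8) && spBasis.all fun b => Nat.beq (goL (spTvW.getD n []) b) (tvAct n b)

theorem tvW_ok : (List.range 64).all tvWAt = true := by decide +kernel

theorem sp_gen : genGrp spI (gS 6) (gS 6) = ⊤ := by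
  rw [eq_top_iff, ← Cfsg.Agent.Classical.closure_sympTvSet, Subgroup.closure_le]
  rintro x ⟨v, c, hx⟩
  rw [show x = Cfsg.Agent.Classical.sympTv v c from Subtype.ext hx]
  rcases eq_tvN v c with e | e
  · rw [e]; exact one_mem _
  rw [e]
  have h := List.all_eq_true.1 tvW_ok (num v) (List.mem_range.2 (num_lt v))
  simp only [tvWAt, Bool.and_eq_true, List.all_eq_true, Nat.blt_eq, Nat.beq_eq] at h
  have e2 : tvN (num v) = ev gS (spTvW.getD (num v) []) := by
    refine (inv_mul_eq_one.1 (det _ fun q hq => ?_)).symm
    have e3 : piA (tvN (num v)) q = piA (ev gS (spTvW.getD (num v) [])) q := Fin.ext (by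
      rw [piA_gS, h.2 q.1 hq, piA_val, tvN_apply, (tvAct_eq _ (num_lt v) q.1 q.2).1])
    rw [map_mul, map_inv, Equiv.Perm.mul_apply, e3, Equiv.Perm.inv_def, Equiv.symm_apply_apply]
  rw [e2, show gS = gW spI (gS 6) (gS 6) from (funext gW_eq).symm]
  exact ev_mem _ fun s hs => Subgroup.subset_closure ⟨s, h.1 s hs, rfl⟩

theorem sp_simple : IsSimpleGroup G0 := by
  haveI := Cfsg.Agent.S0270.result (F := ZMod 2) 3 (by norm_num) (fun h => absurd h (by norm_num))
  have e : G0 ≃* Cfsg.PSp 3 (ZMod 2) := ((QuotientGroup.quotientMulEquivOfEq center_eq_bot).trans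
    QuotientGroup.quotientBot).symm
  exact MulEquiv.isSimpleGroup e

end Cfsg.Agent.Fus.SymSix
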