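import Cfsg.Agent.Lib.Fus.SymSix.Hom
import Cfsg.Agent.Lib.Fus.SymSix.SpModel
import Cfsg.Agent.Lib.Fus.SymSix.AltModel
import Cfsg.Agent.Lib.Fus.SymSix.Enum512.Log512Cert
import Cfsg.Agent.Lib.Fus.SymSix.Enum712.Log712Cert

/-!
# Words that agree in the models agree in the group
-/

set_option autoImplicit false
set_option maxRecDepth 100000

namespace Cfsg.Agent.Fus.SymSix

open Cfsg.Agent.Classical.SpSix (G0 card_G0)
open Cfsg.Agent.Spor.Cos (ev ev_append)

/-- A test of equality of words in the eight letters. -/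
structure WordEq {G : Type*} [Group G] (I : ℕ → G) (a b : G) (wEq : List ℕ → List ℕ → Bool) : Prop where
  /-- soundness -/
  sound : ∀ v w, wEq v w = true → ev (gW I a b) v = ev (gW I a b) w

/-- Equality of two words in the alternating group. -/
def wEqA (v w : List ℕ) : Bool :=
  (v.all fun s => Nat.blt s 8) && (w.all fun s => Nat.blt s 8) &&
    (List.range 12).all fun x => Nat.beq (goP v x) (goP w x)

/-- Equality of two words in the symplectic group. -/
def wEqS (v w : List ℕ) : Bool :=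
  (v.all fun s => Nat.blt s 8) && (w.all fun s => Nat.blt s 8) && spBasis.all fun b => Nat.beq (goL v b) (goL w b)

/-- Conjugation by a word takes one element of the centralizer to another. -/
noncomputable def conjOk (wEq : List ℕ → List ℕ → Bool) (t : List ℕ) (v B : ℕ) : Bool :=
  inH v && inH B && ((wordC v).all fun s => Nat.blt s 6) && ((wordC B).all fun s => Nat.blt s 6) &&
    Nat.beq (wC (wordC v)) v && Nat.beq (wC (wordC B)) B && wEq (t ++ wordC v) (wordC B ++ t)

namespace WordEq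

variable {G : Type*} [Group G] {I : ℕ → G} {a b : G} {wEq : List ℕ → List ℕ → Bool} {ta tb : CTree}

theorem conj_eq (W : WordEq I a b wEq) (P : Pair I a b ta tb) {t : List ℕ} {v B : ℕ}
    (h : conjOk wEq t v B = true) :
    Mem v ∧ Mem B ∧ ev (gW I a b) t * I v * (ev (gW I a b) t)⁻¹ = I B := by
  simp only [conjOk, Bool.and_eq_true, List.all_eq_true, Nat.blt_eq, Nat.beq_eq] at h
  obtain ⟨⟨⟨⟨⟨⟨hv, hB⟩, hwv⟩, hwB⟩, ev1⟩, eB1⟩, he⟩ := h
  refine ⟨hv, hB, ?_⟩
  have e := W.sound _ _ he
  rw [ev_append, ev_append, P.ev_wC _ hwv, P.ev_wC _ hwB, ev1, eB1] at e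
  rw [e, mul_inv_cancel_right]

end WordEq

variable {G : Type*} [Group G] [Finite G] {z : G} {I : ℕ → G} {a b : G}

theorem wordEqA (L : Loc z I) (S : Sit I a b swapTree712_9_0 swapTree712_6_1 base712) : WordEq I a b wEqA := by
  haveI := alt_simple
  obtain ⟨φ, -, -, hφ⟩ := exists_hom L S sit712 Enum712.log712_cert alt_gen
    (by rw [Enum712.log712_N, alt_card])
  refine ⟨fun v w h => ?_⟩
  simp only [wEqA, Bool.and_eq_true, List.all_eq_true, Nat.blt_eq, List.mem_range, Nat.beq_eq] at h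
  rw [← hom_ev hφ v h.1.1, ← hom_ev hφ w h.1.2, eq_of_goP h.1.1 h.1.2 h.2]

theorem wordEqS (L : Loc z I) (S : Sit I a b swapTree512_9_3 swapTree512_9_3 base512) : WordEq I a b wEqS := by
  haveI := sp_simple
  obtain ⟨φ, -, -, hφ⟩ := exists_hom L S sit512 Enum512.log512_cert sp_gen (by rw [Enum512.log512_N, card_G0])
  refine ⟨fun v w h => ?_⟩
  simp only [wEqS, Bool.and_eq_true, List.all_eq_true, Nat.blt_eq, Nat.beq_eq] at h
  rw [← hom_ev hφ v h.1.1, ← hom_ev hφ w h.1.2, show gW spI (gS 6) (gS 6) = gS from funext gW_eq, eq_of_goL h.2]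

end Cfsg.Agent.Fus.SymSix
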