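import Cfsg.Agent.Lib.Fus.SymSix.Sixty

/-!
# Automorphisms of the alternating group of degree five induced by normalizing elements
-/

set_option autoImplicit false
set_option maxRecDepth 100000

namespace Cfsg.Agent.Fus.SymSix

open Cfsg.Agent.Spor.Cos (ev)

/-- Conjugation by a permutation. -/
def cj5 (τ : Equiv.Perm (Fin 5)) (x : alternatingGroup (Fin 5)) : alternatingGroup (Fin 5) :=
  ⟨τ * x.1 * τ⁻¹, (alternatingGroup.normal).conj_mem _ x.2 τ⟩

theorem cj5_mul (τ : Equiv.Perm (Fin 5)) (x y : alternatingGroup (Fin 5)) : cj5 τ (x * y) = cj5 τ x * cj5 τ y :=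
  Subtype.ext (by simp [cj5, mul_assoc])

namespace SixtyMap

variable {G : Type*} [Group G] [Finite G] {z : G} {I : ℕ → G} {a b : G} {n : CNode} {c : SixtyCert}
variable {π : centV I n →* alternatingGroup (Fin 5)}

omit [Finite G] in
/-- Maps preserving the subgroup in both directions preserve its centralizer. -/
theorem conj_mem {u : G} (h : ∀ v ∈ n.V, ∃ w ∈ n.V, u⁻¹ * I v * u = I w) {g : G} (hg : g ∈ centV I n) :
    u * g * u⁻¹ ∈ centV I n := by
  refine mem_centV.2 fun v hv => ?_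
  obtain ⟨w, hw, e⟩ := h v hv
  have hgw := mem_centV.1 hg w hw
  have e' : I v = u * I w * u⁻¹ := by rw [← e]; group
  rw [e']
  calc u * g * u⁻¹ * (u * I w * u⁻¹) = u * (g * I w) * u⁻¹ := by group
    _ = _ := by rw [hgw]; group

/-- An element moving the subgroup into itself also moves it onto itself. -/
theorem moved_back {u : G} (h : ∀ v ∈ n.V, ∃ w ∈ n.V, u * I v = I w * u) :
    (∀ v ∈ n.V, ∃ w ∈ n.V, u⁻¹ * I v * u = I w) ∧ ∀ v ∈ n.V, ∃ w ∈ n.V, u * I v * u⁻¹ = I w := by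
  classical
  have h2 : ∀ v ∈ n.V, ∃ w ∈ n.V, u * I v * u⁻¹ = I w := fun v hv => by
    obtain ⟨w, hw, e⟩ := h v hv
    exact ⟨w, hw, by rw [e, mul_inv_cancel_right]⟩
  refine ⟨fun v hv => ?_, h2⟩
  let S := nodeSet I n
  let f : S → S := fun x => ⟨u * x.1 * u⁻¹, by
    obtain ⟨w, hw, e⟩ := x.2
    obtain ⟨w', hw', e'⟩ := h2 w hw
    exact ⟨w', hw', by rw [← e, e']⟩⟩
  have hf : Function.Injective f := fun x y e => Subtype.ext ((MulAut.conj u).injective (congrArg Subtype.val e))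
  obtain ⟨⟨y, w, hw, e⟩, hy⟩ := Finite.surjective_of_injective hf ⟨I v, v, hv, rfl⟩
  refine ⟨w, hw, ?_⟩
  have : u * y * u⁻¹ = I v := congrArg Subtype.val hy
  rw [← this, e]
  group

/-- A normalizing element acts as a permutation known on three generators. -/
theorem transport (hπ : SixtyMap z I a b n c π) {u : G}
    (hu : ∀ v ∈ n.V, ∃ w ∈ n.V, u * I v = I w * u) {zT cT rT : centV I n} (hz : (zT : G) = z)
    (hc : (cT : G) = I c.c1) (hr : (rT : G) = ev (gW I a b) c.t) {τ : Equiv.Perm (Fin 5)}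
    {za ca ra : centV I n} (ez : u * zT = za * u) (ec : u * cT = ca * u) (er : u * rT = ra * u)
    (tz : π za = cj5 τ dOne) (tc : π ca = cj5 τ dTwo) (tr : π ra = cj5 τ rThree)
    {g g' : centV I n} (eg : u * g = g' * u) : π g' = cj5 τ (π g) := by
  classical
  obtain ⟨hb1, hb2⟩ := moved_back hu
  let ν : centV I n →* centV I n := MonoidHom.mk' (fun g => ⟨u * g * u⁻¹, conj_mem hb1 g.2⟩) fun g g' =>
    Subtype.ext (by show u * ((g : G) * g') * u⁻¹ = _ * _; group)
  have hν : ∀ {x y : centV I n}, u * (x : G) = y * u → ν x = y := fun {x y} e =>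
    Subtype.ext (mul_inv_eq_iff_eq_mul.2 e)
  have hker : ∀ g, π g = 1 → π (ν g) = 1 := by
    intro g hg
    obtain ⟨v, hv, e⟩ := (hπ.ker g).1 hg
    obtain ⟨w, hw, e'⟩ := hb2 v hv
    exact (hπ.ker _).2 ⟨w, hw, by rw [← e', e]; rfl⟩
  have hrep := hπ.surj
  choose lift hlift using hrep
  have hwd : ∀ g, π (ν (lift (π g))) = π (ν g) := by
    intro g
    have h : π ((lift (π g))⁻¹ * g) = 1 := by rw [map_mul, map_inv, hlift, inv_mul_cancel]
    have h2 := hker _ h
    rw [map_mul, map_mul, map_inv, map_inv] at h2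
    exact inv_mul_eq_one.1 h2
  let α₀ : alternatingGroup (Fin 5) →* alternatingGroup (Fin 5) :=
    MonoidHom.mk' (fun x => cj5 τ⁻¹ (π (ν (lift x)))) fun x y => by
      rw [← cj5_mul, ← map_mul π, ← map_mul ν, ← hwd (lift x * lift y), map_mul π, hlift, hlift]
  have hα₀ : Function.Surjective α₀ := by
    intro x
    obtain ⟨g, hg⟩ := hπ.surj (cj5 τ x)
    have hmem : u⁻¹ * g * u⁻¹⁻¹ ∈ centV I n := conj_mem (by simpa using hb2) g.2
    refine ⟨π ⟨_, hmem⟩, ?_⟩
    show cj5 τ⁻¹ (π (ν (lift _))) = _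
    rw [hwd, hν (y := g) (by simp [mul_assoc]), hg]
    exact Subtype.ext (by simp [cj5, mul_assoc])
  let α := MulEquiv.ofBijective α₀ ⟨Finite.injective_iff_surjective.2 hα₀, hα₀⟩
  have hα : ∀ g, α (π g) = cj5 τ⁻¹ (π (ν g)) := fun g => congrArg (cj5 τ⁻¹) (hwd g)
  have hback : ∀ x, cj5 τ⁻¹ (cj5 τ x) = x := fun x => Subtype.ext (by simp [cj5, mul_assoc])
  obtain ⟨a1, a2, a3, a4, a5, a6, a7, a8, -⟩ := std_ok
  have h1 : α dOne = dOne := by rw [← hπ.mapz zT hz, hα, hν ez, tz, hback, hπ.mapz zT hz]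
  have h2 : α dTwo = dTwo := by rw [← hπ.mapc cT hc, hα, hν ec, tc, hback, hπ.mapc cT hc]
  have h3 : α rThree = rThree := by rw [← hπ.mapt rT hr, hα, hν er, tr, hback, hπ.mapt rT hr]
  have hfix := Cfsg.Agent.Invol.HJ.a5_rigid α dOne dTwo rThree a1 a2 a3 a4 a5 a6 a7 a8 h1 h2 h3 (π g)
  rw [hα, hν eg] at hfix
  conv_rhs => rw [← hfix]
  exact Subtype.ext (by simp [cj5, mul_assoc])

/-- Lifts of order three are unique. -/
theorem lift_three (hπ : SixtyMap z I a b n c π) (hvv : ∀ v ∈ n.V, I v * I v = 1) {x y : centV I n}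
    (hx : (x : G) ^ 3 = 1) (hy : (y : G) ^ 3 = 1) (he : π x = π y) : x = y := by
  obtain ⟨v, hv, e⟩ := (hπ.ker (x⁻¹ * y)).1 (by rw [map_mul, map_inv, he, inv_mul_cancel])
  change I v = (x : G)⁻¹ * y at e
  have hyx : (y : G) = x * I v := by rw [e]; group
  have hc : Commute (x : G) (I v) := mem_centV.1 x.2 v hv
  rw [hyx, hc.mul_pow, hx, one_mul, pow_succ, pow_two, hvv v hv, one_mul] at hy
  exact Subtype.ext (by rw [hyx, hy, mul_one])

end SixtyMap

end Cfsg.Agent.Fus.SymSix
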