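import Cfsg.Agent.Lib.Fus.SymSix.StabTen
import Cfsg.Agent.Lib.Fus.SymSix.Transport
import Cfsg.Agent.Lib.Fus.SymSix.Transfer
import Cfsg.Agent.Lib.Fus.SymSix.NodeRun712

/-!
# An element of order three outside the alternating group of degree twelve
-/

set_option autoImplicit false
set_option maxRecDepth 100000
set_option maxHeartbeats 1000000
set_option Elab.async false

namespace Cfsg.Agent.Fus.SymSix

open Cfsg.Agent.Spor.Cos (ev ev_append)

/-- Three points as an even permutation. -/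
def tc (a b c : Fin 12) : alternatingGroup (Fin 12) :=
  if h : a ≠ b ∧ b ≠ c then
    ⟨Equiv.swap a b * Equiv.swap b c, Equiv.Perm.mem_alternatingGroup.2 (by
      rw [map_mul, Equiv.Perm.sign_swap h.1, Equiv.Perm.sign_swap h.2]; rfl)⟩
  else 1

theorem tc_val {a b c : Fin 12} (h : a ≠ b ∧ b ≠ c) : (tc a b c).1 = Equiv.swap a b * Equiv.swap b c := by
  rw [tc, dif_pos h]

theorem tc_list_aux : ∀ a b c : Fin 12, a ≠ b → b ≠ c → a ≠ c → ∀ y : Fin 12,
    ((Equiv.swap a b * Equiv.swap b c) y : ℕ) = (cycL a b c).getD y 0 := by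
  decide +kernel

theorem PR.tc {a b c : Fin 12} (hab : a ≠ b) (hbc : b ≠ c) (hac : a ≠ c) : PR (tc a b c) (cycL a b c) := fun y => by
  rw [tc_val ⟨hab, hbc⟩]
  exact tc_list_aux a b c hab hbc hac y

/-- The element mapped to the special turn. -/
def rho5 : alternatingGroup (Fin 5) :=
  ⟨Equiv.swap 2 3 * Equiv.swap 3 4, Equiv.Perm.mem_alternatingGroup.mpr (by decide)⟩

theorem rho5_ok : rho5 * rho5 * rho5 = 1 ∧ cj5 1 rho5 = rho5 ∧ cj5 (Equiv.swap 0 1) rho5 = rho5 := by decide +kernel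

theorem cj5_one_eq (x : alternatingGroup (Fin 5)) : cj5 1 x = x := Subtype.ext (by simp [cj5])

theorem swap01_ok : cj5 (Equiv.swap 0 1) dOne = dOne ∧ cj5 (Equiv.swap 0 1) dTwo = dOne * dTwo ∧
    cj5 (Equiv.swap 0 1) rThree = dTwo * (rThree * rThree) := by decide +kernel

theorem gen5 : ∀ g : alternatingGroup (Fin 5), ∃ i j k : Fin 3, ∃ p q : Fin 2, ∃ e : Fin 2, ∃ p' q' : Fin 2,
    g = dOne ^ p.1 * dTwo ^ q.1 * rThree ^ i.1 * rho5 ^ j.1 * (dOne ^ p'.1 * dTwo ^ q'.1 * rThree ^ k.1) * rho5 ^ e.1 := by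
  decide +kernel

/-- The list of the fixed four group centralizer part. -/
def lz : List ℕ := lstC zC
/-- The second involution, as a list. -/
def lcl : List ℕ := lstC sixty712_39.c1
/-- The turning element, as a list. -/
def ltl : List ℕ := lstW sixty712_39.t

/-- Commuting with the whole four group. -/
def commAllOk (l : List ℕ) : Bool := node712_39.V.all fun v => leq (lc l (lstC v)) (lc (lstC v) l)

/-- Moving the four group into itself and three elements as prescribed. -/
def normOk (l la lb lg : List ℕ) : Bool :=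
  (node712_39.V.all fun v => node712_39.V.any fun w => leq (lc l (lstC v)) (lc (lstC w) l)) &&
    (node712_39.V.any fun w => leq (lc l lz) (lc (lc la (lstC w)) l)) &&
    (node712_39.V.any fun w => leq (lc l lcl) (lc (lc lb (lstC w)) l)) &&
    node712_39.V.any fun w => leq (lc l ltl) (lc (lc lg (lstC w)) l)

/-- The products of subsets. -/
def subProds : List (List ℕ) → List (List ℕ)
  | [] => [List.range 12]
  | l :: ls => subProds ls ++ (subProds ls).map (lc l)

/-- The generators of the subgroup of five pairs. -/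
def pairGens : List (List ℕ) :=
  [lc (cycL 0 1 2) (cycL 1 2 3), lc (cycL 0 1 6) (cycL 1 6 7), lc (cycL 0 1 8) (cycL 1 8 9),
    lc (cycL 0 1 10) (cycL 1 10 11)]

theorem data39_ok : (commAllOk lz && commAllOk lcl && commAllOk ltl &&
    normOk (lc (cycL 0 1 2) (cycL 1 2 3)) lz (lc lz lcl) (lc lcl (lc ltl ltl)) &&
    normOk (lc (cycL 0 1 6) (cycL 1 6 7)) lz lcl ltl && normOk (lc (cycL 0 1 8) (cycL 1 8 9)) lz lcl ltl &&
    normOk (lc (cycL 0 1 10) (cycL 1 10 11)) lz lcl ltl && normOk (cycL 0 1 6) lz lcl ltl &&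
    normOk (cycL 8 9 10) lz lcl ltl) = true := by decide +kernel

theorem t39_lt : ∀ s ∈ sixty712_39.t, s < 8 := by decide +kernel

theorem c39_mem : inH sixty712_39.c1 = true := by decide +kernel

theorem data41_ok : (inH hThirteen && (node712_41.V.all fun v =>
      (subProds pairGens).any fun p => leq (lstC (cjC (invC hThirteen) v)) p) &&
    (dThirteen.all fun d => inH d && fz 712 d && node712_41.V.all fun v => node712_41.inV (cjC d v)) &&
    (stabGens.length == 4) && leq (cycL 0 1 6) (stabGens.getD 3 []) &&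
    (List.range 3).all fun i =>
      leq (lstC (cjC (invC hThirteen) (mulC (mulC zC (dThirteen.getD i 0)) oneC))) (stabGens.getD i [])) = true := by
  decide +kernel

theorem two41_ok : twoOk 712 wEqA node712_41 (match nCert712_41 with | .two _ _ s _ => s | _ => ⟨[], 0, []⟩) = true := by
  decide +kernel

/-- Points with the same fixed behaviour under the subgroup lie in one pair. -/
theorem profile41 : ((List.range 12).all fun y => (List.range 12).all fun w => Nat.beq (y / 2) (w / 2) ||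
    node712_41.V.any fun v => !(Nat.beq (app v y) y == Nat.beq (app v w) w)) = true ∧
    ∀ v ∈ node712_41.V, ∀ y < 12, (app v y = y ↔ app v (Nat.xor y 1) = Nat.xor y 1) := by
  decide +kernel

theorem comm_z0_of_comm {σ : alternatingGroup (Fin 12)}
    (h : ∀ v ∈ node712_41.V, σ * altI v = altI v * σ) (hm : ∀ v ∈ node712_41.V, Mem v) :
    σ * altI zC = altI zC * σ := by
  refine Subtype.ext (Equiv.ext fun y => ?_)
  show σ.1 ((altI zC).1 y) = (altI zC).1 (σ.1 y)
  rw [altI_val mem_z, toPerm_z]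
  obtain ⟨hp, hi⟩ := profile41
  simp only [List.all_eq_true, List.mem_range, Bool.or_eq_true, List.any_eq_true, Nat.beq_eq] at hp
  have hfix : ∀ v ∈ node712_41.V, ∀ u : Fin 12, app v (σ.1 u) = σ.1 u ↔ app v u = u := by
    intro v hv u
    have e : σ.1 ((altI v).1 u) = (altI v).1 (σ.1 u) := congrArg (fun p : alternatingGroup (Fin 12) => p.1 u) (h v hv)
    rw [← toPerm_apply (hm v hv) (σ.1 u), ← toPerm_apply (hm v hv) u, Fin.val_inj, Fin.val_inj,
      ← altI_val (hm v hv), ← e]
    exact σ.1.injective.eq_iff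
  have hd : (σ.1 (z0 y) : ℕ) / 2 = (σ.1 y : ℕ) / 2 := by
    refine (hp _ (σ.1 (z0 y)).2 _ (σ.1 y).2).resolve_right ?_
    rintro ⟨v, hv, hne⟩
    have e := hi v hv y y.2
    rw [← z0_apply, ← hfix v hv y, ← hfix v hv (z0 y)] at e
    simp only [Bool.not_eq_true', beq_eq_false_iff_ne, ne_eq] at hne
    exact hne (Bool.eq_iff_iff.2 (by rw [Nat.beq_eq, Nat.beq_eq]; exact e.symm))
  have hne : (σ.1 (z0 y) : ℕ) ≠ σ.1 y := by
    rw [Fin.val_ne_iff]
    intro e
    have := congrArg Fin.val (σ.1.injective e)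
    rw [z0_apply] at this
    have hx : ∀ k < 12, Nat.xor k 1 ≠ k := by decide +kernel
    exact hx y y.2 this
  refine Fin.ext ?_
  rw [z0_apply]
  have hx : ∀ a < 12, ∀ b < 12, b / 2 = a / 2 → b ≠ a → b = Nat.xor a 1 := by decide +kernel
  exact hx _ (σ.1 y).2 _ (σ.1 (z0 y)).2 hd hne

/-- The map from the model and the map onto the alternating group of degree five. -/
structure ThirteenSit {G : Type*} [Group G] (z : G) (I : ℕ → G) (a b : G) (φ : alternatingGroup (Fin 12) →* G)
    (π : centV I node712_39 →* alternatingGroup (Fin 5)) : Prop where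
  /-- coordinates and pattern -/
  emb : Emb z I a b swapTree712_9_0 swapTree712_6_1 712 (genGrp I a b)
  /-- equal words -/
  words : WordEq I a b wEqA
  /-- injective -/
  inj : Function.Injective φ
  /-- the image -/
  range : φ.range = genGrp I a b
  /-- on the letters -/
  letters : ∀ s < 8, φ (gW altI aA bA s) = gW I a b s
  /-- the map -/
  five : SixtyMap z I a b node712_39 sixty712_39 π

namespace ThirteenSit

variable {G : Type*} [Group G] [Finite G] {z : G} {I : ℕ → G} {a b : G} {φ : alternatingGroup (Fin 12) →* G}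
variable {π : centV I node712_39 →* alternatingGroup (Fin 5)} (T : ThirteenSit z I a b φ π)
include T

omit [Finite G] in
theorem map_altI {c : ℕ} (hc : Mem c) : φ (altI c) = I c := by
  obtain ⟨w, hw, rfl⟩ := hc.exists_word
  rw [← alt_wC w hw, hom_ev T.letters w fun s hs => by have := hw s hs; omega]
  exact T.emb.pair.ev_wC w hw

omit [Finite G] in
theorem map_z : φ (altI zC) = z := (T.map_altI mem_z).trans T.emb.loc.map_z

omit T in
theorem v_mem {v : ℕ} (hv : v ∈ node712_39.V) : Mem v := by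
  have := (nodesGood_of_ok nodes712_ok).base node712_39 (by simp [nodes712])
  exact (this.2.2 v hv).1

omit [Finite G] in
theorem v_sq : ∀ v ∈ node712_39.V, I v * I v = 1 := by
  intro v hv
  have := (nodesGood_of_ok nodes712_ok).base node712_39 (by simp [nodes712])
  rw [← T.emb.loc.hom _ _ (v_mem hv) (v_mem hv), (this.2.2 v hv).2.1, T.emb.loc.map_one]

omit [Finite G] in
theorem mem_of_comm {σ : alternatingGroup (Fin 12)} {l : List ℕ} (hl : PR σ l) (h : commAllOk l = true) :
    φ σ ∈ centV I node712_39 := by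
  refine mem_centV.2 fun v hv => ?_
  rw [← T.map_altI (v_mem hv), ← map_mul, ← map_mul]
  exact congrArg φ ((hl.mul (PR.code (v_mem hv))).eq' ((PR.code (v_mem hv)).mul hl)
    (List.all_eq_true.1 h v hv))

omit [Finite G] in
theorem basic : ∃ zT cT rT : centV I node712_39, (zT : G) = φ (altI zC) ∧ (cT : G) = φ (altI sixty712_39.c1) ∧
    (rT : G) = φ (ev (gW altI aA bA) sixty712_39.t) ∧ π zT = dOne ∧ π cT = dTwo ∧ π rT = rThree := by
  have h := data39_ok
  simp only [Bool.and_eq_true] at h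
  refine ⟨⟨_, T.mem_of_comm (PR.code mem_z) h.1.1.1.1.1.1.1.1⟩, ⟨_, T.mem_of_comm (PR.code c39_mem) h.1.1.1.1.1.1.1.2⟩,
    ⟨_, T.mem_of_comm (PR.word t39_lt) h.1.1.1.1.1.1.2⟩, rfl, rfl, rfl, ?_, ?_, ?_⟩
  · exact T.five.mapz _ T.map_z
  · exact T.five.mapc _ (T.map_altI c39_mem)
  · exact T.five.mapt _ (hom_ev T.letters _ t39_lt)

/-- A normalizing element with the right images fixes the lift of order three. -/
theorem comm_lift {x : centV I node712_39} (hx : (x : G) ^ 3 = 1) (hxπ : π x = rho5)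
    {σ A B C : alternatingGroup (Fin 12)} {l la lb lg : List ℕ} (hl : PR σ l) (hA : PR A la) (hB : PR B lb)
    (hC : PR C lg) (h : normOk l la lb lg = true) {τ : Equiv.Perm (Fin 5)} (hτ : cj5 τ rho5 = rho5)
    {AT BT CT : centV I node712_39} (eA : (AT : G) = φ A) (eB : (BT : G) = φ B) (eC : (CT : G) = φ C)
    (πA : π AT = cj5 τ dOne) (πB : π BT = cj5 τ dTwo) (πC : π CT = cj5 τ rThree) :
    φ σ * x = x * φ σ := by
  classical
  obtain ⟨zT, cT, rT, ez, ec, er, -, -, -⟩ := T.basic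
  simp only [normOk, Bool.and_eq_true, List.all_eq_true, List.any_eq_true] at h
  obtain ⟨⟨⟨hV, ⟨wa, hwa, ha⟩⟩, ⟨wb, hwb, hb⟩⟩, ⟨wc, hwc, hc⟩⟩ := h
  have hu : ∀ v ∈ node712_39.V, ∃ w ∈ node712_39.V, φ σ * I v = I w * φ σ := fun v hv => by
    obtain ⟨w, hw, e⟩ := hV v hv
    refine ⟨w, hw, ?_⟩
    rw [← T.map_altI (v_mem hv), ← T.map_altI (v_mem hw), ← map_mul, ← map_mul]
    exact congrArg φ ((hl.mul (PR.code (v_mem hv))).eq' ((PR.code (v_mem hw)).mul hl) e)
  have hVT : ∀ w ∈ node712_39.V, I w ∈ centV I node712_39 := fun w hw => mem_centV.2 fun v hv => by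
    have := ((nodesGood_of_ok nodes712_ok).base node712_39 (by simp [nodes712])).2.2 w hw
    exact (T.emb.loc.comm_iff (v_mem hw) (v_mem hv)).2 (this.2.2.2 v hv).2
  have hπ1 : ∀ (w : ℕ) (hw : w ∈ node712_39.V), π ⟨I w, hVT w hw⟩ = 1 := fun w hw =>
    (T.five.ker _).2 ⟨w, hw, rfl⟩
  have heq : ∀ {S U : alternatingGroup (Fin 12)} {ls lu : List ℕ} {w : ℕ}, PR S ls → PR U lu →
      w ∈ node712_39.V → leq (lc l ls) (lc (lc lu (lstC w)) l) = true → φ σ * φ S = φ U * I w * φ σ := by
    intro S U ls lu w hS hU hw e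
    rw [← T.map_altI (v_mem hw), ← map_mul, ← map_mul, ← map_mul]
    exact congrArg φ ((hl.mul hS).eq' ((hU.mul (PR.code (v_mem hw))).mul hl) e)
  obtain ⟨hb1, -⟩ := SixtyMap.moved_back hu
  let x' : centV I node712_39 := ⟨φ σ * x * (φ σ)⁻¹, SixtyMap.conj_mem hb1 x.2⟩
  have hp : π x' = cj5 τ (π x) :=
    T.five.transport hu (ez.trans T.map_z) (ec.trans (T.map_altI c39_mem))
      (er.trans (hom_ev T.letters _ t39_lt)) (za := AT * ⟨I wa, hVT wa hwa⟩) (ca := BT * ⟨I wb, hVT wb hwb⟩)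
      (ra := CT * ⟨I wc, hVT wc hwc⟩)
      (by rw [ez, Subgroup.coe_mul, eA]; exact heq (PR.code mem_z) hA hwa ha)
      (by rw [ec, Subgroup.coe_mul, eB]; exact heq (PR.code c39_mem) hB hwb hb)
      (by rw [er, Subgroup.coe_mul, eC]; exact heq (PR.word t39_lt) hC hwc hc)
      (by rw [map_mul, hπ1 wa hwa, mul_one, πA]) (by rw [map_mul, hπ1 wb hwb, mul_one, πB]) (by rw [map_mul, hπ1 wc hwc, mul_one, πC])
      (show φ σ * x = φ σ * x * (φ σ)⁻¹ * φ σ by group)
  have he := T.five.lift_three T.v_sq (x := x') (y := x)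
    (by show (φ σ * x * (φ σ)⁻¹) ^ 3 = 1; rw [conj_pow, hx, mul_one, mul_inv_cancel]) hx
    (by rw [hp, hxπ, hτ])
  exact mul_inv_eq_iff_eq_mul.1 (congrArg Subtype.val he)

/-- There is an element of order three centralized by the stabilizer of two points. -/
theorem exists_x : ∃ x : centV I node712_39, (x : G) ^ 3 = 1 ∧ π x = rho5 ∧
    ∀ σ : alternatingGroup (Fin 12), σ.1 4 = 4 → σ.1 5 = 5 → φ σ * x = x * φ σ := by
  classical
  obtain ⟨zT, cT, rT, ez, ec, er, πz, πc, πr⟩ := T.basic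
  obtain ⟨x₀, hx₀⟩ := T.five.surj rho5
  have h3 : π (x₀ ^ 3) = 1 := by rw [map_pow, hx₀, pow_succ, pow_two]; exact rho5_ok.1
  obtain ⟨v, hv, ev0⟩ := (T.five.ker _).1 h3
  set x := x₀ ^ 4
  have hx : (x : G) ^ 3 = 1 := by
    simp only [x, Subgroup.coe_pow] at ev0 ⊢
    rw [← pow_mul, show 4 * 3 = 3 * 2 * 2 from rfl, pow_mul, pow_mul, ← ev0, pow_two (I v), T.v_sq v hv, one_pow]
  have hxπ : π x = rho5 := by
    simp only [x]
    rw [map_pow, hx₀, pow_succ, pow_succ, pow_two, rho5_ok.1, one_mul]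
  refine ⟨x, hx, hxπ, ?_⟩
  let K : Subgroup (alternatingGroup (Fin 12)) := (Subgroup.centralizer ({(x : G)} : Set G)).comap φ
  have hK : ∀ {σ}, φ σ * x = x * φ σ → σ ∈ K := fun h => Subgroup.mem_centralizer_singleton_iff.2 h
  have hd := data39_ok
  simp only [Bool.and_eq_true] at hd
  obtain ⟨⟨⟨⟨⟨⟨-, hn1⟩, hn2⟩, hn3⟩, hn4⟩, hk1⟩, hk2⟩ := hd
  have n1 : ∀ {σ : alternatingGroup (Fin 12)} {l : List ℕ}, PR σ l → normOk l lz lcl ltl = true → σ ∈ K :=
    fun hl h => hK (T.comm_lift hx hxπ hl (PR.code mem_z) (PR.code c39_mem) (PR.word t39_lt) h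
      (τ := 1) rho5_ok.2.1 ez ec er (by rw [πz, cj5_one_eq]) (by rw [πc, cj5_one_eq]) (by rw [πr, cj5_one_eq]))
  have hpair : ∀ p q r s : Fin 12, p ≠ q → q ≠ r → p ≠ r → q ≠ s → r ≠ s →
      PR (tc p q r * tc q r s) (lc (cycL p q r) (cycL q r s)) := fun p q r s h1 h2 h3 h4 h5 =>
    (PR.tc h1 h2 h3).mul (PR.tc h2 h5 h4)
  have g1 : tc 0 1 2 * tc 1 2 3 ∈ K := hK (T.comm_lift hx hxπ
    (hpair 0 1 2 3 (by decide) (by decide) (by decide) (by decide) (by decide)) (PR.code mem_z)
    ((PR.code mem_z).mul (PR.code c39_mem)) ((PR.code c39_mem).mul ((PR.word t39_lt).mul (PR.word t39_lt))) hn1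
    (τ := Equiv.swap 0 1) rho5_ok.2.2 (BT := zT * cT) (CT := cT * (rT * rT)) ez
    (by rw [Subgroup.coe_mul, map_mul, ez, ec]) (by simp only [Subgroup.coe_mul, map_mul, ec, er])
    (by rw [πz, swap01_ok.1]) (by rw [map_mul, πz, πc, swap01_ok.2.1])
    (by rw [map_mul, map_mul, πc, πr, swap01_ok.2.2]))
  have g2 := n1 (hpair 0 1 6 7 (by decide) (by decide) (by decide) (by decide) (by decide)) hn2
  have g3 := n1 (hpair 0 1 8 9 (by decide) (by decide) (by decide) (by decide) (by decide)) hn3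
  have g4 := n1 (hpair 0 1 10 11 (by decide) (by decide) (by decide) (by decide) (by decide)) hn4
  have gk : tc 0 1 6 ∈ K := n1 (PR.tc (by decide) (by decide) (by decide)) hk1
  have hsub : ∀ ls : List (List ℕ), (∀ l ∈ ls, ∃ g ∈ K, PR g l) → ∀ p ∈ subProds ls, ∃ g ∈ K, PR g p := by
    intro ls
    induction ls with
    | nil =>
      intro _ p hp
      simp only [subProds, List.mem_singleton] at hp
      subst hp
      exact ⟨1, one_mem _, fun y => by simp [List.getD_eq_getElem?_getD]⟩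
    | cons l ls ih =>
      intro h p hp
      simp only [subProds, List.mem_append, List.mem_map] at hp
      rcases hp with hp | ⟨p', hp', rfl⟩
      · exact ih (fun l' hl' => h l' (List.mem_cons_of_mem _ hl')) p hp
      · obtain ⟨g, hg, hgp⟩ := ih (fun l' hl' => h l' (List.mem_cons_of_mem _ hl')) p' hp'
        obtain ⟨g', hg', hgp'⟩ := h l (List.mem_cons_self ..)
        exact ⟨g' * g, mul_mem hg' hg, hgp'.mul hgp⟩
  have hgens : ∀ l ∈ pairGens, ∃ g ∈ K, PR g l := by
    simp only [pairGens, List.mem_cons, List.not_mem_nil, or_false, forall_eq_or_imp, forall_eq]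
    exact ⟨⟨_, g1, hpair 0 1 2 3 (by decide) (by decide) (by decide) (by decide) (by decide)⟩,
      ⟨_, g2, hpair 0 1 6 7 (by decide) (by decide) (by decide) (by decide) (by decide)⟩,
      ⟨_, g3, hpair 0 1 8 9 (by decide) (by decide) (by decide) (by decide) (by decide)⟩,
      ⟨_, g4, hpair 0 1 10 11 (by decide) (by decide) (by decide) (by decide) (by decide)⟩⟩
  -- the subgroup of five pairs
  have L := T.emb.loc
  have h41 := data41_ok
  simp only [Bool.and_eq_true, List.all_eq_true, List.any_eq_true, CNode.inV_iff, beq_iff_eq, List.mem_range] at h41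
  obtain ⟨⟨⟨⟨⟨hh, hW⟩, hds⟩, hlen⟩, hg3⟩, hgi⟩ := h41
  replace hh : Mem hThirteen := hh
  have hN := nodesGood_of_ok nodes712_ok
  have h41mem : node712_41 ∈ nodes712 := by simp [nodes712]
  have hm41 : ∀ v ∈ node712_41.V, Mem v := fun v hv => ((hN.base _ h41mem).2.2 v hv).1
  set h := I hThirteen
  have hback : ∀ {c : ℕ}, Mem c → I (cjC (invC hThirteen) c) = h⁻¹ * I c * h := fun hc => by
    rw [L.map_cj hh.inv hc, L.map_inv hh, inv_inv]
  set y := h * (x : G) * h⁻¹
  have hy : y ∈ centV I node712_41 := mem_centV.2 fun v hv => by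
    obtain ⟨p, hp, e⟩ := hW v hv
    obtain ⟨g, hg, hgp⟩ := hsub _ hgens p hp
    have hm := Mem.cj hh.inv (hm41 v hv)
    have hgv : φ g = h⁻¹ * I v * h := by
      rw [← hback (hm41 v hv), ← T.map_altI hm, ((PR.code hm).eq' hgp e)]
    have hc : φ g * x = x * φ g := Subgroup.mem_centralizer_singleton_iff.1 hg
    rw [hgv] at hc
    simp only [y]
    calc h * (x : G) * h⁻¹ * I v = h * (x * (h⁻¹ * I v * h)) * h⁻¹ := by group
      _ = h * ((h⁻¹ * I v * h) * x) * h⁻¹ := by rw [hc]
      _ = _ := by group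
  obtain ⟨O, hO, hodd, hall, hcomm, hinv, -⟩ := T.emb.two_split T.words hN h41mem two41_ok
  have hyO : y ∈ O := hall y hy (by
    simp only [y]
    rw [Cfsg.Agent.Invol.orderOf_conj_eq]
    exact (show Odd 3 by decide).of_dvd_nat (orderOf_dvd_of_pow_eq_one hx))
  have htriv : ∀ w ∈ O, w ∈ genGrp I a b → w = 1 := by
    intro w hw hwM
    rw [← T.range] at hwM
    obtain ⟨σ, rfl⟩ := hwM
    have hσ : σ * altI zC = altI zC * σ := comm_z0_of_comm (fun v hv => T.inj (by
      rw [map_mul, map_mul, T.map_altI (hm41 v hv)]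
      exact mem_centV.1 (hO hw) v hv)) hm41
    have e : φ σ * z = z * φ σ := by rw [← T.map_z, ← map_mul, hσ, map_mul]
    have h2 := hinv _ hw
    rw [← e, mul_inv_cancel_right] at h2
    have hsq : φ σ ^ 2 = 1 := by rw [pow_two]; nth_rewrite 2 [h2]; exact mul_inv_cancel _
    have ho := hodd _ hw
    rcases (Nat.dvd_prime Nat.prime_two).1 (orderOf_dvd_of_pow_eq_one hsq) with h1 | h1
    · exact orderOf_eq_one_iff.1 h1
    · rw [h1] at ho; exact absurd ho (by decide)
  have hzd : ∀ i < 3, ∃ g ∈ K, PR g (stabGens.getD i []) := by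
    intro i hi
    have hdi : dThirteen.getD i 0 ∈ dThirteen := by
      rw [List.getD_eq_getElem _ _ (show i < dThirteen.length from hi)]; exact List.getElem_mem _
    obtain ⟨hu, hux⟩ := Emb.zd_mod T.emb (fun v hv => hm41 v hv) hO hodd hall hcomm hinv [dThirteen.getD i 0]
      fun d hd => by
        rw [List.mem_singleton.1 hd]
        exact ⟨(hds _ hdi).1.1, (hds _ hdi).1.2, (hds _ hdi).2⟩
    obtain ⟨h1, h2⟩ := hux y hyO
    have he := htriv _ (mul_mem (inv_mem hyO) h1) h2
    have hm := Mem.cj hh.inv hu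
    refine ⟨altI (cjC (invC hThirteen) (zdProd [dThirteen.getD i 0])), hK ?_, fun p => ((PR.code hm) p).trans
      (Nat.eq_of_beq_eq_true (List.all_eq_true.1 (hgi i hi) p (List.mem_range.2 p.2)))⟩
    rw [T.map_altI hm, hback hu]
    set u := I (zdProd [dThirteen.getD i 0])
    have hc : u * y = y * u := mul_inv_eq_iff_eq_mul.1 (inv_mul_eq_one.1 he).symm
    simp only [y] at hc
    calc h⁻¹ * u * h * (x : G) = h⁻¹ * (u * (h * x * h⁻¹)) * h := by group
      _ = h⁻¹ * (h * x * h⁻¹ * u) * h := by rw [hc]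
      _ = _ := by group
  intro σ h4 h5
  refine Subgroup.mem_centralizer_singleton_iff.1 (stab_le (K := K) (fun s hs => ?_) h4 h5)
  rw [hlen] at hs
  rcases Nat.lt_or_ge s 3 with h | h
  · exact hzd s h
  · obtain rfl : s = 3 := by omega
    refine ⟨_, gk, fun p => ((PR.tc (by decide) (by decide) (by decide) : PR (tc 0 1 6) _) p).trans ?_⟩
    exact Nat.eq_of_beq_eq_true (List.all_eq_true.1 hg3 p (List.mem_range.2 p.2))

end ThirteenSit

end Cfsg.Agent.Fus.SymSix
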