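import Cfsg.Agent.Lib.Fus.SymSix.Solve
import Cfsg.Agent.Lib.Fus.SymSix.Swaps
import Cfsg.Agent.Lib.Fus.SymSix.SpModel
import Cfsg.Agent.Lib.Fus.SymSix.AltModel
import Cfsg.Agent.Lib.Fus.SymSix.Enum512.Log512Cert
import Cfsg.Agent.Lib.Fus.SymSix.Enum712.Log712Cert

/-!
# The symplectic or the alternating group inside a group of the two patterns
-/

set_option autoImplicit false
set_option maxRecDepth 100000

namespace Cfsg.Agent.Fus.SymSix

open Cfsg.Agent.Classical.SpSix (G0 card_G0)

namespace Loc

variable {G : Type*} [Group G] [Finite G] {z : G} {I : ℕ → G} (L : Loc z I)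
include L

/-- The symplectic group in the first pattern. -/
theorem found512 {a : G} (ha : Swap I a swapTree512_9_3) :
    ∃ a', Sit I a' a' swapTree512_9_3 swapTree512_9_3 base512 ∧ Nonempty (G0 ≃* genGrp I a' a') := by
  obtain ⟨a', P, hr⟩ := L.exists_rels512 ha
  have S : Sit I a' a' swapTree512_9_3 swapTree512_9_3 base512 := ⟨P, hr⟩
  haveI := sp_simple
  refine ⟨a', S, iso_genGrp L S sit512 Enum512.log512_cert sp_gen ?_⟩
  rw [Enum512.log512_N, card_G0]

/-- The alternating group in the second pattern. -/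
theorem found712 {a b : G} (ha : Swap I a swapTree712_9_0) (hb : Swap I b swapTree712_6_1) :
    ∃ a' b', Sit I a' b' swapTree712_9_0 swapTree712_6_1 base712 ∧
      Nonempty (alternatingGroup (Fin 12) ≃* genGrp I a' b') := by
  obtain ⟨a', b', P, hr⟩ := L.exists_rels712 ha hb
  have S : Sit I a' b' swapTree712_9_0 swapTree712_6_1 base712 := ⟨P, hr⟩
  haveI := alt_simple
  refine ⟨a', b', S, iso_genGrp L S sit712 Enum712.log712_cert alt_gen ?_⟩
  rw [Enum712.log712_N, alt_card]

end Loc

end Cfsg.Agent.Fus.SymSix
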