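import Cfsg.Agent.Lib.Fus.SymSix.AltExtra
import Cfsg.Agent.Lib.Fus.SymSix.Found
import Cfsg.Agent.Lib.Block.SevenPts.AltFacts

/-!
# The second pattern: the alternating groups of degree twelve and thirteen
-/

set_option autoImplicit false
set_option maxRecDepth 100000
set_option maxHeartbeats 1000000
set_option Elab.async false

namespace Cfsg.Agent.Fus.SymSix

open Cfsg.Agent.Spor.Cos (ev)
open Cfsg.Agent.Lie.Carmichael (Pt cyc)

theorem other_point : ∀ p : Fin 12, p ≠ 5 → ∃ r : Fin 12, r ≠ 4 ∧ r ≠ 5 ∧ r ≠ p ∧ r ≠ 2 := by decide +kernel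

theorem third_point : ∀ q : Fin 12, q ≠ 4 → q ≠ 5 → q ≠ 2 →
    ∃ r : Fin 12, r ≠ 4 ∧ r ≠ 5 ∧ r ≠ q ∧ r ≠ 2 := by decide +kernel

theorem tc_apply : ∀ a b c : Fin 12, a ≠ b → b ≠ c → a ≠ c →
    (Equiv.swap a b * Equiv.swap b c) a = b ∧ ∀ y : Fin 12, y ≠ a → y ≠ b → y ≠ c →
      (Equiv.swap a b * Equiv.swap b c) y = y := by decide +kernel

theorem exists_move1 {p : Fin 12} (hp : p ≠ 5) : ∃ g : alternatingGroup (Fin 12), g.1 5 = 5 ∧ g.1 4 = p := by
  rcases eq_or_ne p 4 with rfl | h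
  · exact ⟨1, rfl, rfl⟩
  obtain ⟨r, h1, h2, h3, -⟩ := other_point p hp
  obtain ⟨e1, e2⟩ := tc_apply 4 p r (Ne.symm h) (Ne.symm h3) (Ne.symm h1)
  refine ⟨tc 4 p r, ?_, ?_⟩ <;> rw [tc_val ⟨Ne.symm h, Ne.symm h3⟩]
  · exact e2 5 (by decide) (Ne.symm hp) (Ne.symm h2)
  · exact e1

theorem exists_move2 {p q : Fin 12} (hp : p ≠ 5) (hq : q ≠ 5) (hpq : p ≠ q) :
    ∃ g : alternatingGroup (Fin 12), g.1 5 = 5 ∧ g.1 4 = p ∧ g.1 2 = q := by
  obtain ⟨g, g5, g4⟩ := exists_move1 hp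
  set q' := g.1.symm q
  have hq' : g.1 q' = q := g.1.apply_symm_apply q
  have h4 : q' ≠ 4 := fun e => hpq (by rw [← hq', e, g4])
  have h5 : q' ≠ 5 := fun e => hq (by rw [← hq', e, g5])
  rcases eq_or_ne q' 2 with e | h2
  · exact ⟨g, g5, g4, by rw [← e]; exact hq'⟩
  obtain ⟨r, r4, r5, rq, r2⟩ := third_point q' h4 h5 h2
  obtain ⟨e1, e2⟩ := tc_apply 2 q' r (Ne.symm h2) (Ne.symm rq) (Ne.symm r2)
  refine ⟨g * tc 2 q' r, ?_, ?_, ?_⟩ <;> rw [Subgroup.coe_mul, tc_val ⟨Ne.symm h2, Ne.symm rq⟩, Equiv.Perm.mul_apply]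
  · rw [e2 5 (by decide) (Ne.symm h5) (Ne.symm r5), g5]
  · rw [e2 4 (by decide) (Ne.symm h4) (Ne.symm r4), g4]
  · rw [e1, hq']

theorem tc_conj (g : alternatingGroup (Fin 12)) {a b c : Fin 12} (hab : a ≠ b) (hbc : b ≠ c) :
    g * tc a b c * g⁻¹ = tc (g.1 a) (g.1 b) (g.1 c) := by
  refine Subtype.ext ?_
  rw [Subgroup.coe_mul, Subgroup.coe_mul, tc_val ⟨hab, hbc⟩,
    tc_val ⟨g.1.injective.ne hab, g.1.injective.ne hbc⟩, Subgroup.coe_inv]
  rw [← mul_assoc g.1, Equiv.mul_swap_eq_swap_mul g.1 a b, mul_assoc (Equiv.swap (g.1 a) (g.1 b)),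
    Equiv.mul_swap_eq_swap_mul g.1 b c, ← mul_assoc, mul_inv_cancel_right]

/-- The checks for two elements of order three. -/
theorem pair_ok : ((node712_39.V.any fun w => leq (cycL 2 3 4) (lc (lc lz (lc ltl ltl)) (lstC w))) &&
    (node712_39.V.any fun w => leq (cycL 2 4 5) (lc (lc lcl (lc ltl ltl)) (lstC w))) &&
    (node712_39.V.all fun v => Nat.beq v oneC ||
      !(leq (lc (cycL 0 1 6) (lstC v)) (lc (lstC v) (cycL 0 1 6))) ||
      !(leq (lc (cycL 8 9 10) (lstC v)) (lc (lstC v) (cycL 8 9 10)))) &&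
    leq (lc (cycL 0 1 6) (cycL 2 3 4)) (lc (cycL 2 3 4) (cycL 0 1 6)) &&
    leq (lc (cycL 8 9 10) (cycL 2 3 4)) (lc (cycL 2 3 4) (cycL 8 9 10)) &&
    leq (lc (cycL 0 1 6) (cycL 2 4 5)) (lc (cycL 2 4 5) (cycL 0 1 6)) &&
    leq (lc (cycL 8 9 10) (cycL 2 4 5)) (lc (cycL 2 4 5) (cycL 8 9 10))) = true := by decide +kernel

theorem pair5 : (rho5 * (dOne * (rThree * rThree) * rho5 * (dOne * (rThree * rThree))⁻¹)) *
      (rho5 * (dOne * (rThree * rThree) * rho5 * (dOne * (rThree * rThree))⁻¹)) = 1 ∧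
    (dTwo * (rThree * rThree))⁻¹ * (rho5 * (dOne * (rThree * rThree) * rho5 * (dOne * (rThree * rThree))⁻¹)⁻¹) = 1 := by
  decide +kernel

namespace ThirteenSit

variable {G : Type*} [Group G] [Finite G] {z : G} {I : ℕ → G} {a b : G} {φ : alternatingGroup (Fin 12) →* G}
variable {π : centV I node712_39 →* alternatingGroup (Fin 5)} (T : ThirteenSit z I a b φ π)
include T

/-- The group is alternating of degree thirteen. -/
theorem iso : Nonempty (G ≃* alternatingGroup (Fin 13)) := by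
  classical
  obtain ⟨x, hx, hxπ, hcx⟩ := T.exists_x
  obtain ⟨zT, cT, rT, ez, ec, er, πz, πc, πr⟩ := T.basic
  have hN := nodesGood_of_ok nodes712_ok
  have h39 : node712_39 ∈ nodes712 := by simp [nodes712]
  have hp := pair_ok
  simp only [Bool.and_eq_true, List.any_eq_true, List.all_eq_true, Bool.or_eq_true, Nat.beq_eq,
    Bool.not_eq_true'] at hp
  obtain ⟨⟨⟨⟨⟨⟨⟨w₁, hw₁, hg0⟩, ⟨w₂, hw₂, hc0⟩⟩, hone⟩, hk1g⟩, hk2g⟩, hk1c⟩, hk2c⟩ := hp
  have hVT : ∀ w ∈ node712_39.V, I w ∈ centV I node712_39 := fun w hw => mem_centV.2 fun v hv =>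
    (T.emb.loc.comm_iff (v_mem hw) (v_mem hv)).2 (((hN.base _ h39).2.2 w hw).2.2.2 v hv).2
  have hπ1 : ∀ (w : ℕ) (hw : w ∈ node712_39.V), π ⟨I w, hVT w hw⟩ = 1 := fun w hw =>
    (T.five.ker _).2 ⟨w, hw, rfl⟩
  set g₀ : alternatingGroup (Fin 12) := tc 2 3 4
  set c₀ : alternatingGroup (Fin 12) := tc 2 4 5
  have hg₀ : PR g₀ (cycL 2 3 4) := PR.tc (by decide) (by decide) (by decide)
  have hc₀ : PR c₀ (cycL 2 4 5) := PR.tc (by decide) (by decide) (by decide)
  let gT : centV I node712_39 := zT * (rT * rT) * ⟨I w₁, hVT w₁ hw₁⟩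
  have egT : (gT : G) = φ g₀ := by
    have e : g₀ = altI zC * (ev (gW altI aA bA) sixty712_39.t * ev (gW altI aA bA) sixty712_39.t) * altI w₁ :=
      hg₀.eq' (((PR.code mem_z).mul ((PR.word t39_lt).mul (PR.word t39_lt))).mul (PR.code (v_mem hw₁))) hg0
    rw [e, map_mul, map_mul, map_mul, T.map_altI (v_mem hw₁)]
    simp only [gT, Subgroup.coe_mul, ez, er]
  let cT' : centV I node712_39 := cT * (rT * rT) * ⟨I w₂, hVT w₂ hw₂⟩
  have ecT : (cT' : G) = φ c₀ := by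
    have e : c₀ = altI sixty712_39.c1 * (ev (gW altI aA bA) sixty712_39.t * ev (gW altI aA bA) sixty712_39.t) *
        altI w₂ :=
      hc₀.eq' (((PR.code c39_mem).mul ((PR.word t39_lt).mul (PR.word t39_lt))).mul (PR.code (v_mem hw₂))) hc0
    rw [e, map_mul, map_mul, map_mul, T.map_altI (v_mem hw₂)]
    simp only [cT', Subgroup.coe_mul, ec, er]
  have πg : π gT = dOne * (rThree * rThree) := by
    simp only [gT]; rw [map_mul, map_mul, map_mul, hπ1 w₁ hw₁, mul_one, πz, πr]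
  have πc' : π cT' = dTwo * (rThree * rThree) := by
    simp only [cT']; rw [map_mul, map_mul, map_mul, hπ1 w₂ hw₂, mul_one, πc, πr]
  let x₂ : centV I node712_39 := gT * x * gT⁻¹
  have hk1 : φ (tc 0 1 6) * x = x * φ (tc 0 1 6) := hcx _ (by decide +kernel) (by decide +kernel)
  have hk2 : φ (tc 8 9 10) * x = x * φ (tc 8 9 10) := hcx _ (by decide +kernel) (by decide +kernel)
  have kill : ∀ w ∈ node712_39.V, Commute (φ (tc 0 1 6)) (I w) → Commute (φ (tc 8 9 10)) (I w) → I w = 1 := by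
    intro w hw h1 h2
    rw [← T.map_altI (v_mem hw)] at h1 h2
    have P1 : PR (tc 0 1 6) (cycL 0 1 6) := PR.tc (by decide) (by decide) (by decide)
    have P2 : PR (tc 8 9 10) (cycL 8 9 10) := PR.tc (by decide) (by decide) (by decide)
    have PV := PR.code (v_mem hw)
    have e1 : tc 0 1 6 * altI w = altI w * tc 0 1 6 := T.inj (by rw [map_mul, map_mul]; exact h1)
    have e2 : tc 8 9 10 * altI w = altI w * tc 8 9 10 := T.inj (by rw [map_mul, map_mul]; exact h2)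
    have f1 := leq_of_eq (P1.mul PV) (e1 ▸ PV.mul P1)
    have f2 := leq_of_eq (P2.mul PV) (e2 ▸ PV.mul P2)
    rcases hone w hw with (h | h) | h
    · rw [h]; exact T.emb.loc.map_one
    · rw [f1] at h; exact Bool.noConfusion h
    · rw [f2] at h; exact Bool.noConfusion h
  have hcomm : ∀ {k s : alternatingGroup (Fin 12)} {lk ls : List ℕ}, PR k lk → PR s ls →
      leq (lc lk ls) (lc ls lk) = true → Commute (φ k) (φ s) := fun hk hs e => by
    show φ _ * φ _ = _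
    rw [← map_mul, ← map_mul, (hk.mul hs).eq' (hs.mul hk) e]
  have cg1 : Commute (φ (tc 0 1 6)) (gT : G) := egT ▸ hcomm (PR.tc (by decide) (by decide) (by decide)) hg₀ hk1g
  have cg2 : Commute (φ (tc 8 9 10)) (gT : G) := egT ▸ hcomm (PR.tc (by decide) (by decide) (by decide)) hg₀ hk2g
  have cc1 : Commute (φ (tc 0 1 6)) (cT' : G) := ecT ▸ hcomm (PR.tc (by decide) (by decide) (by decide)) hc₀ hk1c
  have cc2 : Commute (φ (tc 8 9 10)) (cT' : G) := ecT ▸ hcomm (PR.tc (by decide) (by decide) (by decide)) hc₀ hk2c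
  have hx2 : (x₂ : G) = φ g₀ * x * (φ g₀)⁻¹ := by simp only [x₂, Subgroup.coe_mul, Subgroup.coe_inv, egT]
  have cx2 : ∀ {k : G}, Commute k x → Commute k (gT : G) → Commute k (x₂ : G) := fun h1 h2 => by
    simp only [x₂, Subgroup.coe_mul, Subgroup.coe_inv]
    exact (h2.mul_right h1).mul_right h2.inv_right
  have πx₂ : π x₂ = π gT * rho5 * (π gT)⁻¹ := by simp only [x₂, map_mul, map_inv, hxπ]
  have hsq : (x : G) * x₂ * ((x : G) * x₂) = 1 := by
    have h : π (x * x₂ * (x * x₂)) = 1 := by rw [map_mul, map_mul, πx₂, hxπ, πg]; exact pair5.1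
    obtain ⟨w, hw, e⟩ := (T.five.ker _).1 h
    simp only [Subgroup.coe_mul] at e
    rw [← e]
    refine kill w hw ?_ ?_ <;> rw [e]
    · exact ((Commute.mul_right hk1 (cx2 hk1 cg1)).mul_right (Commute.mul_right hk1 (cx2 hk1 cg1)))
    · exact ((Commute.mul_right hk2 (cx2 hk2 cg2)).mul_right (Commute.mul_right hk2 (cx2 hk2 cg2)))
  have hquot : (x : G) * (x₂ : G)⁻¹ = φ c₀ := by
    have h : π (cT'⁻¹ * (x * x₂⁻¹)) = 1 := by
      rw [map_mul, map_mul, map_inv, map_inv, πx₂, hxπ, πg, πc']; exact pair5.2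
    obtain ⟨w, hw, e⟩ := (T.five.ker _).1 h
    simp only [Subgroup.coe_mul, Subgroup.coe_inv] at e
    have : I w = 1 := kill w hw
      (by rw [e]; exact cc1.inv_right.mul_right (Commute.mul_right hk1 (cx2 hk1 cg1).inv_right))
      (by rw [e]; exact cc2.inv_right.mul_right (Commute.mul_right hk2 (cx2 hk2 cg2).inv_right))
    rw [this] at e
    rw [← ecT]
    exact (inv_mul_eq_one.1 e.symm).symm
  -- the conjugates
  let pt : Fin 11 → Fin 12 := (5 : Fin 12).succAbove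
  have hpt : ∀ i, pt i ≠ 5 := fun i => Fin.succAbove_ne _ i
  have hmv : ∀ i, ∃ g : alternatingGroup (Fin 12), g.1 5 = 5 ∧ g.1 4 = pt i := fun i => exists_move1 (hpt i)
  choose gf gf5 gf4 using hmv
  let xs : Fin 11 → G := fun i => φ (gf i) * x * (φ (gf i))⁻¹
  have hxs : ∀ (i : Fin 11) (g : alternatingGroup (Fin 12)), g.1 5 = 5 → g.1 4 = pt i →
      φ g * x * (φ g)⁻¹ = xs i := by
    intro i g h5 h4
    have hc := hcx ((gf i)⁻¹ * g) (by
        show (gf i).1⁻¹ (g.1 4) = 4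
        rw [h4, ← gf4 i]; exact (gf i).1.symm_apply_apply 4) (by
        show (gf i).1⁻¹ (g.1 5) = 5
        rw [h5]; exact (Equiv.symm_apply_eq _).2 (gf5 i).symm)
    rw [map_mul, map_inv] at hc
    simp only [xs]
    calc φ g * x * (φ g)⁻¹ = φ (gf i) * ((φ (gf i))⁻¹ * φ g * x) * (φ g)⁻¹ := by group
      _ = φ (gf i) * ((x : G) * ((φ (gf i))⁻¹ * φ g)) * (φ g)⁻¹ := by rw [hc]
      _ = _ := by group
  have hg₀5 : g₀.1 5 = 5 := by decide +kernel
  have hg₀4 : g₀.1 4 = 2 := by decide +kernel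
  have two : ∀ i j : Fin 11, i ≠ j → ∃ g : alternatingGroup (Fin 12), g.1 5 = 5 ∧ g.1 4 = pt i ∧ g.1 2 = pt j ∧
      xs i = φ g * x * (φ g)⁻¹ ∧ xs j = φ g * x₂ * (φ g)⁻¹ := by
    intro i j hij
    obtain ⟨g, h5, h4, h2⟩ := exists_move2 (hpt i) (hpt j) (fun e => hij (Fin.succAbove_right_injective e))
    refine ⟨g, h5, h4, h2, (hxs i g h5 h4).symm, ?_⟩
    rw [← hxs j (g * g₀) (by rw [Subgroup.coe_mul, Equiv.Perm.mul_apply, hg₀5, h5])
      (by rw [Subgroup.coe_mul, Equiv.Perm.mul_apply, hg₀4, h2]), map_mul, hx2]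
    group
  obtain ⟨ψ, hψ⟩ := Cfsg.Agent.Block.SevenPts.exists_altHom xs
    (fun i => by simp only [xs]; rw [conj_pow, hx, mul_one, mul_inv_cancel])
    (fun i j hij => by
      obtain ⟨g, -, -, -, e1, e2⟩ := two i j hij
      rw [e1, e2, pow_two]
      calc φ g * x * (φ g)⁻¹ * (φ g * x₂ * (φ g)⁻¹) * (φ g * x * (φ g)⁻¹ * (φ g * x₂ * (φ g)⁻¹))
          = φ g * ((x : G) * x₂ * ((x : G) * x₂)) * (φ g)⁻¹ := by group
        _ = 1 := by rw [hsq, mul_one, mul_inv_cancel])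
  set R := ψ.range
  have hxsR : ∀ i, xs i ∈ R := fun i => ⟨cyc i, hψ i⟩
  have hle : genGrp I a b ≤ R := by
    have htop : R.comap φ = ⊤ := by
      refine top_of_five fun p q hp hq hp5 hq5 hpq => ?_
      obtain ⟨i, hi⟩ := Fin.exists_succAbove_eq (x := (⟨p, hp⟩ : Fin 12)) (y := 5) (fun e => hp5 (congrArg Fin.val e))
      obtain ⟨j, hj⟩ := Fin.exists_succAbove_eq (x := (⟨q, hq⟩ : Fin 12)) (y := 5) (fun e => hq5 (congrArg Fin.val e))
      have hij : i ≠ j := fun e => hpq (congrArg Fin.val (hi.symm.trans ((congrArg _ e).trans hj)))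
      obtain ⟨g, h5, h4, h2, e1, e2⟩ := two j i hij.symm
      refine ⟨g * c₀ * g⁻¹, ?_, ?_⟩
      · show φ (g * c₀ * g⁻¹) ∈ R
        rw [map_mul, map_mul, map_inv, ← hquot]
        have : φ g * ((x : G) * (x₂ : G)⁻¹) * (φ g)⁻¹ = xs j * (xs i)⁻¹ := by rw [e1, e2]; group
        rw [this]
        exact mul_mem (hxsR j) (inv_mem (hxsR i))
      · have hP : PR (tc 5 (g.1 2) (g.1 4)) (cycL 5 (g.1 2) (g.1 4)) := by
          refine PR.tc ?_ (g.1.injective.ne (by decide)) ?_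
          · rw [h2]; exact (hpt i).symm
          · rw [h4]; exact (hpt j).symm
        have hval : g * c₀ * g⁻¹ = tc (g.1 2) (g.1 4) (g.1 5) := tc_conj g (by decide) (by decide)
        have hr : tc (g.1 2) (g.1 4) (g.1 5) = tc 5 (g.1 2) (g.1 4) := by
          rw [h5]
          refine (PR.tc (g.1.injective.ne (by decide)) ?_ ?_).eq hP fun y hy => ?_
          · rw [h4]; exact hpt j
          · rw [h2]; exact hpt i
          · have hrot := cycL_rot
            simp only [List.all_eq_true, List.mem_range, Bool.or_eq_true, Nat.beq_eq, leq] at hrot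
            refine ((hrot 5 (by norm_num) _ (g.1 2).2 _ (g.1 4).2).resolve_left ?_ y hy).symm
            rw [h2, h4]
            rintro ((h | h) | h)
            · exact hpt i (Fin.ext h.symm)
            · exact hpt j (Fin.ext h.symm)
            · exact hij (Fin.succAbove_right_injective (Fin.ext h))
        rw [hval, hr]
        intro y
        rw [hP y]
        rw [h2, h4]
        simp only [pt, hi, hj]
    rw [← T.range]
    rintro _ ⟨σ, rfl⟩
    exact (htop ▸ Subgroup.mem_top σ : σ ∈ R.comap φ)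
  have E' := emb_of_gen T.emb.loc T.emb.pair T.emb.hm T.emb.hS T.emb.h1 hle wit712_ok
  have hgood : GoodNode I R node712_39 := by
    intro g hg
    have hcR : ∀ c, Mem c → I c ∈ R := E'.hC
    let S5 : Subgroup (alternatingGroup (Fin 5)) := (R.subgroupOf (centV I node712_39)).map π
    have mk : ∀ {u : centV I node712_39}, (u : G) ∈ R → π u ∈ S5 := fun hu => Subgroup.mem_map_of_mem π hu
    have h1 : dOne ∈ S5 := πz ▸ mk (ez ▸ hle (T.range ▸ ⟨_, rfl⟩))
    have h2 : dTwo ∈ S5 := πc ▸ mk (ec ▸ hle (T.range ▸ ⟨_, rfl⟩))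
    have h3 : rThree ∈ S5 := πr ▸ mk (er ▸ hle (T.range ▸ ⟨_, rfl⟩))
    have hxR : (x : G) ∈ R := by
      obtain ⟨i, hi⟩ := Fin.exists_succAbove_eq (x := (4 : Fin 12)) (y := 5) (by decide)
      have := hxs i 1 rfl hi.symm
      rw [map_one, one_mul, inv_one, mul_one] at this
      rw [this]
      exact hxsR i
    have h4 : rho5 ∈ S5 := hxπ ▸ mk hxR
    obtain ⟨i, j, k, p, q, e, p', q', he⟩ := gen5 (π ⟨g, mem_centV.2 hg⟩)
    have hin : π ⟨g, mem_centV.2 hg⟩ ∈ S5 := by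
      rw [he]
      exact mul_mem (mul_mem (mul_mem (mul_mem (mul_mem (pow_mem h1 _) (pow_mem h2 _)) (pow_mem h3 _)) (pow_mem h4 _))
        (mul_mem (mul_mem (pow_mem h1 _) (pow_mem h2 _)) (pow_mem h3 _))) (pow_mem h4 _)
    obtain ⟨u, hu, hue⟩ := Subgroup.mem_map.1 hin
    obtain ⟨v, hv, e'⟩ := (T.five.ker (u⁻¹ * ⟨g, mem_centV.2 hg⟩)).1 (by rw [map_mul, map_inv, hue, inv_mul_cancel])
    have : g = (u : G) * I v := by rw [e']; show g = (u : G) * ((u : G)⁻¹ * g); group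
    rw [this]
    exact mul_mem hu (hcR v (v_mem hv))
  have hR : R = ⊤ :=
    E'.top_of_certs T.words hN nCerts712_ok fun _ => by
      rw [show nodes712.getD 39 ⟨[], []⟩ = node712_39 from rfl]; exact hgood
  haveI : IsSimpleGroup (alternatingGroup (Pt (Fin 11))) := alternatingGroup.isSimpleGroup (by simp [Pt])
  have hinj : Function.Injective ψ := by
    refine ψ.ker_eq_bot_iff.1 ((ψ.normal_ker.eq_bot_or_eq_top).resolve_right fun h => T.emb.loc.z_ne_one ?_)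
    obtain ⟨u, hu⟩ : z ∈ R := hR ▸ Subgroup.mem_top z
    rw [← hu]
    exact MonoidHom.mem_ker.1 (h ▸ Subgroup.mem_top u)
  have e13 : Pt (Fin 11) ≃ Fin 13 := Fintype.equivFinOfCardEq (by simp [Pt])
  exact ⟨((MulEquiv.ofBijective ψ ⟨hinj, MonoidHom.range_eq_top.1 hR⟩).symm).trans (Equiv.altCongrHom e13)⟩

end ThirteenSit

end Cfsg.Agent.Fus.SymSix
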