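import Cfsg.Agent.Lib.Fus.SymSix.Loop

/-!
# The group generated by the letters is small
-/

set_option autoImplicit false
set_option maxRecDepth 100000

namespace Cfsg.Agent.Fus.SymSix

open Cfsg.Agent.Spor.Cos (ev ev_map ev_derived derivedOk Log)

variable {G G' : Type*} [Group G] [Group G'] {z : G} {I : ℕ → G} {a b : G} {I' : ℕ → G'} {a' b' : G'}
variable {ta tb : CTree} {base : List (List ℕ)} {C : Log}

/-- A group in a pattern, with the trivial words. -/
structure Sit {G : Type*} [Group G] (I : ℕ → G) (a b : G) (ta tb : CTree) (base : List (List ℕ)) : Prop where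
  /-- the involutions -/
  pair : Pair I a b ta tb
  /-- the trivial words -/
  rels : ∀ r ∈ base, ev (gW I a b) r = 1

/-- The checks of an enumeration. -/
structure PatCert (base : List (List ℕ)) (C : Log) : Prop where
  /-- the enumeration -/
  hC : C.Checks
  /-- eight letters -/
  hn : C.n = 8
  /-- the trivial words -/
  hbase : (base.all fun w => w.all fun s => Nat.blt s 8) = true
  /-- the relations -/
  hder : (C.rels.all fun w => derivedOk 8 base w) = true
  /-- the subgroup -/
  hsub : (C.sub.all fun w => w.all fun s => Nat.blt s 6) = true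

/-- The subgroup generated by the letters. -/
def genGrp (I : ℕ → G) (a b : G) : Subgroup G := Subgroup.closure {x | ∃ s < 8, gW I a b s = x}

/-- The letters in two groups at once. -/
def gPair (I : ℕ → G) (a b : G) (I' : ℕ → G') (a' b' : G') (s : ℕ) : G × G' := (gW I a b s, gW I' a' b' s)

/-- The group generated by the pairs. -/
def pairGrp (I : ℕ → G) (a b : G) (I' : ℕ → G') (a' b' : G') : Subgroup (G × G') :=
  Subgroup.closure {x | ∃ s < 8, gPair I a b I' a' b' s = x}

theorem ev_gPair (I : ℕ → G) (a b : G) (I' : ℕ → G') (a' b' : G') (w : List ℕ) :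
    ev (gPair I a b I' a' b') w = (ev (gW I a b) w, ev (gW I' a' b') w) :=
  Prod.ext (ev_map (MonoidHom.fst G G') _ w) (ev_map (MonoidHom.snd G G') _ w)

/-- The bound. -/
theorem card_pairGrp_le [Finite G] [Finite G'] (S : Sit I a b ta tb base) (S' : Sit I' a' b' ta tb base)
    (hc : PatCert base C) : Nat.card (pairGrp I a b I' a' b') ≤ C.N * 23040 := by
  classical
  set g := gPair I a b I' a' b'
  set K := pairGrp I a b I' a' b'
  have hgK : ∀ s < 8, g s ∈ K := fun s hs => Subgroup.subset_closure ⟨s, hs, rfl⟩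
  let g' : ℕ → K := fun s => if h : s < 8 then ⟨g s, hgK s h⟩ else 1
  have hval : ∀ w, (∀ s ∈ w, s < 8) → ((ev g' w : K) : G × G') = ev g w := by
    intro w hw
    induction w with
    | nil => rfl
    | cons s w ih =>
      show ((g' s : K) : G × G') * _ = g s * _
      rw [ih fun t ht => hw t (List.mem_cons_of_mem _ ht)]
      simp [g', hw s (List.mem_cons_self ..)]
  have hsq : ∀ s, g s * g s = 1 := fun s => Prod.ext (S.pair.gW_sq s) (S'.pair.gW_sq s)
  have hsq' : ∀ s < 8, g' s * g' s = 1 := fun s hs => Subtype.ext (by simp [g', hs, hsq])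
  have hgen : Subgroup.closure {x : K | ∃ s < 8, g' s = x} = ⊤ := by
    have h : {x : K | ∃ s < 8, g' s = x} = ((↑) : K → G × G') ⁻¹' {x | ∃ s < 8, g s = x} := by
      ext x
      refine exists_congr fun s => ⟨fun ⟨hs, e⟩ => ⟨hs, ?_⟩, fun ⟨hs, e⟩ => ⟨hs, Subtype.ext ?_⟩⟩
      · rw [← e]; simp [g', hs]
      · simpa [g', hs] using e
    rw [h]
    exact Subgroup.closure_closure_coe_preimage
  let T : Subgroup K :=
    { carrier := {x | ∃ c, Mem c ∧ (x : G × G') = (I c, I' c)}
      one_mem' := ⟨oneC, mem_one, Prod.ext S.pair.map_one.symm S'.pair.map_one.symm⟩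
      mul_mem' := by
        rintro x y ⟨c, hc', hx⟩ ⟨d, hd, hy⟩
        exact ⟨mulC c d, hc'.mul hd, by rw [Subgroup.coe_mul, hx, hy, S.pair.hom _ _ hc' hd, S'.pair.hom _ _ hc' hd]; rfl⟩
      inv_mem' := by
        rintro x ⟨c, hc', hx⟩
        exact ⟨invC c, hc'.inv, by rw [Subgroup.coe_inv, hx, S.pair.map_inv hc', S'.pair.map_inv hc']; rfl⟩ }
  have hlt8 : ∀ r ∈ base, ∀ s ∈ r, s < 8 := fun r hr s hs =>
    Nat.blt_eq.mp (List.all_eq_true.1 (List.all_eq_true.1 hc.hbase r hr) s hs)
  obtain ⟨-, hidx⟩ := C.index_le (g := g') hc.hC (H := T) (by rw [hc.hn]; exact hsq')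
    (by rw [hc.hn]; exact hgen) (fun w hw => ev_derived hsq' (fun r hr => Subtype.ext (by
      rw [hval r (hlt8 r hr), ev_gPair, S.rels r hr, S'.rels r hr]; rfl)) (List.all_eq_true.1 hc.hder w hw))
    (fun w hw => by
      have h6 : ∀ s ∈ w, s < 6 := fun s hs => Nat.blt_eq.mp (List.all_eq_true.1 (List.all_eq_true.1 hc.hsub w hw) s hs)
      refine ⟨wC w, mem_wC w, ?_⟩
      rw [hval w (fun s hs => by have := h6 s hs; omega), ev_gPair, S.pair.ev_wC w h6, S'.pair.ev_wC w h6])
  have hT : Nat.card T ≤ 23040 := by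
    let f : Fin elems.length → G × G' := fun i => (I (elems[(i : ℕ)]), I' (elems[(i : ℕ)]))
    have hsub : ∀ x : T, ∃ i, f i = ((x : K) : G × G') := by
      rintro ⟨x, c, hc', hx⟩
      obtain ⟨i, hi, rfl⟩ := List.getElem_of_mem (mem_iff_elems.1 hc')
      exact ⟨⟨i, hi⟩, hx.symm⟩
    choose k hk using hsub
    have := Nat.card_le_card_of_injective k fun x y h =>
      Subtype.ext (Subtype.ext ((hk x).symm.trans ((congrArg f h).trans (hk y))))
    rwa [Nat.card_fin, elems_length] at this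
  rw [← Subgroup.index_mul_card T]
  exact Nat.mul_le_mul hidx hT

/-- A simple group of the bounding order, generated by its letters, is the generated group of any other. -/
theorem iso_genGrp [Finite G] [Finite G'] [IsSimpleGroup G'] (L : Loc z I) (S : Sit I a b ta tb base)
    (S' : Sit I' a' b' ta tb base) (hc : PatCert base C) (hgen : genGrp I' a' b' = ⊤)
    (hcard : C.N * 23040 ≤ Nat.card G') : Nonempty (G' ≃* genGrp I a b) := by
  set K := pairGrp I a b I' a' b'
  have h1 : K.map (MonoidHom.fst G G') = genGrp I a b := by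
    refine (MonoidHom.map_closure _ _).trans ?_
    show Subgroup.closure _ = Subgroup.closure _
    congr 1
    ext x
    exact ⟨fun ⟨_, ⟨s, hs, e⟩, hy⟩ => ⟨s, hs, by rw [← hy, ← e]; rfl⟩, fun ⟨s, hs, e⟩ => ⟨_, ⟨s, hs, rfl⟩, e⟩⟩
  have h2 : K.map (MonoidHom.snd G G') = ⊤ := by
    rw [← hgen]
    refine (MonoidHom.map_closure _ _).trans ?_
    show Subgroup.closure _ = Subgroup.closure _
    congr 1
    ext x
    exact ⟨fun ⟨_, ⟨s, hs, e⟩, hy⟩ => ⟨s, hs, by rw [← hy, ← e]; rfl⟩, fun ⟨s, hs, e⟩ => ⟨_, ⟨s, hs, rfl⟩, e⟩⟩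
  let p2 : K →* G' := (MonoidHom.snd G G').comp K.subtype
  have hsurj : Function.Surjective p2 := fun x => by
    obtain ⟨y, hy, e⟩ := Subgroup.mem_map.1 (h2 ▸ Subgroup.mem_top x)
    exact ⟨⟨y, hy⟩, e⟩
  have hle : Nat.card K ≤ Nat.card G' := (card_pairGrp_le S S' hc).trans hcard
  let e := MulEquiv.ofBijective p2 (hsurj.bijective_of_nat_card_le hle)
  let f : G' →* G := ((MonoidHom.fst G G').comp K.subtype).comp e.symm.toMonoidHom
  have hrange : f.range = genGrp I a b := by
    rw [← h1]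
    ext x
    constructor
    · rintro ⟨y, rfl⟩
      exact ⟨_, (e.symm y).2, rfl⟩
    · rintro ⟨y, hy, rfl⟩
      exact ⟨e ⟨y, hy⟩, by simp [f]⟩
  have hne : genGrp I a b ≠ ⊥ := fun h => by
    have hz : I zC ∈ genGrp I a b := by
      obtain ⟨w, hw, hwc⟩ := mem_z.exists_word
      rw [← hwc, ← S.pair.ev_wC w hw]
      exact Cfsg.Agent.Spor.Cos.ev_mem w fun s hs => Subgroup.subset_closure ⟨s, by have := hw s hs; omega, rfl⟩
    rw [h, Subgroup.mem_bot, L.map_z] at hz
    exact L.z_ne_one hz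
  have hker : f.ker = ⊥ := by
    refine (f.normal_ker.eq_bot_or_eq_top).resolve_right fun h => hne ?_
    rw [← hrange]
    exact MonoidHom.range_eq_bot_iff.2 (MonoidHom.ker_eq_top_iff.1 h)
  exact ⟨(MonoidHom.ofInjective (f.ker_eq_bot_iff.1 hker)).trans (MulEquiv.subgroupCongr hrange)⟩

end Cfsg.Agent.Fus.SymSix
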