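import Cfsg.Agent.Lib.Fus.SymSix.AltThirteen

/-!
# The second pattern
-/

set_option autoImplicit false
set_option maxRecDepth 100000

namespace Cfsg.Agent.Fus.SymSix

variable {G : Type*} [Group G] [Finite G] {z : G} {I : ℕ → G}

/-- Groups with the second pattern are alternating of degree twelve or thirteen. -/
theorem caseAlt (L : Loc z I) (hm : ∀ k < noVal, inMask 712 k = true ↔ IsConj (I (repC k)) z)
    (hS : ∃ P : Sylow 2 G, (P : Subgroup G) ≤ Subgroup.centralizer ({z} : Set G)) {a b : G}
    (ha : Swap I a swapTree712_9_0) (hb : Swap I b swapTree712_6_1) :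
    Nonempty (G ≃* alternatingGroup (Fin 12)) ∨ Nonempty (G ≃* alternatingGroup (Fin 13)) := by
  obtain ⟨a', b', S, ⟨e⟩⟩ := L.found712 ha hb
  have E := emb_of_gen L S.pair hm hS (by decide +kernel) le_rfl wit712_ok
  have W := wordEqA L S
  have hN := nodesGood_of_ok nodes712_ok
  rcases E.sixty_or_le W hN (n := node712_39) (by simp [nodes712]) sixty712_39_ok with hg | ⟨π, hπ⟩
  · have htop : genGrp I a' b' = ⊤ := E.top_of_certs W hN nCerts712_ok fun _ => by
      rw [show nodes712.getD 39 ⟨[], []⟩ = node712_39 from rfl]; exact hg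
    exact Or.inl ⟨Subgroup.topEquiv.symm.trans ((MulEquiv.subgroupCongr htop.symm).trans e.symm)⟩
  · haveI := alt_simple
    obtain ⟨φ, hinj, hrange, hlet⟩ := exists_hom L S sit712 Enum712.log712_cert alt_gen
      (by rw [Enum712.log712_N, alt_card])
    exact Or.inr (ThirteenSit.iso ⟨E, W, hinj, hrange, hlet, hπ⟩)

end Cfsg.Agent.Fus.SymSix
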