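import Cfsg.Agent.Lib.Fus.SymSix.NodeCert512

/-! Checks of the subgroups without fused elements. -/

set_option autoImplicit false
set_option maxRecDepth 100000
set_option Elab.async false

namespace Cfsg.Agent.Fus.SymSix

theorem nCert512_from0 : ((List.range' 0 6).all fun i => nCertOk 512 wEqS nodes512 nCerts512 1000 i) = true := by decide +kernel

theorem nCert512_from6 : ((List.range' 6 6).all fun i => nCertOk 512 wEqS nodes512 nCerts512 1000 i) = true := by decide +kernel

theorem nCert512_from12 : ((List.range' 12 6).all fun i => nCertOk 512 wEqS nodes512 nCerts512 1000 i) = true := by decide +kernel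

theorem nCert512_from18 : ((List.range' 18 6).all fun i => nCertOk 512 wEqS nodes512 nCerts512 1000 i) = true := by decide +kernel

theorem nCert512_from24 : ((List.range' 24 6).all fun i => nCertOk 512 wEqS nodes512 nCerts512 1000 i) = true := by decide +kernel


end Cfsg.Agent.Fus.SymSix
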