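import Cfsg.Agent.Lib.Fus.SymSix.NodeCert512

/-! Checks of the subgroups without fused elements. -/

set_option autoImplicit false
set_option maxRecDepth 100000
set_option Elab.async false

namespace Cfsg.Agent.Fus.SymSix

theorem node512_from96 : ((List.range' 96 4).all fun i => oneOk 512 nodes512 (nodes512.getD i ⟨[], []⟩)) = true := by decide +kernel

theorem node512_from100 : ((List.range' 100 4).all fun i => oneOk 512 nodes512 (nodes512.getD i ⟨[], []⟩)) = true := by decide +kernel

theorem node512_from104 : ((List.range' 104 4).all fun i => oneOk 512 nodes512 (nodes512.getD i ⟨[], []⟩)) = true := by decide +kernel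

theorem node512_from108 : ((List.range' 108 4).all fun i => oneOk 512 nodes512 (nodes512.getD i ⟨[], []⟩)) = true := by decide +kernel

theorem node512_from112 : ((List.range' 112 4).all fun i => oneOk 512 nodes512 (nodes512.getD i ⟨[], []⟩)) = true := by decide +kernel

theorem node512_from116 : ((List.range' 116 4).all fun i => oneOk 512 nodes512 (nodes512.getD i ⟨[], []⟩)) = true := by decide +kernel


end Cfsg.Agent.Fus.SymSix
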