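import Cfsg.Agent.Lib.Fus.SymSix.ListRun512_0
import Cfsg.Agent.Lib.Fus.SymSix.ListRun512_1
import Cfsg.Agent.Lib.Fus.SymSix.ListRun512_2
import Cfsg.Agent.Lib.Fus.SymSix.ListRun512_3
import Cfsg.Agent.Lib.Fus.SymSix.ListRun512_4
import Cfsg.Agent.Lib.Fus.SymSix.ListRun512_5
import Cfsg.Agent.Lib.Fus.SymSix.CertRun512_0
import Cfsg.Agent.Lib.Fus.SymSix.CertRun512_1
import Cfsg.Agent.Lib.Fus.SymSix.CertRun512_2
import Cfsg.Agent.Lib.Fus.SymSix.CertRun512_3
import Cfsg.Agent.Lib.Fus.SymSix.CertRun512_4
import Cfsg.Agent.Lib.Fus.SymSix.CertRun512_5
import Cfsg.Agent.Lib.Fus.SymSix.SwapData512_9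

/-! Checks of the subgroups without fused elements. -/

set_option autoImplicit false
set_option maxRecDepth 100000
set_option Elab.async false

namespace Cfsg.Agent.Fus.SymSix

theorem wit512_ok : witOk swapTree512_9_3 swapTree512_9_3 512 witList512 = true := by decide +kernel

theorem singles512_ok : singlesOk 512 nodes512 = true := by decide +kernel

theorem nodes512_len : nodes512.length = 129 := by decide +kernel

theorem nodes512_ok : CNode.listOk 512 nodes512 = true := by
  refine listOk_of (fun i hi => ?_) singles512_ok
  rw [nodes512_len] at hi
  rcases lt_or_ge i 4 with h | h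
  · exact of_range node512_from0 (by omega) (by omega)
  rcases lt_or_ge i 8 with h | h
  · exact of_range node512_from4 (by omega) (by omega)
  rcases lt_or_ge i 12 with h | h
  · exact of_range node512_from8 (by omega) (by omega)
  rcases lt_or_ge i 16 with h | h
  · exact of_range node512_from12 (by omega) (by omega)
  rcases lt_or_ge i 20 with h | h
  · exact of_range node512_from16 (by omega) (by omega)
  rcases lt_or_ge i 24 with h | h
  · exact of_range node512_from20 (by omega) (by omega)
  rcases lt_or_ge i 28 with h | h
  · exact of_range node512_from24 (by omega) (by omega)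
  rcases lt_or_ge i 32 with h | h
  · exact of_range node512_from28 (by omega) (by omega)
  rcases lt_or_ge i 36 with h | h
  · exact of_range node512_from32 (by omega) (by omega)
  rcases lt_or_ge i 40 with h | h
  · exact of_range node512_from36 (by omega) (by omega)
  rcases lt_or_ge i 44 with h | h
  · exact of_range node512_from40 (by omega) (by omega)
  rcases lt_or_ge i 48 with h | h
  · exact of_range node512_from44 (by omega) (by omega)
  rcases lt_or_ge i 52 with h | h
  · exact of_range node512_from48 (by omega) (by omega)
  rcases lt_or_ge i 56 with h | h
  · exact of_range node512_from52 (by omega) (by omega)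
  rcases lt_or_ge i 60 with h | h
  · exact of_range node512_from56 (by omega) (by omega)
  rcases lt_or_ge i 64 with h | h
  · exact of_range node512_from60 (by omega) (by omega)
  rcases lt_or_ge i 68 with h | h
  · exact of_range node512_from64 (by omega) (by omega)
  rcases lt_or_ge i 72 with h | h
  · exact of_range node512_from68 (by omega) (by omega)
  rcases lt_or_ge i 76 with h | h
  · exact of_range node512_from72 (by omega) (by omega)
  rcases lt_or_ge i 80 with h | h
  · exact of_range node512_from76 (by omega) (by omega)
  rcases lt_or_ge i 84 with h | h
  · exact of_range node512_from80 (by omega) (by omega)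
  rcases lt_or_ge i 88 with h | h
  · exact of_range node512_from84 (by omega) (by omega)
  rcases lt_or_ge i 92 with h | h
  · exact of_range node512_from88 (by omega) (by omega)
  rcases lt_or_ge i 96 with h | h
  · exact of_range node512_from92 (by omega) (by omega)
  rcases lt_or_ge i 100 with h | h
  · exact of_range node512_from96 (by omega) (by omega)
  rcases lt_or_ge i 104 with h | h
  · exact of_range node512_from100 (by omega) (by omega)
  rcases lt_or_ge i 108 with h | h
  · exact of_range node512_from104 (by omega) (by omega)
  rcases lt_or_ge i 112 with h | h
  · exact of_range node512_from108 (by omega) (by omega)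
  rcases lt_or_ge i 116 with h | h
  · exact of_range node512_from112 (by omega) (by omega)
  rcases lt_or_ge i 120 with h | h
  · exact of_range node512_from116 (by omega) (by omega)
  rcases lt_or_ge i 124 with h | h
  · exact of_range node512_from120 (by omega) (by omega)
  rcases lt_or_ge i 128 with h | h
  · exact of_range node512_from124 (by omega) (by omega)
  exact of_range node512_from128 (by omega) (by omega)

theorem nCerts512_ok : ∀ i < nodes512.length, nCertOk 512 wEqS nodes512 nCerts512 1000 i = true := by
  intro i hi
  rw [nodes512_len] at hi
  rcases lt_or_ge i 6 with h | h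
  · exact of_range nCert512_from0 (by omega) (by omega)
  rcases lt_or_ge i 12 with h | h
  · exact of_range nCert512_from6 (by omega) (by omega)
  rcases lt_or_ge i 18 with h | h
  · exact of_range nCert512_from12 (by omega) (by omega)
  rcases lt_or_ge i 24 with h | h
  · exact of_range nCert512_from18 (by omega) (by omega)
  rcases lt_or_ge i 30 with h | h
  · exact of_range nCert512_from24 (by omega) (by omega)
  rcases lt_or_ge i 36 with h | h
  · exact of_range nCert512_from30 (by omega) (by omega)
  rcases lt_or_ge i 42 with h | h
  · exact of_range nCert512_from36 (by omega) (by omega)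
  rcases lt_or_ge i 48 with h | h
  · exact of_range nCert512_from42 (by omega) (by omega)
  rcases lt_or_ge i 54 with h | h
  · exact of_range nCert512_from48 (by omega) (by omega)
  rcases lt_or_ge i 60 with h | h
  · exact of_range nCert512_from54 (by omega) (by omega)
  rcases lt_or_ge i 66 with h | h
  · exact of_range nCert512_from60 (by omega) (by omega)
  rcases lt_or_ge i 72 with h | h
  · exact of_range nCert512_from66 (by omega) (by omega)
  rcases lt_or_ge i 78 with h | h
  · exact of_range nCert512_from72 (by omega) (by omega)
  rcases lt_or_ge i 84 with h | h
  · exact of_range nCert512_from78 (by omega) (by omega)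
  rcases lt_or_ge i 90 with h | h
  · exact of_range nCert512_from84 (by omega) (by omega)
  rcases lt_or_ge i 96 with h | h
  · exact of_range nCert512_from90 (by omega) (by omega)
  rcases lt_or_ge i 102 with h | h
  · exact of_range nCert512_from96 (by omega) (by omega)
  rcases lt_or_ge i 108 with h | h
  · exact of_range nCert512_from102 (by omega) (by omega)
  rcases lt_or_ge i 114 with h | h
  · exact of_range nCert512_from108 (by omega) (by omega)
  rcases lt_or_ge i 120 with h | h
  · exact of_range nCert512_from114 (by omega) (by omega)
  rcases lt_or_ge i 121 with h | h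
  · exact of_range nCert512_from120 (by omega) (by omega)
  rcases lt_or_ge i 123 with h | h
  · exact of_range nCert512_from121 (by omega) (by omega)
  rcases lt_or_ge i 124 with h | h
  · exact of_range nCert512_from123 (by omega) (by omega)
  rcases lt_or_ge i 127 with h | h
  · exact of_range nCert512_from124 (by omega) (by omega)
  rcases lt_or_ge i 128 with h | h
  · exact of_range nCert512_from127 (by omega) (by omega)
  exact of_range nCert512_from128 (by omega) (by omega)


end Cfsg.Agent.Fus.SymSix
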