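import Cfsg.Agent.Lib.Fus.SymSix.Found
import Cfsg.Agent.Lib.Fus.SymSix.NodeRun512
import Cfsg.Agent.Lib.Fus.SymSix.Transfer
import Cfsg.Prelude.Def_Classical

/-!
# The first pattern: the symplectic group
-/

set_option autoImplicit false
set_option maxRecDepth 100000

namespace Cfsg.Agent.Fus.SymSix

open Cfsg.Agent.Classical.SpSix (G0 center_eq_bot)

/-- The symplectic group is its own projective group. -/
theorem iso_psp : Nonempty (G0 ≃* Cfsg.PSp 3 (ZMod 2)) :=
  ⟨(MulEquiv.ofBijective (QuotientGroup.mk' (Subgroup.center G0))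
    ⟨by rw [← MonoidHom.ker_eq_bot_iff, QuotientGroup.ker_mk', center_eq_bot], QuotientGroup.mk'_surjective _⟩)⟩

variable {G : Type*} [Group G] [Finite G] {z : G} {I : ℕ → G}

/-- Groups with the first pattern are symplectic. -/
theorem caseSp (L : Loc z I) (hm : ∀ k < noVal, inMask 512 k = true ↔ IsConj (I (repC k)) z)
    (hS : ∃ P : Sylow 2 G, (P : Subgroup G) ≤ Subgroup.centralizer ({z} : Set G)) {a : G}
    (ha : Swap I a swapTree512_9_3) : Nonempty (G ≃* Cfsg.PSp 3 (ZMod 2)) := by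
  obtain ⟨a', S, ⟨e⟩⟩ := L.found512 ha
  have E := emb_of_gen L S.pair hm hS (by decide +kernel) le_rfl wit512_ok
  have htop : genGrp I a' a' = ⊤ :=
    E.top_of_certs (wordEqS L S) (nodesGood_of_ok nodes512_ok) nCerts512_ok
      fun h => absurd h (by rw [nodes512_len]; norm_num)
  obtain ⟨p⟩ := iso_psp
  exact ⟨Subgroup.topEquiv.symm.trans ((MulEquiv.subgroupCongr htop.symm).trans (e.symm.trans p))⟩

end Cfsg.Agent.Fus.SymSix
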