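import Cfsg.Agent.Lib.Fus.SymSix.Close

/-!
# One certificate for each subgroup of the list
-/

set_option autoImplicit false
set_option maxRecDepth 100000

namespace Cfsg.Agent.Fus.SymSix

/-- The certificates. -/
inductive NodeCert
  /-- nothing, for the subgroup assumed to be good -/
  | given
  /-- two separated classes -/
  | pair (c : PairCert)
  /-- an unfused involution -/
  | dicho (c₂ : ℕ) (s : SylCert)
  /-- Sylow subgroups of order twice the subgroup -/
  | two (k h : ℕ) (s : SylCert) (ds : List (ℕ × List ℕ))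
  /-- four groups as Sylow subgroups modulo the subgroup -/
  | sixty (k h : ℕ) (c : SixtyCert) (us : List (ℕ × List ℕ))

/-- Without repetitions. -/
def nodupB : List ℕ → Bool
  | [] => true
  | a :: l => (l.all fun b => !Nat.beq a b) && nodupB l

theorem nodup_of_nodupB : ∀ {l : List ℕ}, nodupB l = true → l.Nodup
  | [], _ => List.nodup_nil
  | a :: l, h => by
    simp only [nodupB, Bool.and_eq_true, List.all_eq_true, Bool.not_eq_true'] at h
    refine List.nodup_cons.2 ⟨fun ha => ?_, nodup_of_nodupB h.2⟩
    have := h.1 a ha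
    simp at this

/-- A certificate that needs only the larger subgroups. -/
def NodeCert.first : NodeCert → Bool
  | .given => true
  | .pair _ => true
  | _ => false

/-- A helping subgroup is at least as large and is good already. -/
def helperOk (Ns : List CNode) (Ks : List NodeCert) (n : CNode) (k : ℕ) : Bool :=
  Nat.blt k Ns.length && nodupB (Ns.getD k ⟨[], []⟩).V && Nat.ble n.V.length (Ns.getD k ⟨[], []⟩).V.length &&
    (Ks.getD k .given).first

/-- The check of one certificate. -/
noncomputable def nCertOk (m : ℕ) (wEq : List ℕ → List ℕ → Bool) (Ns : List CNode) (Ks : List NodeCert) (hyp i : ℕ) :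
    Bool :=
  match Ks.getD i .given with
  | .given => Nat.beq i hyp
  | .pair c => pairOk m wEq (Ns.getD i ⟨[], []⟩) c
  | .dicho c₂ s => dichoOk m wEq (Ns.getD i ⟨[], []⟩) c₂ s
  | .two k h s ds => helperOk Ns Ks (Ns.getD i ⟨[], []⟩) k && twoOk m wEq (Ns.getD i ⟨[], []⟩) s &&
      spanOk m (Ns.getD i ⟨[], []⟩) (Ns.getD k ⟨[], []⟩) h ds
  | .sixty k h c us => helperOk Ns Ks (Ns.getD i ⟨[], []⟩) k && sixtyOk m wEq (Ns.getD i ⟨[], []⟩) c &&
      sqSpanOk (Ns.getD i ⟨[], []⟩) (Ns.getD k ⟨[], []⟩) c h us

/-- The checks of one subgroup of the list. -/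
noncomputable def oneOk (m : ℕ) (Ns : List CNode) (n : CNode) : Bool :=
  CNode.baseOk m n && CNode.extsOk m Ns n && Nat.ble n.V.length 16

/-- The checks of the single involutions. -/
noncomputable def singlesOk (m : ℕ) (Ns : List CNode) : Bool :=
  (List.range noVal).all fun i => inMask m i || Ns.any fun n => CNode.listOk.eqW' n.V [oneC, repC i]

theorem listOk_of {m : ℕ} {Ns : List CNode} (h : ∀ i < Ns.length, oneOk m Ns (Ns.getD i ⟨[], []⟩) = true)
    (hs : singlesOk m Ns = true) : CNode.listOk m Ns = true := by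
  rw [CNode.listOk, Bool.and_eq_true]
  refine ⟨List.all_eq_true.2 fun n hn => ?_, hs⟩
  obtain ⟨i, hi, rfl⟩ := List.getElem_of_mem hn
  have := h i hi
  rwa [List.getD_eq_getElem _ _ hi] at this

theorem of_range {f : ℕ → Bool} {a b : ℕ} (h : (List.range' a b).all f = true) {i : ℕ} (h1 : a ≤ i) (h2 : i < a + b) :
    f i = true :=
  List.all_eq_true.1 h i (List.mem_range'_1.2 ⟨h1, h2⟩)

namespace Emb

variable {G : Type*} [Group G] [Finite G] {z : G} {I : ℕ → G} {a b : G} {ta tb : CTree} {m : ℕ} {M : Subgroup G}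
variable (E : Emb z I a b ta tb m M) {Ns : List CNode} {wEq : List ℕ → List ℕ → Bool} (W : WordEq I a b wEq)
include E W

/-- With all certificates the subgroup is everything. -/
theorem top_of_certs (hN : NodesGood m Ns) {Ks : List NodeCert} {hyp : ℕ}
    (hok : ∀ i < Ns.length, nCertOk m wEq Ns Ks hyp i = true)
    (hgiven : hyp < Ns.length → GoodNode I M (Ns.getD hyp ⟨[], []⟩)) : M = ⊤ := by
  refine E.top hN fun n hn hbig => ?_
  obtain ⟨i, hi, rfl⟩ := List.getElem_of_mem hn
  have hget : ∀ {j : ℕ} (hj : j < Ns.length), Ns.getD j ⟨[], []⟩ = Ns[j] := fun hj => List.getD_eq_getElem _ _ hj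
  have hh := hok i hi
  have help : ∀ k, helperOk Ns Ks (Ns.getD i ⟨[], []⟩) k = true →
      ∃ hk : k < Ns.length, GoodNode I M Ns[k] := by
    intro k hk
    simp only [helperOk, Bool.and_eq_true, Nat.blt_eq, Nat.ble_eq] at hk
    obtain ⟨⟨⟨hk, hnd⟩, hlen⟩, hfirst⟩ := hk
    refine ⟨hk, ?_⟩
    have hc := hok k hk
    rw [hget hk, hget hi] at hlen
    rw [hget hk] at hnd
    have hle : Ns[i].V.toFinset.card ≤ Ns[k].V.toFinset.card := by
      rw [List.toFinset_card_of_nodup (nodup_of_nodupB hnd)]
      exact (List.toFinset_card_le _).trans hlen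
    unfold nCertOk at hc
    cases hcase : Ks.getD k .given with
    | given =>
      simp only [hcase, Nat.beq_eq] at hc
      subst hc
      rw [← hget hk]
      exact hgiven hk
    | pair c =>
      simp only [hcase, hget hk] at hc
      exact E.good_of_pair W hN (List.getElem_mem hk) (fun j hj hlt => hbig j hj (hle.trans_lt hlt)) hc
    | _ => rw [hcase] at hfirst; exact absurd hfirst (by simp [NodeCert.first])
  unfold nCertOk at hh
  cases hcase : Ks.getD i .given with
  | given =>
    simp only [hcase, Nat.beq_eq] at hh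
    subst hh
    rw [← hget hi]
    exact hgiven hi
  | pair c =>
    simp only [hcase, hget hi] at hh
    exact E.good_of_pair W hN hn hbig hh
  | dicho c₂ s =>
    simp only [hcase, hget hi] at hh
    exact E.good_of_dicho W hN hn hbig hh
  | two k h s ds =>
    simp only [hcase, Bool.and_eq_true] at hh
    obtain ⟨hk, hgk⟩ := help k hh.1.1
    simp only [hget hi, hget hk] at hh
    exact E.good_of_two W hN hn (List.getElem_mem hk) hgk hh.1.2 hh.2
  | sixty k h c us =>
    simp only [hcase, Bool.and_eq_true] at hh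
    obtain ⟨hk, hgk⟩ := help k hh.1.1
    simp only [hget hi, hget hk] at hh
    exact E.good_of_sixty W hN hn (List.getElem_mem hk) hgk hh.1.2 hh.2

end Emb

end Cfsg.Agent.Fus.SymSix
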