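import Cfsg.Agent.Lib.Fus.SymSix.Tree

/-! Generated data for the centralizer of six transpositions. -/

set_option autoImplicit false
set_option maxRecDepth 100000

namespace Cfsg.Agent.Fus.SymSix

/-- A piece of the tree. -/
def clsTree0 : CTree := (.node 2185129 3 (.node 1205387 2 (.node 496954 6 (.node 292922 6 (.node 219034 3 (.node 156810 2 (.node 153482 7 (.node 149130 3 .leaf .leaf) .leaf) (.node 214682 7 (.node 161162 6 .leaf .leaf) .leaf)) (.node 272490 3 (.node 226714 6 (.node 222362 2 .leaf .leaf) .leaf) (.node 288810 2 (.node 276602 7 .leaf .leaf) .leaf))) (.node 426842 7 (.node 354602 2 (.node 342394 3 (.node 338282 7 .leaf .leaf) .leaf) (.node 426570 3 (.node 358714 6 .leaf .leaf) .leaf)) (.node 496202 7 (.node 427322 6 (.node 427050 2 .leaf .leaf) .leaf) (.node 496682 2 (.node 496474 3 .leaf .leaf) .leaf)))) (.node 603514 6 (.node 549722 2 (.node 542250 2 (.node 537722 2 (.node 533610 2 .leaf .leaf) .leaf) (.node 549450 2 (.node 546602 2 .leaf .leaf) .leaf)) (.node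 554042 5 (.node 550202 5 (.node 549930 1 .leaf .leaf) .leaf) (.node 599402 6 (.node 554282 5 .leaf .leaf) .leaf))) (.node 619354 6 (.node 615482 5 (.node 612154 6 (.node 607802 6 .leaf .leaf) .leaf) (.node 619082 6 (.node 615722 5 .leaf .leaf) .leaf)) (.node 1197707 7 (.node 619834 9 (.node 619562 5 .leaf .leaf) .leaf) (.node 1202059 3 .leaf .leaf))))) (.node 1590827 2 (.node 1403179 2 (.node 1321067 7 (.node 1267611 7 (.node 1263259 3 (.node 1209739 6 .leaf .leaf) .leaf) (.node 1275291 6 (.node 1270939 2 .leaf .leaf) .leaf)) (.node 1341499 6 (.node 1337387 2 (.node 1325179 3 .leaf .leaf) .leaf) (.node 1390971 7 (.node 1386859 3 .leaf .leaf) .leaf))) (.node 1544779 3 (.node 1475419 3 (.node 1475147 7 (.node 1407291 6 .leaf .leaf) .leaf) (.node 1475899 6 (.node 1475627 2 .leaf .leaf) .leaf)) (.node 1545531 6 (.node 1545259 2 (.node 1545051 7 .leaf .leaf) .leaf) (.node 1586299 2 (.node 1582187 2 .leaf .leaf) .leaf)))) (.node 1664059 5 (.node 1602619 5 (.node 1598299 2 (.node 1598027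 2 (.node 1595179 2 .leaf .leaf) .leaf) (.node 1598779 5 (.node 1598507 1 .leaf .leaf) .leaf)) (.node 1652091 6 (.node 1647979 6 (.node 1602859 5 .leaf .leaf) .leaf) (.node 1660731 6 (.node 1656379 6 .leaf .leaf) .leaf))) (.node 2115240 3 (.node 1667931 6 (.node 1667659 6 (.node 1664299 5 .leaf .leaf) .leaf) (.node 1668411 9 (.node 1668139 5 .leaf .leaf) .leaf)) (.node 2127272 6 (.node 2122920 2 (.node 2119592 7 .leaf .leaf) .leaf) (.node 2180777 7 .leaf .leaf)))))) (.node 3410102 7 (.node 2646437 2 (.node 2523557 7 (.node 2390177 6 (.node 2361510 3 (.node 2192809 6 (.node 2188457 2 .leaf .leaf) .leaf) (.node 2386080 2 (.node 2365607 7 .leaf .leaf) .leaf)) (.node 2451872 2 (.node 2431399 3 (.node 2427302 7 .leaf .leaf) .leaf) (.node 2523300 3 (.node 2455969 6 .leaf .leaf) .leaf))) (.node 2594209 6 (.node 2592932 7 (.node 2524577 6 (.node 2524320 2 .leaf .leaf) .leaf) (.node 2593952 2 (.node 2593189 3 .leaf .leaf) .leaf)) (.node 2639520 2 (.node 2626727 2 (.node 2622630 2 .leaf .leaf)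 .leaf) (.node 2646180 2 (.node 2643872 2 .leaf .leaf) .leaf)))) (.node 2716069 6 (.node 2692519 6 (.node 2651297 5 (.node 2647457 5 (.node 2647200 1 .leaf .leaf) .leaf) (.node 2688422 6 (.node 2651552 5 .leaf .leaf) .leaf)) (.node 2712737 5 (.node 2709409 6 (.node 2705057 6 .leaf .leaf) .leaf) (.node 2715812 6 (.node 2712992 5 .leaf .leaf) .leaf))) (.node 3175864 6 (.node 3163832 7 (.node 2717089 9 (.node 2716832 5 .leaf .leaf) .leaf) (.node 3171512 2 (.node 3168184 3 .leaf .leaf) .leaf)) (.node 3237049 2 (.node 3233721 7 (.node 3229369 3 .leaf .leaf) .leaf) (.node 3241401 6 .leaf .leaf))))) (.node 3699889 5 (.node 3641524 3 (.node 3500464 2 (.node 3438769 6 (.node 3434672 2 (.node 3414199 3 .leaf .leaf) .leaf) (.node 3479991 7 (.node 3475894 3 .leaf .leaf) .leaf)) (.node 3572149 3 (.node 3571892 7 (.node 3504561 6 .leaf .leaf) .leaf) (.node 3573169 6 (.node 3572912 2 .leaf .leaf) .leaf))) (.node 3688112 2 (.node 3642801 6 (.node 3642544 2 (.node 3641781 7 .leaf .leaf) .leaf) (.node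 3675319 2 (.node 3671222 2 .leaf .leaf) .leaf)) (.node 3695029 2 (.node 3694772 2 (.node 3692464 2 .leaf .leaf) .leaf) (.node 3696049 5 (.node 3695792 1 .leaf .leaf) .leaf)))) (.node 4205160 3 (.node 3761329 5 (.node 3741111 6 (.node 3737014 6 (.node 3700144 5 .leaf .leaf) .leaf) (.node 3758001 6 (.node 3753649 6 .leaf .leaf) .leaf)) (.node 3764661 6 (.node 3764404 6 (.node 3761584 5 .leaf .leaf) .leaf) (.node 3765681 9 (.node 3765424 5 .leaf .leaf) .leaf))) (.node 4287017 2 (.node 4225592 6 (.node 4221480 2 (.node 4209272 7 .leaf .leaf) .leaf) (.node 4274809 3 (.node 4270697 7 .leaf .leaf) .leaf)) (.node 4332167 7 (.node 4328070 3 (.node 4291129 6 .leaf .leaf) .leaf) (.node 4352640 2 .leaf .leaf)))))))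

/-- A piece of the tree. -/
def clsTree1 : CTree := (.node 6596627 7 (.node 5467024 2 (.node 4790839 6 (.node 4692529 6 (.node 4622867 7 (.node 4418192 2 (.node 4397719 3 (.node 4393622 7 .leaf .leaf) .leaf) (.node 4622850 3 (.node 4422289 6 .leaf .leaf) .leaf)) (.node 4692482 7 (.node 4622897 6 (.node 4622880 2 .leaf .leaf) .leaf) (.node 4692512 2 (.node 4692499 3 .leaf .leaf) .leaf))) (.node 4745747 2 (.node 4729440 2 (.node 4725287 2 (.node 4721190 2 .leaf .leaf) .leaf) (.node 4745730 2 (.node 4733552 2 .leaf .leaf) .leaf)) (.node 4749857 5 (.node 4745777 5 (.node 4745760 1 .leaf .leaf) .leaf) (.node 4786742 6 (.node 4749872 5 .leaf .leaf) .leaf)))) (.node 5274424 6 (.node 4815379 6 (.node 4811297 5 (.node 4799089 6 (.node 4794977 6 .leaf .leaf) .leaf) (.node 4815362 6 (.node 4811312 5 .leaf .leaf) .leaf)) (.node 5253992 7 (.node 4815409 9 (.node 4815392 5 .leaf .leaf) .leaf) (.node 5270312 2 (.node 5258104 3 .leaf .leaf) .leaf))) (.node 5380999 3 (.node 5335849 2 (.node 5323641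 7 (.node 5319529 3 .leaf .leaf) .leaf) (.node 5376902 7 (.node 5339961 6 .leaf .leaf) .leaf)) (.node 5442454 3 (.node 5405569 6 (.node 5401472 2 .leaf .leaf) .leaf) (.node 5446551 7 .leaf .leaf))))) (.node 5860129 5 (.node 5778272 2 (.node 5741314 3 (.node 5671699 3 (.node 5671682 7 (.node 5471121 6 .leaf .leaf) .leaf) (.node 5671729 6 (.node 5671712 2 .leaf .leaf) .leaf)) (.node 5741361 6 (.node 5741344 2 (.node 5741331 7 .leaf .leaf) .leaf) (.node 5774119 2 (.node 5770022 2 .leaf .leaf) .leaf))) (.node 5798689 5 (.node 5794579 2 (.node 5794562 2 (.node 5782384 2 .leaf .leaf) .leaf) (.node 5794609 5 (.node 5794592 1 .leaf .leaf) .leaf)) (.node 5839671 6 (.node 5835574 6 (.node 5798704 5 .leaf .leaf) .leaf) (.node 5847921 6 (.node 5843809 6 .leaf .leaf) .leaf)))) (.node 6399017 2 (.node 6333000 3 (.node 5864211 6 (.node 5864194 6 (.node 5860144 5 .leaf .leaf) .leaf) (.node 5864241 9 (.node 5864224 5 .leaf .leaf) .leaf)) (.node 6333752 6 (.node 6333480 2 (.node 6333272 7 .leaf .leaf)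 .leaf) (.node 6398809 3 (.node 6398537 7 .leaf .leaf) .leaf))) (.node 6529172 7 (.node 6463877 7 (.node 6463620 3 (.node 6399289 6 .leaf .leaf) .leaf) (.node 6464897 6 (.node 6464640 2 .leaf .leaf) .leaf)) (.node 6530449 6 (.node 6530192 2 (.node 6529429 3 .leaf .leaf) .leaf) (.node 6596610 3 .leaf .leaf)))))) (.node 7715074 3 (.node 6923539 6 (.node 6857747 2 (.node 6662449 6 (.node 6662402 7 (.node 6596657 6 (.node 6596640 2 .leaf .leaf) .leaf) (.node 6662432 2 (.node 6662419 3 .leaf .leaf) .leaf)) (.node 6857280 2 (.node 6856997 2 (.node 6856740 2 .leaf .leaf) .leaf) (.node 6857730 2 (.node 6857552 2 .leaf .leaf) .leaf))) (.node 6922549 6 (.node 6858017 5 (.node 6857777 5 (.node 6857760 1 .leaf .leaf) .leaf) (.node 6922292 6 (.node 6858032 5 .leaf .leaf) .leaf)) (.node 6923297 5 (.node 6923089 6 (.node 6922817 6 .leaf .leaf) .leaf) (.node 6923522 6 (.node 6923312 5 .leaf .leaf) .leaf)))) (.node 7516549 3 (.node 7386424 6 (.node 7385672 7 (.node 6923569 9 (.node 6923552 5 .leaf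 .leaf) .leaf) (.node 7386152 2 (.node 7385944 3 .leaf .leaf) .leaf)) (.node 7451689 2 (.node 7451481 7 (.node 7451209 3 .leaf .leaf) .leaf) (.node 7516292 7 (.node 7451961 6 .leaf .leaf) .leaf))) (.node 7583121 6 (.node 7581844 3 (.node 7517569 6 (.node 7517312 2 .leaf .leaf) .leaf) (.node 7582864 2 (.node 7582101 7 .leaf .leaf) .leaf)) (.node 7649312 2 (.node 7649299 3 (.node 7649282 7 .leaf .leaf) .leaf) (.node 7649329 6 .leaf .leaf))))) (.node 9044550 3 (.node 7910689 5 (.node 7909952 2 (.node 7715121 6 (.node 7715104 2 (.node 7715091 7 .leaf .leaf) .leaf) (.node 7909669 2 (.node 7909412 2 .leaf .leaf) .leaf)) (.node 7910419 2 (.node 7910402 2 (.node 7910224 2 .leaf .leaf) .leaf) (.node 7910449 5 (.node 7910432 1 .leaf .leaf) .leaf))) (.node 7975969 5 (.node 7975221 6 (.node 7974964 6 (.node 7910704 5 .leaf .leaf) .leaf) (.node 7975761 6 (.node 7975489 6 .leaf .leaf) .leaf)) (.node 7976211 6 (.node 7976194 6 (.node 7975984 5 .leaf .leaf) .leaf) (.node 7976241 9 (.node 7976224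 5 .leaf .leaf) .leaf)))) (.node 9056372 7 (.node 9049127 2 (.node 9045302 6 (.node 9045030 2 (.node 9044822 7 .leaf .leaf) .leaf) (.node 9048919 3 (.node 9048647 7 .leaf .leaf) .leaf)) (.node 9052517 7 (.node 9052260 3 (.node 9049399 6 .leaf .leaf) .leaf) (.node 9053537 6 (.node 9053280 2 .leaf .leaf) .leaf))) (.node 9061920 2 (.node 9057649 6 (.node 9057392 2 (.node 9056629 3 .leaf .leaf) .leaf) (.node 9061907 7 (.node 9061890 3 .leaf .leaf) .leaf)) (.node 9066259 3 (.node 9066242 7 (.node 9061937 6 .leaf .leaf) .leaf) (.node 9066272 2 .leaf .leaf)))))))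

/-- A piece of the tree. -/
def clsTree2 : CTree := (.node 10646912 5 (.node 10183232 2 (.node 10159414 6 (.node 9072949 6 (.node 9069587 2 (.node 9069120 2 (.node 9068837 2 (.node 9068580 2 .leaf .leaf) .leaf) (.node 9069570 2 (.node 9069392 2 .leaf .leaf) .leaf)) (.node 9069857 5 (.node 9069617 5 (.node 9069600 1 .leaf .leaf) .leaf) (.node 9072692 6 (.node 9069872 5 .leaf .leaf) .leaf))) (.node 9073939 6 (.node 9073697 5 (.node 9073489 6 (.node 9073217 6 .leaf .leaf) .leaf) (.node 9073922 6 (.node 9073712 5 .leaf .leaf) .leaf)) (.node 10158662 7 (.node 9073969 9 (.node 9073952 5 .leaf .leaf) .leaf) (.node 10159142 2 (.node 10158934 3 .leaf .leaf) .leaf)))) (.node 10171761 6 (.node 10166629 3 (.node 10163239 2 (.node 10163031 7 (.node 10162759 3 .leaf .leaf) .leaf) (.node 10166372 7 (.node 10163511 6 .leaf .leaf) .leaf)) (.node 10170484 3 (.node 10167649 6 (.node 10167392 2 .leaf .leaf) .leaf) (.node 10171504 2 (.node 10170741 7 .leaf .leaf) .leaf))) (.node 10180371 7 (.node 10176032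 2 (.node 10176019 3 (.node 10176002 7 .leaf .leaf) .leaf) (.node 10180354 3 (.node 10176049 6 .leaf .leaf) .leaf)) (.node 10182692 2 (.node 10180401 6 (.node 10180384 2 .leaf .leaf) .leaf) (.node 10182949 2 .leaf .leaf))))) (.node 10511400 1 (.node 10187809 5 (.node 10183969 5 (.node 10183699 2 (.node 10183682 2 (.node 10183504 2 .leaf .leaf) .leaf) (.node 10183729 5 (.node 10183712 1 .leaf .leaf) .leaf)) (.node 10187061 6 (.node 10186804 6 (.node 10183984 5 .leaf .leaf) .leaf) (.node 10187601 6 (.node 10187329 6 .leaf .leaf) .leaf))) (.node 10495080 2 (.node 10188051 6 (.node 10188034 6 (.node 10187824 5 .leaf .leaf) .leaf) (.node 10188081 9 (.node 10188064 5 .leaf .leaf) .leaf)) (.node 10508072 2 (.node 10503720 2 (.node 10499192 2 .leaf .leaf) .leaf) (.node 10511192 2 (.node 10510920 2 .leaf .leaf) .leaf)))) (.node 10581049 5 (.node 10569257 2 (.node 10515752 5 (.node 10515512 5 (.node 10511672 5 .leaf .leaf) .leaf) (.node 10564729 2 (.node 10560617 2 .leaf .leaf) .leaf)) (.node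 10576729 2 (.node 10576457 2 (.node 10573609 2 .leaf .leaf) .leaf) (.node 10577209 5 (.node 10576937 1 .leaf .leaf) .leaf))) (.node 10641540 2 (.node 10622087 2 (.node 10617990 2 (.node 10581289 5 .leaf .leaf) .leaf) (.node 10639232 2 (.node 10634880 2 .leaf .leaf) .leaf)) (.node 10642817 5 (.node 10642560 1 (.node 10641797 2 .leaf .leaf) .leaf) (.node 10646657 5 .leaf .leaf)))))) (.node 10982432 1 (.node 10828144 2 (.node 10754087 2 (.node 10707349 2 (.node 10700432 2 (.node 10687639 2 (.node 10683542 2 .leaf .leaf) .leaf) (.node 10707092 2 (.node 10704784 2 .leaf .leaf) .leaf)) (.node 10712209 5 (.node 10708369 5 (.node 10708112 1 .leaf .leaf) .leaf) (.node 10749990 2 (.node 10712464 5 .leaf .leaf) .leaf))) (.node 10774577 5 (.node 10774530 2 (.node 10762352 2 (.node 10758240 2 .leaf .leaf) .leaf) (.node 10774560 1 (.node 10774547 2 .leaf .leaf) .leaf)) (.node 10815782 2 (.node 10778672 5 (.node 10778657 5 .leaf .leaf) .leaf) (.node 10824032 2 (.node 10819879 2 .leaf .leaf) .leaf))))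 (.node 10912787 2 (.node 10844464 5 (.node 10840352 1 (.node 10840339 2 (.node 10840322 2 .leaf .leaf) .leaf) (.node 10844449 5 (.node 10840369 5 .leaf .leaf) .leaf)) (.node 10912320 2 (.node 10912037 2 (.node 10911780 2 .leaf .leaf) .leaf) (.node 10912770 2 (.node 10912592 2 .leaf .leaf) .leaf))) (.node 10981669 2 (.node 10913057 5 (.node 10912817 5 (.node 10912800 1 .leaf .leaf) .leaf) (.node 10981412 2 (.node 10913072 5 .leaf .leaf) .leaf)) (.node 10982402 2 (.node 10982224 2 (.node 10981952 2 .leaf .leaf) .leaf) (.node 10982419 2 .leaf .leaf))))) (.node 11032322 2 (.node 11018340 2 (.node 11011110 1 (.node 10982704 5 (.node 10982689 5 (.node 10982449 5 .leaf .leaf) .leaf) (.node 11010902 2 (.node 11010630 2 .leaf .leaf) .leaf)) (.node 11014999 2 (.node 11014727 2 (.node 11011382 5 .leaf .leaf) .leaf) (.node 11015479 5 (.node 11015207 1 .leaf .leaf) .leaf))) (.node 11023472 1 (.node 11019617 5 (.node 11019360 1 (.node 11018597 2 .leaf .leaf) .leaf) (.node 11022709 2 (.node 11022452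 2 .leaf .leaf) .leaf)) (.node 11027987 2 (.node 11027970 2 (.node 11023729 5 .leaf .leaf) .leaf) (.node 11028017 5 (.node 11028000 1 .leaf .leaf) .leaf)))) (.node 11035952 4 (.node 11035200 1 (.node 11032369 5 (.node 11032352 1 (.node 11032339 2 .leaf .leaf) .leaf) (.node 11034917 1 (.node 11034660 1 .leaf .leaf) .leaf)) (.node 11035667 1 (.node 11035650 1 (.node 11035472 1 .leaf .leaf) .leaf) (.node 11035937 4 (.node 11035697 4 .leaf .leaf) .leaf))) (.node 11039792 4 (.node 11039297 5 (.node 11039029 5 (.node 11038772 5 .leaf .leaf) .leaf) (.node 11039777 4 (.node 11039569 5 .leaf .leaf) .leaf)) (.node 11040032 4 (.node 11040019 5 (.node 11040002 5 .leaf .leaf) .leaf) (.node 11040049 8 .leaf .leaf)))))))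

/-- A piece of the tree. -/
def clsTree3 : CTree := (.node 11960897 6 (.node 11625769 5 (.node 11104832 5 (.node 11100212 5 (.node 11089009 5 (.node 11080999 5 (.node 11080759 5 (.node 11076902 5 .leaf .leaf) .leaf) (.node 11085152 5 (.node 11084897 5 .leaf .leaf) .leaf)) (.node 11093552 5 (.node 11093537 5 (.node 11089264 5 .leaf .leaf) .leaf) (.node 11097904 5 (.node 11097889 5 .leaf .leaf) .leaf))) (.node 11101442 5 (.node 11101009 5 (.node 11100737 5 (.node 11100469 5 .leaf .leaf) .leaf) (.node 11101232 4 (.node 11101217 4 .leaf .leaf) .leaf)) (.node 11101489 8 (.node 11101472 4 (.node 11101459 5 .leaf .leaf) .leaf) (.node 11104549 5 (.node 11104292 5 .leaf .leaf) .leaf)))) (.node 11559992 5 (.node 11105569 8 (.node 11105299 5 (.node 11105282 5 (.node 11105104 5 .leaf .leaf) .leaf) (.node 11105329 8 (.node 11105312 4 .leaf .leaf) .leaf)) (.node 11548024 6 (.node 11543912 6 (.node 11105584 8 .leaf .leaf) .leaf) (.node 11556664 6 (.node 11552312 6 .leaf .leaf) .leaf))) (.node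 11609449 6 (.node 11563864 6 (.node 11563592 6 (.node 11560232 5 .leaf .leaf) .leaf) (.node 11564344 9 (.node 11564072 5 .leaf .leaf) .leaf)) (.node 11622201 6 (.node 11617849 6 (.node 11613561 6 .leaf .leaf) .leaf) (.node 11625529 5 .leaf .leaf))))) (.node 11761041 9 (.node 11694469 6 (.node 11670919 6 (.node 11629609 5 (.node 11629401 6 (.node 11629129 6 .leaf .leaf) .leaf) (.node 11666822 6 (.node 11629881 9 .leaf .leaf) .leaf)) (.node 11691137 5 (.node 11687809 6 (.node 11683457 6 .leaf .leaf) .leaf) (.node 11694212 6 (.node 11691392 5 .leaf .leaf) .leaf))) (.node 11753361 6 (.node 11732374 6 (.node 11695489 9 (.node 11695232 5 .leaf .leaf) .leaf) (.node 11749009 6 (.node 11736471 6 .leaf .leaf) .leaf)) (.node 11759764 6 (.node 11756944 5 (.node 11756689 5 .leaf .leaf) .leaf) (.node 11760784 5 (.node 11760021 6 .leaf .leaf) .leaf)))) (.node 11868471 6 (.node 11823152 5 (.node 11806817 6 (.node 11802679 6 (.node 11798582 6 .leaf .leaf) .leaf) (.node 11823137 5 (.node 11810929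 6 .leaf .leaf) .leaf)) (.node 11827232 5 (.node 11827219 6 (.node 11827202 6 .leaf .leaf) .leaf) (.node 11864374 6 (.node 11827249 9 .leaf .leaf) .leaf))) (.node 11893011 6 (.node 11888929 5 (.node 11876721 6 (.node 11872609 6 .leaf .leaf) .leaf) (.node 11892994 6 (.node 11888944 5 .leaf .leaf) .leaf)) (.node 11960372 6 (.node 11893041 9 (.node 11893024 5 .leaf .leaf) .leaf) (.node 11960629 6 .leaf .leaf)))))) (.node 12088369 8 (.node 12072049 5 (.node 12031009 5 (.node 11961632 5 (.node 11961392 5 (.node 11961377 5 (.node 11961169 6 .leaf .leaf) .leaf) (.node 11961619 6 (.node 11961602 6 .leaf .leaf) .leaf)) (.node 12030261 6 (.node 12030004 6 (.node 11961649 9 .leaf .leaf) .leaf) (.node 12030801 6 (.node 12030529 6 .leaf .leaf) .leaf))) (.node 12059702 5 (.node 12031251 6 (.node 12031234 6 (.node 12031024 5 .leaf .leaf) .leaf) (.node 12031281 9 (.node 12031264 5 .leaf .leaf) .leaf)) (.node 12064039 5 (.node 12063799 5 (.node 12059942 5 .leaf .leaf) .leaf) (.node 12068192 5 (.node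 12067937 5 .leaf .leaf) .leaf)))) (.node 12084482 5 (.node 12083252 5 (.node 12076592 5 (.node 12076577 5 (.node 12072304 5 .leaf .leaf) .leaf) (.node 12080944 5 (.node 12080929 5 .leaf .leaf) .leaf)) (.node 12084049 5 (.node 12083777 5 (.node 12083509 5 .leaf .leaf) .leaf) (.node 12084272 4 (.node 12084257 4 .leaf .leaf) .leaf))) (.node 12087872 5 (.node 12084529 8 (.node 12084512 4 (.node 12084499 5 .leaf .leaf) .leaf) (.node 12087589 5 (.node 12087332 5 .leaf .leaf) .leaf)) (.node 12088339 5 (.node 12088322 5 (.node 12088144 5 .leaf .leaf) .leaf) (.node 12088352 4 .leaf .leaf))))) (.node 12146451 6 (.node 12132709 6 (.node 12125494 9 (.node 12124742 6 (.node 12088624 8 (.node 12088609 8 .leaf .leaf) .leaf) (.node 12125222 5 (.node 12125014 6 .leaf .leaf) .leaf)) (.node 12129319 5 (.node 12129111 6 (.node 12128839 6 .leaf .leaf) .leaf) (.node 12132452 6 (.node 12129591 9 .leaf .leaf) .leaf))) (.node 12137841 9 (.node 12136564 6 (.node 12133729 9 (.node 12133472 5 .leaf .leaf)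 .leaf) (.node 12137584 5 (.node 12136821 6 .leaf .leaf) .leaf)) (.node 12142112 5 (.node 12142099 6 (.node 12142082 6 .leaf .leaf) .leaf) (.node 12146434 6 (.node 12142129 9 .leaf .leaf) .leaf)))) (.node 12150064 8 (.node 12149584 5 (.node 12148772 5 (.node 12146481 9 (.node 12146464 5 .leaf .leaf) .leaf) (.node 12149312 5 (.node 12149029 5 .leaf .leaf) .leaf)) (.node 12149792 4 (.node 12149779 5 (.node 12149762 5 .leaf .leaf) .leaf) (.node 12150049 8 (.node 12149809 8 .leaf .leaf) .leaf))) (.node 12153904 8 (.node 12153409 9 (.node 12153141 9 (.node 12152884 9 .leaf .leaf) .leaf) (.node 12153889 8 (.node 12153681 9 .leaf .leaf) .leaf)) (.node 12154144 8 (.node 12154131 9 (.node 12154114 9 .leaf .leaf) .leaf) (.node 12154161 0 .leaf .leaf)))))))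

/-- The classes of the involutions. -/
def clsTree : CTree := (.node 9066289 6 (.node 4356737 6 clsTree0 clsTree1) (.node 11076662 5 clsTree2 clsTree3))

end Cfsg.Agent.Fus.SymSix
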