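import Cfsg.Agent.Lib.Fus.SymSix.Loc
import Cfsg.Agent.Lib.Fus.SymSix.ClassData
import Cfsg.Agent.Lib.Fus.SymSix.TreeData

/-!
# Involutions of the centralizer and their classes
-/

set_option autoImplicit false
set_option maxRecDepth 100000
set_option Elab.async false

namespace Cfsg.Agent.Fus.SymSix

open Cfsg.Agent.Spor.Cos (force force_eq)

/-- Being an involution. -/
def isInv (c : ℕ) : Bool := Nat.beq (mulC c c) oneC && !Nat.beq c oneC

/-- The representative of a class. -/
def repC (i : ℕ) : ℕ := repList.getD i zC

/-- The class of an involution, `10` for the other numbers. -/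
noncomputable def clsF (x : ℕ) : ℕ := clsTree.find x

/-- Commuting. -/
def commC (a b : ℕ) : Bool := Nat.beq (mulC a b) (mulC b a)

/-- The check of the covering at one number. -/
noncomputable def coverAt (c : ℕ) : Bool := !isInv c || !Nat.beq (clsF c) noVal

/-- The check of the center at one number. -/
def centerAt (c : ℕ) : Bool := !(gensH.all fun g => commC c g) || Nat.beq c oneC || Nat.beq c zC

theorem invTab_ok : (invTab.all fun e => inH e.2.2 && inH e.1 && isInv e.1 && Nat.blt e.2.1 noVal &&
    Nat.beq (cjC e.2.2 (repC e.2.1)) e.1 && Nat.beq (clsF e.1) e.2.1) = true := by decide +kernel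

theorem clsTree_ok : (clsTree.toList.all fun p => invTab.any fun e => Nat.beq e.1 p.1) = true := by decide +kernel

theorem repC_ok : ((List.range 10).all fun i => inH (repC i) && isInv (repC i) && Nat.beq (clsF (repC i)) i) = true := by
  decide +kernel

theorem repC_zero : repC 0 = zC := by decide +kernel

theorem Mem.rep (i : ℕ) : Mem (repC i) := by
  rcases Nat.lt_or_ge i 10 with h | h
  · have := List.all_eq_true.1 repC_ok i (List.mem_range.2 h)
    simp only [Bool.and_eq_true] at this
    exact this.1.1
  · rw [repC, List.getD_eq_default _ _ (show repList.length ≤ i from le_trans (by decide) h)]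
    exact mem_z

theorem gens_mem : (gensH.all fun g => inH g && isInv g) = true := by decide +kernel

theorem cover_part0 : (((halvesList.drop 0).take 60).all fun p => flipList.all fun f => coverAt (p + f)) = true := by
  decide +kernel

theorem cover_part1 : (((halvesList.drop 60).take 60).all fun p => flipList.all fun f => coverAt (p + f)) = true := by
  decide +kernel

theorem cover_part2 : (((halvesList.drop 120).take 60).all fun p => flipList.all fun f => coverAt (p + f)) = true := by
  decide +kernel

theorem cover_part3 : (((halvesList.drop 180).take 60).all fun p => flipList.all fun f => coverAt (p + f)) = true := by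
  decide +kernel

theorem cover_part4 : (((halvesList.drop 240).take 60).all fun p => flipList.all fun f => coverAt (p + f)) = true := by
  decide +kernel

theorem cover_part5 : (((halvesList.drop 300).take 60).all fun p => flipList.all fun f => coverAt (p + f)) = true := by
  decide +kernel

theorem cover_part6 : (((halvesList.drop 360).take 60).all fun p => flipList.all fun f => coverAt (p + f)) = true := by
  decide +kernel

theorem cover_part7 : (((halvesList.drop 420).take 60).all fun p => flipList.all fun f => coverAt (p + f)) = true := by
  decide +kernel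

theorem cover_part8 : (((halvesList.drop 480).take 60).all fun p => flipList.all fun f => coverAt (p + f)) = true := by
  decide +kernel

theorem cover_part9 : (((halvesList.drop 540).take 60).all fun p => flipList.all fun f => coverAt (p + f)) = true := by
  decide +kernel

theorem cover_part10 : (((halvesList.drop 600).take 60).all fun p => flipList.all fun f => coverAt (p + f)) = true := by
  decide +kernel

theorem cover_part11 : (((halvesList.drop 660).take 60).all fun p => flipList.all fun f => coverAt (p + f)) = true := by
  decide +kernel

theorem center_part0 : (((halvesList.drop 0).take 60).all fun p => flipList.all fun f => centerAt (p + f)) = true := by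
  decide +kernel

theorem center_part1 : (((halvesList.drop 60).take 60).all fun p => flipList.all fun f => centerAt (p + f)) = true := by
  decide +kernel

theorem center_part2 : (((halvesList.drop 120).take 60).all fun p => flipList.all fun f => centerAt (p + f)) = true := by
  decide +kernel

theorem center_part3 : (((halvesList.drop 180).take 60).all fun p => flipList.all fun f => centerAt (p + f)) = true := by
  decide +kernel

theorem center_part4 : (((halvesList.drop 240).take 60).all fun p => flipList.all fun f => centerAt (p + f)) = true := by
  decide +kernel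

theorem center_part5 : (((halvesList.drop 300).take 60).all fun p => flipList.all fun f => centerAt (p + f)) = true := by
  decide +kernel

theorem center_part6 : (((halvesList.drop 360).take 60).all fun p => flipList.all fun f => centerAt (p + f)) = true := by
  decide +kernel

theorem center_part7 : (((halvesList.drop 420).take 60).all fun p => flipList.all fun f => centerAt (p + f)) = true := by
  decide +kernel

theorem center_part8 : (((halvesList.drop 480).take 60).all fun p => flipList.all fun f => centerAt (p + f)) = true := by
  decide +kernel

theorem center_part9 : (((halvesList.drop 540).take 60).all fun p => flipList.all fun f => centerAt (p + f)) = true := by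
  decide +kernel

theorem center_part10 : (((halvesList.drop 600).take 60).all fun p => flipList.all fun f => centerAt (p + f)) = true := by
  decide +kernel

theorem center_part11 : (((halvesList.drop 660).take 60).all fun p => flipList.all fun f => centerAt (p + f)) = true := by
  decide +kernel

theorem all_elems {p : ℕ → Bool}
    (h : ∀ j < 12, (((halvesList.drop (60 * j)).take 60).all fun q => flipList.all fun f => p (q + f)) = true) :
    ∀ c, Mem c → p c = true := by
  intro c hc
  have he := hc.mem_elems
  simp only [elems, List.mem_flatMap, List.mem_map] at he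
  obtain ⟨q, hq, f, hf, rfl⟩ := he
  exact List.all_eq_true.1
    (List.all_eq_true.1 (all_of_parts (p := fun q => flipList.all fun f => p (q + f)) 12 (by rw [halves_length]) h) q hq)
    f hf

theorem cover_all {c : ℕ} (hc : Mem c) : coverAt c = true :=
  all_elems (fun j hj => by interval_cases j; exacts [cover_part0, cover_part1, cover_part2, cover_part3, cover_part4, cover_part5, cover_part6, cover_part7, cover_part8, cover_part9, cover_part10, cover_part11]) c hc

theorem center_all {c : ℕ} (hc : Mem c) : centerAt c = true :=
  all_elems (fun j hj => by interval_cases j; exacts [center_part0, center_part1, center_part2, center_part3, center_part4, center_part5, center_part6, center_part7, center_part8, center_part9, center_part10, center_part11]) c hc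

theorem clsF_lt {x : ℕ} (h : clsF x < noVal) : ∃ e ∈ invTab, e.1 = x := by
  have hm := (CTree.find_mem clsTree x).resolve_left (fun e => by rw [clsF, e] at h; exact lt_irrefl _ h)
  obtain ⟨e, he, hee⟩ := List.any_eq_true.1 (List.all_eq_true.1 clsTree_ok _ hm)
  exact ⟨e, he, Nat.eq_of_beq_eq_true hee⟩

theorem cls_spec {x : ℕ} (hx : Mem x) (h1 : mulC x x = oneC) (h2 : x ≠ oneC) :
    clsF x < noVal ∧ ∃ h, Mem h ∧ cjC h (repC (clsF x)) = x := by
  have hc := cover_all hx
  simp only [coverAt, isInv, h1, Nat.beq_refl, Bool.true_and, Bool.not_not, Bool.or_eq_true, Bool.not_eq_true',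
    Nat.beq_eq] at hc
  have hne : clsF x ≠ noVal := fun e => by
    rcases hc with h | h
    · exact h2 h
    · rw [e, Nat.beq_refl] at h; exact Bool.noConfusion h
  have hm := (CTree.find_mem clsTree x).resolve_left hne
  obtain ⟨e, he, hee⟩ := List.any_eq_true.1 (List.all_eq_true.1 clsTree_ok _ hm)
  obtain rfl : e.1 = x := Nat.eq_of_beq_eq_true hee
  have := List.all_eq_true.1 invTab_ok e he
  simp only [Bool.and_eq_true, Nat.beq_eq, Nat.blt_eq] at this
  obtain ⟨⟨⟨⟨⟨hm', -⟩, -⟩, hlt⟩, hcj⟩, hcl⟩ := this
  exact hcl.symm ▸ ⟨hlt, e.2.2, hm', hcj⟩

theorem clsF_none {x : ℕ} (h : clsF x < noVal) : Mem x ∧ mulC x x = oneC ∧ x ≠ oneC := by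
  obtain ⟨e, he, rfl⟩ := clsF_lt h
  have := List.all_eq_true.1 invTab_ok e he
  simp only [isInv, Bool.and_eq_true, Nat.beq_eq, Bool.not_eq_true'] at this
  exact ⟨this.1.1.1.1.2, this.1.1.1.2.1, fun h => by rw [h] at this; exact absurd this.1.1.1.2.2 (by decide +kernel)⟩

namespace Loc

variable {G : Type*} [Group G] {z : G} {I : ℕ → G} (L : Loc z I)
include L

theorem ne_one_of_conj {x : ℕ} (h : IsConj (I x) z) : I x ≠ 1 := fun e => by
  rw [e] at h; exact L.z_ne_one (isConj_one_right.1 h)

theorem mul_self_of_conj {x : G} (h : IsConj x z) : x * x = 1 := by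
  obtain ⟨g, rfl⟩ := isConj_iff.1 h.symm
  calc g * z * g⁻¹ * (g * z * g⁻¹) = g * (z * z) * g⁻¹ := by group
    _ = 1 := by rw [L.mul_self_z, mul_one, mul_inv_cancel]

theorem fused_cls {x : ℕ} (hx : Mem x) :
    IsConj (I x) z ↔ clsF x < noVal ∧ IsConj (I (repC (clsF x))) z := by
  have key : clsF x < noVal → (IsConj (I x) z ↔ IsConj (I (repC (clsF x))) z) := by
    intro hlt
    obtain ⟨-, h1, h2⟩ := clsF_none hlt
    obtain ⟨-, h, hh, e⟩ := cls_spec hx h1 h2
    have hc : IsConj (I (repC (clsF x))) (I x) :=
      isConj_iff.2 ⟨I h, by rw [← L.map_cj hh (Mem.rep _), e]⟩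
    exact ⟨fun h => hc.trans h, fun h => hc.symm.trans h⟩
  refine ⟨fun h => ?_, fun h => (key h.1).2 h.2⟩
  have h1 : mulC x x = oneC := L.inj _ _ (hx.mul hx) mem_one (by rw [L.hom _ _ hx hx, L.map_one, L.mul_self_of_conj h])
  have h2 : x ≠ oneC := fun e => L.ne_one_of_conj h (e ▸ L.map_one)
  exact ⟨(cls_spec hx h1 h2).1, (key (cls_spec hx h1 h2).1).1 h⟩

end Loc

/-- Elements commuting with the generators are central. -/
theorem center_eq {c : ℕ} (hc : Mem c) (h : ∀ g ∈ gensH, mulC c g = mulC g c) : c = oneC ∨ c = zC := by
  have := center_all hc
  have hg : (gensH.all fun g => commC c g) = true := List.all_eq_true.2 fun g hg => by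
    simp only [commC, Nat.beq_eq]; exact h g hg
  simpa only [centerAt, hg, Bool.not_true, Bool.false_or, Bool.or_eq_true, Nat.beq_eq] using this

theorem exists_setup {G : Type*} [Group G] {z : G} (hz : orderOf z = 2)
    (e : Subgroup.centralizer ({z} : Set G) ≃* C12) : ∃ I : ℕ → G, Loc z I := by
  refine exists_loc z e fun c hc => ?_
  obtain ⟨d, hd, hde⟩ := exists_code (e c).2
  have hcz : ∀ y : Subgroup.centralizer ({z} : Set G), c * y = y * c := fun y => Subtype.ext (by
    show (c : G) * y = y * c
    rw [hc]; exact (Subgroup.mem_centralizer_singleton_iff.1 y.2).symm)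
  have hcomm : ∀ g ∈ gensH, mulC d g = mulC g d := by
    intro g hg
    have hgm : Mem g := by
      have := List.all_eq_true.1 gens_mem g hg
      simp only [Bool.and_eq_true] at this
      exact this.1
    refine toPerm_inj (hd.mul hgm) (hgm.mul hd) ?_
    have := congrArg e (hcz (e.symm (toC12 hgm)))
    rw [map_mul, map_mul, e.apply_symm_apply] at this
    have h2 := congrArg Subtype.val this
    simp only [Subgroup.coe_mul, ← hde, toC12] at h2
    rw [toPerm_mul hd hgm, toPerm_mul hgm hd, h2]
  rcases center_eq hd hcomm with rfl | rfl
  · exfalso
    have h1 : e c = 1 := Subtype.ext (hde.symm.trans toPerm_one)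
    rw [map_eq_one_iff e e.injective] at h1
    rw [h1] at hc
    rw [← hc] at hz
    simp at hz
  · exact hde.symm.trans toPerm_z

end Cfsg.Agent.Fus.SymSix
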