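import Cfsg.Agent.Lib.Fus.SymSix.Syl

/-!
# An unfused involution without fused translates, and no elements of order four modulo the subgroup
-/

set_option autoImplicit false
set_option maxRecDepth 100000

namespace Cfsg.Agent.Fus.SymSix

open Cfsg.Agent.Spor.Cos (force force_eq)

/-- The checks of a subgroup with an unfused involution. -/
noncomputable def dichoOk (m : ℕ) (wEq : List ℕ → List ℕ → Bool) (n : CNode) (c₂ : ℕ) (s : SylCert) : Bool :=
  inH c₂ && Nat.beq (mulC c₂ c₂) oneC && !n.inV c₂ &&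
    (n.V.all fun v => commC c₂ v && !fz m (mulC c₂ v)) && sylOk m wEq n s &&
    s.P.all fun p => force (mulC p p) fun q => !n.inV q || Nat.beq q oneC

namespace Emb

variable {G : Type*} [Group G] [Finite G] {z : G} {I : ℕ → G} {a b : G} {ta tb : CTree} {m : ℕ} {M : Subgroup G}
variable (E : Emb z I a b ta tb m M) {Ns : List CNode} {wEq : List ℕ → List ℕ → Bool} (W : WordEq I a b wEq)
include E W

/-- Such a subgroup is good once the larger ones are. -/
theorem good_of_dicho (hN : NodesGood m Ns) {n : CNode} (hn : n ∈ Ns)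
    (hbig : ∀ k ∈ Ns, n.V.toFinset.card < k.V.toFinset.card → GoodNode I M k)
    {c₂ : ℕ} {s : SylCert} (hok : dichoOk m wEq n c₂ s = true) : GoodNode I M n := by
  have L := E.loc
  obtain ⟨h1, -, hb⟩ := hN.base n hn
  have hmem : ∀ v ∈ n.V, Mem v := fun v hv => (hb v hv).1
  simp only [dichoOk, force_eq, Bool.and_eq_true, List.all_eq_true, Bool.or_eq_true, Bool.not_eq_true',
    commC, Nat.beq_eq] at hok
  obtain ⟨⟨⟨⟨⟨hc, hcc⟩, hout⟩, hcV⟩, hsyl⟩, hno4⟩ := hok
  replace hc : Mem c₂ := hc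
  have Sp := sylSpec L E.pair E.hm W hmem hsyl
  set d := I c₂
  have hd2 : d * d = 1 := by rw [← L.hom _ _ hc hc, hcc, L.map_one]
  have hdV : ∀ v ∈ n.V, d * I v = I v * d := fun v hv => (L.comm_iff hc (hmem v hv)).2 (hcV v hv).1
  have hdne : ∀ v ∈ n.V, d ≠ I v := fun v hv e => by
    rw [L.inj _ _ hc (hmem v hv) e, CNode.inV_iff.2 hv] at hout
    exact Bool.noConfusion hout
  have hnf : ∀ v ∈ n.V, ¬ IsConj (d * I v) z := fun v hv h => by
    rw [← L.hom _ _ hc (hmem v hv), ← L.fused_mask E.hm (hc.mul (hmem v hv)), (hcV v hv).2] at h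
    exact Bool.noConfusion h
  intro g₀ hg₀
  by_contra hg₀M
  set y := g₀ * z * g₀⁻¹
  have hy : IsConj y z := (isConj_iff.2 ⟨g₀, rfl⟩ : IsConj z _).symm
  have hyM : y ∉ M := fun h => hg₀M (E.fus E.z_mem (IsConj.refl z) h)
  have hyV : ∀ v ∈ n.V, y * I v = I v * y := fun v hv =>
    (((show Commute g₀ (I v) from hg₀ v hv).mul_left (show Commute z (I v) from (L.comm_z (hmem v hv)).symm)).mul_left
      (show Commute g₀ (I v) from hg₀ v hv).inv_left).eq
  have hy2 := E.fused_mem hy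
  set r := d * y
  have hrV : ∀ v ∈ n.V, Commute r (I v) := fun v hv => (show Commute d (I v) from hdV v hv).mul_left (hyV v hv)
  have hri : r⁻¹ = y * d := by
    rw [mul_inv_rev, inv_eq_of_mul_eq_one_left hd2, inv_eq_of_mul_eq_one_left hy2]
  have hflip : ∀ j : ℕ, d * r ^ j = (r⁻¹) ^ j * d := by
    intro j
    have e : d * r * d⁻¹ = r⁻¹ := by
      rw [hri, inv_eq_of_mul_eq_one_left hd2]; simp only [r]; rw [← mul_assoc, hd2, one_mul]
    have := conj_pow (i := j) (a := d) (b := r)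
    rw [e] at this
    rw [this, inv_mul_cancel_right]
  have hyr : y = d * r := by simp only [r]; rw [← mul_assoc, hd2, one_mul]
  have hconj : ∀ t : ℕ, IsConj y (d * r ^ (2 * t + 1)) := fun t => by
    refine isConj_iff.2 ⟨(r ^ t)⁻¹, ?_⟩
    have h2 : (r ^ t)⁻¹ * d = d * r ^ t := by rw [hflip t, inv_pow]
    rw [inv_inv]
    calc (r ^ t)⁻¹ * y * r ^ t = (r ^ t)⁻¹ * d * (r * r ^ t) := by rw [hyr]; group
      _ = d * (r ^ t * r * r ^ t) := by rw [h2]; group
      _ = _ := by rw [← pow_succ, ← pow_add, show t + 1 + t = 2 * t + 1 by omega]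
  rcases Nat.even_or_odd (orderOf r) with ⟨t, ht⟩ | ⟨t, ht⟩
  swap
  · refine hnf oneC h1 ?_
    have := hconj t
    rw [← ht, pow_orderOf_eq_one, mul_one] at this
    rw [L.map_one, mul_one]
    exact this.symm.trans hy
  have hpos := orderOf_pos r
  set e := r ^ t
  have he1 : e ≠ 1 := fun h => by
    have := Nat.le_of_dvd (by omega) (orderOf_dvd_of_pow_eq_one h)
    omega
  have hee : e * e = 1 := by rw [← pow_add, ← ht, pow_orderOf_eq_one]
  have heinv : e⁻¹ = e := inv_eq_of_mul_eq_one_left hee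
  have hde : d * e = e * d := by
    rw [hflip, inv_pow]
    show e⁻¹ * d = e * d
    rw [heinv]
  have hye : y * e = e * y := by
    rw [hyr]
    calc d * r * e = d * (e * r) := by rw [mul_assoc, (Commute.self_pow r t).eq]
      _ = e * (d * r) := by rw [← mul_assoc, hde, mul_assoc]
  have heV : ∀ v ∈ n.V, e * I v = I v * e := fun v hv => ((hrV v hv).pow_left t).eq
  have heM : e ∈ M := E.enlarge hN hn hbig (E.hC c₂ hc) hd2 hdV hdne heV hde.symm
  obtain ⟨v, hv, hev⟩ : ∃ v ∈ n.V, e = I v := by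
    by_contra hno
    push Not at hno
    exact hyM (E.enlarge hN hn hbig heM hee heV hno hyV hye)
  rcases Nat.even_or_odd t with ⟨u, hu⟩ | ⟨u, hu⟩
  · have hgg : r ^ u * r ^ u = e := by rw [← pow_add, ← hu]
    have hgV : r ^ u ∈ centV I n := mem_centV.2 fun w hw => ((hrV w hw).pow_left u).eq
    obtain ⟨k, hk, p, hp, hpe⟩ := Sp.into _ hgV ⟨2, by
      calc (r ^ u) ^ 2 ^ 2 = (r ^ u * r ^ u) * (r ^ u * r ^ u) := by simp [pow_succ, mul_assoc]
        _ = 1 := by rw [hgg, hee]⟩
    have hpp : I (mulC p p) = I v := by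
      rw [L.hom _ _ (Sp.mem p hp) (Sp.mem p hp), ← hpe]
      calc k * r ^ u * k⁻¹ * (k * r ^ u * k⁻¹) = k * (r ^ u * r ^ u) * k⁻¹ := by group
        _ = k * I v * k⁻¹ := by rw [hgg, hev]
        _ = I v := by rw [mem_centV.1 hk v hv, mul_inv_cancel_right]
    have hq := L.inj _ _ ((Sp.mem p hp).mul (Sp.mem p hp)) (hmem v hv) hpp
    rcases hno4 p hp with hf | h1'
    · rw [hq, CNode.inV_iff.2 hv] at hf
      exact Bool.noConfusion hf
    · refine he1 ?_
      rw [hev, ← hq, h1', L.map_one]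
  · refine hnf v hv ?_
    have := hconj u
    rw [← hu] at this
    rw [← hev]
    exact this.symm.trans hy

end Emb

end Cfsg.Agent.Fus.SymSix
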