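import Mathlib
import Cfsg.Agent.Lib.Spor.Cos.Words

/-!
# The centralizer of six transpositions in degree twelve, as numbers

A permutation of twelve points commuting with the pairing `x ↦ x xor 1` is stored as the images
of the six even points, four bits each.
-/

set_option autoImplicit false
set_option maxRecDepth 100000

namespace Cfsg.Agent.Fus.SymSix

open Cfsg.Agent.Spor.Cos (force force_eq)

/-- A digit. -/
def nib (c i : ℕ) : ℕ := (c >>> (4 * i)) % 16

/-- The image of a point. -/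
def app (a x : ℕ) : ℕ := Nat.xor (nib a (x / 2)) (x % 2)

/-- Packing six digits. -/
def pk6 (a b c d e f : ℕ) : ℕ := a + 16 * (b + 16 * (c + 16 * (d + 16 * (e + 16 * f))))

/-- The product. -/
def mulC (a b : ℕ) : ℕ := force a fun a => force b fun b =>
  pk6 (app a (nib b 0)) (app a (nib b 1)) (app a (nib b 2)) (app a (nib b 3)) (app a (nib b 4)) (app a (nib b 5))

/-- The identity. -/
def oneC : ℕ := pk6 0 2 4 6 8 10

/-- The six transpositions. -/
def zC : ℕ := pk6 1 3 5 7 9 11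

/-- The product of a list. -/
def prodC : List ℕ → ℕ
  | [] => oneC
  | a :: l => mulC a (prodC l)

/-- The point mapped to an even point. -/
def invAt (c i : ℕ) : ℕ :=
  bif Nat.beq (nib c 0 / 2) i then nib c 0 % 2 else bif Nat.beq (nib c 1 / 2) i then 2 + nib c 1 % 2
  else bif Nat.beq (nib c 2 / 2) i then 4 + nib c 2 % 2 else bif Nat.beq (nib c 3 / 2) i then 6 + nib c 3 % 2
  else bif Nat.beq (nib c 4 / 2) i then 8 + nib c 4 % 2 else 10 + nib c 5 % 2

/-- The inverse. -/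
def invC (c : ℕ) : ℕ := force c fun c =>
  pk6 (invAt c 0) (invAt c 1) (invAt c 2) (invAt c 3) (invAt c 4) (invAt c 5)

/-- The conjugate `h x h⁻¹`. -/
def cjC (h x : ℕ) : ℕ := force h fun h => mulC (mulC h x) (invC h)

/-- The test for being an element. -/
def inH (c : ℕ) : Bool := force c fun c =>
  Nat.blt c (2 ^ 24) && Nat.blt (nib c 0) 12 && Nat.blt (nib c 1) 12 && Nat.blt (nib c 2) 12 &&
    Nat.blt (nib c 3) 12 && Nat.blt (nib c 4) 12 && Nat.blt (nib c 5) 12 &&
    Nat.beq (2 ^ (nib c 0 / 2) ||| 2 ^ (nib c 1 / 2) ||| 2 ^ (nib c 2 / 2) ||| 2 ^ (nib c 3 / 2) |||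
      2 ^ (nib c 4 / 2) ||| 2 ^ (nib c 5 / 2)) 63 &&
    Nat.beq ((nib c 0 + nib c 1 + nib c 2 + nib c 3 + nib c 4 + nib c 5) % 2) 0

/-- Being an element. -/
def Mem (c : ℕ) : Prop := inH c = true

/-- The image of a point, as a function. -/
def appF (c : ℕ) (x : Fin 12) : Fin 12 := ⟨app c x % 12, Nat.mod_lt _ (by norm_num)⟩

theorem nib_lt (c i : ℕ) : nib c i < 16 := Nat.mod_lt _ (by norm_num)

theorem nib_pk6 {a b c d e f : ℕ} (ha : a < 16) (hb : b < 16) (hc : c < 16) (hd : d < 16) (he : e < 16) (hf : f < 16) :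
    nib (pk6 a b c d e f) 0 = a ∧ nib (pk6 a b c d e f) 1 = b ∧ nib (pk6 a b c d e f) 2 = c ∧
      nib (pk6 a b c d e f) 3 = d ∧ nib (pk6 a b c d e f) 4 = e ∧ nib (pk6 a b c d e f) 5 = f := by
  simp only [nib, pk6, Nat.shiftRight_eq_div_pow]
  norm_num
  omega

theorem pk6_nib {c : ℕ} (hc : c < 2 ^ 24) :
    pk6 (nib c 0) (nib c 1) (nib c 2) (nib c 3) (nib c 4) (nib c 5) = c := by
  simp only [nib, pk6, Nat.shiftRight_eq_div_pow]
  norm_num
  omega

theorem app_lt (a x : ℕ) : app a x < 16 :=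
  Nat.xor_lt_two_pow (n := 4) (nib_lt _ _) ((Nat.mod_lt _ (by norm_num)).trans (by norm_num))

theorem nib_mulC (a b : ℕ) {i : ℕ} (hi : i < 6) : nib (mulC a b) i = app a (nib b i) := by
  simp only [mulC, force_eq]
  obtain ⟨h0, h1, h2, h3, h4, h5⟩ := nib_pk6 (app_lt a (nib b 0)) (app_lt a (nib b 1)) (app_lt a (nib b 2))
    (app_lt a (nib b 3)) (app_lt a (nib b 4)) (app_lt a (nib b 5))
  interval_cases i
  exacts [h0, h1, h2, h3, h4, h5]

theorem mulC_lt (a b : ℕ) : mulC a b < 2 ^ 24 := by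
  simp only [mulC, force_eq, pk6]
  have := app_lt a (nib b 0); have := app_lt a (nib b 1); have := app_lt a (nib b 2)
  have := app_lt a (nib b 3); have := app_lt a (nib b 4); have := app_lt a (nib b 5)
  omega

theorem xor_low : ∀ n < 16, ∀ r < 2, Nat.xor n r / 2 = n / 2 ∧ Nat.xor n r % 2 = Nat.xor (n % 2) r := by
  decide +kernel

theorem xor_low' : ∀ v < 16, ∀ s < 2, ∀ r < 2, Nat.xor v (Nat.xor s r) = Nat.xor (Nat.xor v s) r := by
  decide +kernel

theorem app_xor {a n r : ℕ} (hn : n < 16) (hr : r < 2) : app a (Nat.xor n r) = Nat.xor (app a n) r := by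
  obtain ⟨h1, h2⟩ := xor_low n hn r hr
  rw [app, h1, h2, app, xor_low' _ (nib_lt _ _) _ (Nat.mod_lt _ (by norm_num)) r hr]

theorem app_mulC (a b : ℕ) {x : ℕ} (hx : x < 12) : app (mulC a b) x = app a (app b x) := by
  rw [app, nib_mulC a b (by omega)]
  exact (app_xor (nib_lt _ _) (Nat.mod_lt _ (by norm_num))).symm

theorem code_ext {a b : ℕ} (ha : a < 2 ^ 24) (hb : b < 2 ^ 24) (h : ∀ i < 6, nib a i = nib b i) : a = b := by
  rw [← pk6_nib ha, ← pk6_nib hb, h 0, h 1, h 2, h 3, h 4, h 5] <;> norm_num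

theorem app_even (c i : ℕ) : app c (2 * i) = nib c i := by
  rw [app, Nat.mul_div_cancel_left _ (by norm_num), Nat.mul_mod_right]
  exact Nat.xor_zero _

theorem nib_one : ∀ i < 6, nib oneC i = 2 * i := by decide +kernel

theorem app_one : ∀ x < 12, app oneC x = x := by decide +kernel

theorem app_z : ∀ x < 12, app zC x = Nat.xor x 1 := by decide +kernel

namespace Mem

variable {c : ℕ} (h : Mem c)
include h

theorem lt : c < 2 ^ 24 := by
  simp only [Mem, inH, force_eq, Bool.and_eq_true, Nat.blt_eq] at h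
  exact h.1.1.1.1.1.1.1.1

theorem nib_lt12 {i : ℕ} (hi : i < 6) : nib c i < 12 := by
  simp only [Mem, inH, force_eq, Bool.and_eq_true, Nat.blt_eq] at h
  obtain ⟨⟨⟨⟨⟨⟨⟨⟨-, h0⟩, h1⟩, h2⟩, h3⟩, h4⟩, h5⟩, -⟩, -⟩ := h
  interval_cases i <;> assumption

theorem app_lt12 {x : ℕ} (hx : x < 12) : app c x < 12 := by
  have h1 := h.nib_lt12 (i := x / 2) (by omega)
  have h2 : ∀ n < 12, ∀ r < 2, Nat.xor n r < 12 := by decide +kernel
  exact h2 _ h1 _ (Nat.mod_lt _ (by norm_num))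

theorem mul_one : mulC c oneC = c :=
  code_ext (mulC_lt _ _) h.lt fun i hi => by rw [nib_mulC _ _ hi, nib_one i hi, app_even]

theorem one_mul : mulC oneC c = c :=
  code_ext (mulC_lt _ _) h.lt fun i hi => by rw [nib_mulC _ _ hi, app_one _ (h.nib_lt12 hi)]

end Mem

theorem mulC_assoc {a b c : ℕ} (hb : Mem b) (hc : Mem c) : mulC (mulC a b) c = mulC a (mulC b c) :=
  code_ext (mulC_lt _ _) (mulC_lt _ _) fun i hi => by
    rw [nib_mulC _ _ hi, nib_mulC _ _ hi, nib_mulC _ _ hi, app_mulC _ _ (hc.nib_lt12 hi)]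

/-- The halves of the images of the even points. -/
def halfF (c : ℕ) (i : Fin 6) : Fin 6 := ⟨nib c i / 2 % 6, Nat.mod_lt _ (by norm_num)⟩

theorem or_inj : ∀ a b c d e f : Fin 6,
    2 ^ (a : ℕ) ||| 2 ^ (b : ℕ) ||| 2 ^ (c : ℕ) ||| 2 ^ (d : ℕ) ||| 2 ^ (e : ℕ) ||| 2 ^ (f : ℕ) = 63 →
      ∀ i j : Fin 6, (![a, b, c, d, e, f] i) = ![a, b, c, d, e, f] j → i = j := by decide +kernel

theorem Mem.halfF_inj {c : ℕ} (h : Mem c) : Function.Injective (halfF c) := by
  have hm : ∀ i : Fin 6, (halfF c i : ℕ) = nib c i / 2 := fun i => by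
    have := h.nib_lt12 i.2
    show nib c i / 2 % 6 = nib c i / 2
    omega
  have hh := h
  simp only [Mem, inH, force_eq, Bool.and_eq_true, Nat.beq_eq] at hh
  have hd := or_inj (halfF c 0) (halfF c 1) (halfF c 2) (halfF c 3) (halfF c 4) (halfF c 5)
    (by simp only [hm]; exact hh.1.2)
  have hv : ![halfF c 0, halfF c 1, halfF c 2, halfF c 3, halfF c 4, halfF c 5] = halfF c := by
    funext i; fin_cases i <;> rfl
  rw [hv] at hd
  exact hd

theorem Mem.app_inj {c : ℕ} (h : Mem c) : Function.Injective (appF c) := by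
  intro x y e
  have hx := h.app_lt12 x.2; have hy := h.app_lt12 y.2
  have e' : app c x = app c y := by
    have := congrArg Fin.val e
    simp only [appF] at this
    omega
  have key : ∀ (n m : Fin 12) (r s : Fin 2), Nat.xor n r = Nat.xor m s →
      (n : ℕ) / 2 = (m : ℕ) / 2 ∧ ((n : ℕ) = m → (r : ℕ) = s) := by decide +kernel
  obtain ⟨h1, h2⟩ := key ⟨_, h.nib_lt12 (i := x / 2) (by omega)⟩ ⟨_, h.nib_lt12 (i := y / 2) (by omega)⟩
    ⟨x % 2, Nat.mod_lt _ (by norm_num)⟩ ⟨y % 2, Nat.mod_lt _ (by norm_num)⟩ e'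
  have hi : (x : ℕ) / 2 = y / 2 := by
    have := h.halfF_inj (a₁ := ⟨x / 2, by omega⟩) (a₂ := ⟨y / 2, by omega⟩) (Fin.ext (by
      show nib c (x / 2) / 2 % 6 = nib c (y / 2) / 2 % 6
      rw [h1]))
    exact congrArg Fin.val this
  have h3 : (x : ℕ) % 2 = (y : ℕ) % 2 := h2 (by simp [hi])
  exact Fin.ext (by omega)

/-- The permutation of an element. -/
noncomputable def toPerm (c : ℕ) : Equiv.Perm (Fin 12) :=
  open Classical in if h : Mem c then Equiv.ofBijective (appF c) (Finite.injective_iff_bijective.1 h.app_inj) else 1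

theorem toPerm_apply {c : ℕ} (h : Mem c) (x : Fin 12) : (toPerm c x : ℕ) = app c x := by
  rw [toPerm, dif_pos h]
  exact Nat.mod_eq_of_lt (h.app_lt12 x.2)

theorem toPerm_inj {a b : ℕ} (ha : Mem a) (hb : Mem b) (h : toPerm a = toPerm b) : a = b :=
  code_ext ha.lt hb.lt fun i hi => by
    rw [← app_even, ← app_even, ← toPerm_apply ha ⟨2 * i, by omega⟩, h, toPerm_apply hb]

theorem xor_one : ∀ n < 16, Nat.xor n 1 < 16 ∧ Nat.xor (Nat.xor n 1) 1 = n := by decide +kernel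

/-- The sign is the parity of the low bits. -/
theorem sign_of_shape {σ : Equiv.Perm (Fin 12)} (π : Equiv.Perm (Fin 6)) (f : Fin 6 → Equiv.Perm (Fin 2))
    (h : ∀ i r, σ ((finProdFinEquiv : Fin 6 × Fin 2 ≃ Fin 12) (i, r)) = finProdFinEquiv (π i, f i r)) :
    Equiv.Perm.sign σ = ∏ i, Equiv.Perm.sign (f i) := by
  have e : σ = (finProdFinEquiv : Fin 6 × Fin 2 ≃ Fin 12).permCongr
      ((Equiv.prodCongrLeft fun _ : Fin 2 => π) * Equiv.prodCongrRight f) := by
    refine Equiv.ext fun x => ?_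
    obtain ⟨⟨i, r⟩, rfl⟩ := (finProdFinEquiv : Fin 6 × Fin 2 ≃ Fin 12).surjective x
    rw [Equiv.permCongr_apply, Equiv.symm_apply_apply, h]
    rfl
  rw [e, Equiv.Perm.sign_permCongr, map_mul, Equiv.Perm.sign_prodCongrLeft, Equiv.Perm.sign_prodCongrRight,
    Fin.prod_univ_two, Int.units_mul_self, one_mul]

end Cfsg.Agent.Fus.SymSix
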