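import Cfsg.Agent.Lib.Fus.SymSix.Fusion
import Cfsg.Agent.Lib.Invol.IsolatedFactor
import Cfsg.Prelude.Def_CaseTheorems

/-!
# The case of an isolated involution
-/

set_option autoImplicit false
set_option maxRecDepth 100000
set_option Elab.async false

namespace Cfsg.Agent.Fus.SymSix

/-- Five flips generating the normal elementary group. -/
def flipFive : List ℕ :=
  [oneC + 17, oneC + 272, oneC + 4352, oneC + 69632, oneC + 1114112]

/-- A commutator with a flip. -/
def flipComm (c e : ℕ) : ℕ := mulC (cjC c e) e

/-- The check at one number: an involution, or a nontrivial commutator of order two with some flip. -/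
def coreAt (c : ℕ) : Bool :=
  Nat.beq (mulC c c) oneC || flipFive.any fun e =>
    !Nat.beq (flipComm c e) oneC && Nat.beq (mulC (flipComm c e) (flipComm c e)) oneC

theorem flipFive_ok : (flipFive.all fun e => inH e && Nat.beq (mulC e e) oneC) = true := by decide +kernel

theorem core_part0 : (((halvesList.drop 0).take 60).all fun p => flipList.all fun f => coreAt (p + f)) = true := by
  decide +kernel

theorem core_part1 : (((halvesList.drop 60).take 60).all fun p => flipList.all fun f => coreAt (p + f)) = true := by
  decide +kernel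

theorem core_part2 : (((halvesList.drop 120).take 60).all fun p => flipList.all fun f => coreAt (p + f)) = true := by
  decide +kernel

theorem core_part3 : (((halvesList.drop 180).take 60).all fun p => flipList.all fun f => coreAt (p + f)) = true := by
  decide +kernel

theorem core_part4 : (((halvesList.drop 240).take 60).all fun p => flipList.all fun f => coreAt (p + f)) = true := by
  decide +kernel

theorem core_part5 : (((halvesList.drop 300).take 60).all fun p => flipList.all fun f => coreAt (p + f)) = true := by
  decide +kernel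

theorem core_part6 : (((halvesList.drop 360).take 60).all fun p => flipList.all fun f => coreAt (p + f)) = true := by
  decide +kernel

theorem core_part7 : (((halvesList.drop 420).take 60).all fun p => flipList.all fun f => coreAt (p + f)) = true := by
  decide +kernel

theorem core_part8 : (((halvesList.drop 480).take 60).all fun p => flipList.all fun f => coreAt (p + f)) = true := by
  decide +kernel

theorem core_part9 : (((halvesList.drop 540).take 60).all fun p => flipList.all fun f => coreAt (p + f)) = true := by
  decide +kernel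

theorem core_part10 : (((halvesList.drop 600).take 60).all fun p => flipList.all fun f => coreAt (p + f)) = true := by
  decide +kernel

theorem core_part11 : (((halvesList.drop 660).take 60).all fun p => flipList.all fun f => coreAt (p + f)) = true := by
  decide +kernel

theorem core_all {c : ℕ} (hc : Mem c) : coreAt c = true :=
  all_elems (fun j hj => by interval_cases j; exacts [core_part0, core_part1, core_part2, core_part3, core_part4, core_part5, core_part6, core_part7, core_part8, core_part9, core_part10, core_part11]) c hc

namespace Loc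

variable {G : Type*} [Group G] {z : G} {I : ℕ → G} (L : Loc z I)
include L

omit L in
theorem eq_one_of_sq_mem {N : Subgroup G} [Finite G] (hN : Odd (Nat.card N)) {d : G} (hd : d ∈ N) (h2 : d * d = 1) :
    d = 1 := by
  have h1 : orderOf d ∣ Nat.card N := by rw [← Subgroup.orderOf_mk d hd]; exact orderOf_dvd_natCard _
  have h := pow_gcd_eq_one.2 ⟨(pow_two d).trans h2, orderOf_dvd_iff_pow_eq_one.1 h1⟩
  rwa [show Nat.gcd 2 (Nat.card N) = 1 from (Nat.coprime_two_left.2 hN), pow_one] at h

/-- The odd core meets the centralizer trivially. -/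
theorem core_inter [Finite G] {x : G} (hx : x ∈ Cfsg.oddCore G) (hxz : x * z = z * x) : x = 1 := by
  obtain ⟨c, hc, rfl⟩ := (L.range x).1 hxz
  have hodd : Odd (Nat.card (Cfsg.oddCore G)) := Cfsg.Agent.Invol.odd_oddCore
  haveI hN : (Cfsg.oddCore G).Normal := Cfsg.Agent.Grp.pPrimeCore_isNormal
  have h := core_all hc
  simp only [coreAt, Bool.or_eq_true, Bool.and_eq_true, Bool.not_eq_true', List.any_eq_true, Nat.beq_eq] at h
  rcases h with h | ⟨e, he, hne, h2⟩
  · exact eq_one_of_sq_mem hodd hx (by rw [← L.hom _ _ hc hc, h, L.map_one])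
  · exfalso
    have := List.all_eq_true.1 flipFive_ok e he
    simp only [Bool.and_eq_true, Nat.beq_eq] at this
    obtain ⟨hem, hee⟩ := this
    replace hem : Mem e := hem
    have hd : Mem (flipComm c e) := (Mem.cj hc hem).mul hem
    have hI : I (flipComm c e) = I c * (I e * (I c)⁻¹ * (I e)⁻¹) := by
      rw [flipComm, L.hom _ _ (Mem.cj hc hem) hem, L.map_cj hc hem,
        show (I e)⁻¹ = I e from inv_eq_of_mul_eq_one_left (by rw [← L.hom _ _ hem hem, hee, L.map_one])]
      group
    have hmem : I (flipComm c e) ∈ Cfsg.oddCore G :=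
      hI ▸ mul_mem hx (hN.conj_mem _ (inv_mem hx) _)
    have h1 := eq_one_of_sq_mem hodd hmem (by rw [← L.hom _ _ hd hd, h2, L.map_one])
    rw [L.eq_one_iff hd] at h1
    rw [h1] at hne
    simp at hne

/-- An isolated involution. -/
theorem isolated [Finite G] (hno : ∀ i < noVal, i ≠ 0 → ¬ IsConj (I (repC i)) z) :
    Cfsg.IsIsolatedInvolution z := by
  refine ⟨L.orderOf_z, fun g hg => ?_⟩
  obtain ⟨c, hc, e⟩ := (L.range _).1 hg.eq.symm
  have hcz : IsConj (I c) z := by rw [e]; exact (isConj_iff.2 ⟨g, rfl⟩ : IsConj z _).symm
  obtain ⟨hlt, hF⟩ := (L.fused_cls hc).1 hcz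
  rcases eq_or_ne (clsF c) 0 with h | h
  · obtain ⟨-, h1, h2⟩ := clsF_none hlt
    obtain ⟨-, k, hk, hkc⟩ := cls_spec hc h1 h2
    rw [h, repC_zero] at hkc
    rw [← e, ← hkc, L.map_cj hk mem_z, L.map_z, L.comm_z hk, mul_inv_cancel_right]
  · exact absurd hF (hno _ hlt h)

/-- Nothing fused: the group is the odd core times the centralizer, the core being abelian. -/
theorem degenerate [Finite G] (hno : ∀ i < noVal, i ≠ 0 → ¬ IsConj (I (repC i)) z) :
    Cfsg.oddCore G ⊔ Subgroup.centralizer ({z} : Set G) = ⊤ ∧ IsMulCommutative ↥(Cfsg.oddCore G) := by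
  have hiso := L.isolated hno
  constructor
  · refine eq_top_iff.2 fun g _ => ?_
    obtain ⟨k, -, -, hk, hkg⟩ := Cfsg.Agent.Invol.isolated_exists_factor hiso g
    rw [show g = k * (k⁻¹ * g) by group]
    exact mul_mem (Subgroup.mem_sup_left hk) (Subgroup.mem_sup_right hkg)
  · haveI hN : (Cfsg.oddCore G).Normal := Cfsg.Agent.Grp.pPrimeCore_isNormal
    let φ : MulAut (Cfsg.oddCore G) := MulAut.conjNormal z
    have hval : ∀ x, ((φ x : Cfsg.oddCore G) : G) = z * x * z⁻¹ := fun x => MulAut.conjNormal_apply z x
    have hfp : MonoidHom.FixedPointFree φ := fun x hx => by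
      have h := congrArg Subtype.val hx
      rw [hval] at h
      exact Subtype.ext (L.core_inter x.2 (mul_inv_eq_iff_eq_mul.1 h).symm)
    have hinv : Function.Involutive φ := fun x => Subtype.ext (by
      rw [hval, hval, show z * (z * (x : G) * z⁻¹) * z⁻¹ = (z * z) * x * (z * z)⁻¹ by group, L.mul_self_z]
      group)
    exact ⟨⟨fun a b => hfp.commute_all_of_involutive hinv a b⟩⟩

end Loc

end Cfsg.Agent.Fus.SymSix
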