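import Cfsg.Agent.Lib.Fus.SymSix.Code

/-!
# The numbers are the centralizer in the alternating group
-/

set_option autoImplicit false
set_option maxRecDepth 100000
set_option Elab.async false

namespace Cfsg.Agent.Fus.SymSix

open Cfsg.Agent.Spor.Cos (force force_eq)

/-- The product of six transpositions. -/
def z0 : Equiv.Perm (Fin 12) :=
  Equiv.swap (0 : Fin 12) 1 * Equiv.swap (2 : Fin 12) 3 * Equiv.swap (4 : Fin 12) 5 * Equiv.swap (6 : Fin 12) 7 *
    Equiv.swap (8 : Fin 12) 9 * Equiv.swap (10 : Fin 12) 11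

/-- The centralizer. -/
abbrev C12 : Subgroup (Equiv.Perm (Fin 12)) := alternatingGroup (Fin 12) ⊓ Subgroup.centralizer ({z0} : Set (Equiv.Perm (Fin 12)))

theorem z0_apply : ∀ x : Fin 12, (z0 x : ℕ) = Nat.xor x 1 := by decide +kernel

theorem pair_val : ∀ (n : Fin 12) (r : Fin 2),
    Nat.xor n r = ((if (n : ℕ) % 2 = 1 then Equiv.swap (0 : Fin 2) 1 else 1) r : ℕ) + 2 * ((n : ℕ) / 2) := by
  decide +kernel

theorem sign_count : ∀ l : Fin 6 → Fin 2, (∏ i, Equiv.Perm.sign (if (l i : ℕ) = 1 then Equiv.swap (0 : Fin 2) 1 else 1)) =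
    if (∑ i, (l i : ℕ)) % 2 = 0 then 1 else -1 := by decide +kernel

theorem xor_swap : ∀ x : Fin 12, Nat.xor x 1 / 2 = (x : ℕ) / 2 ∧ Nat.xor x 1 % 2 = Nat.xor ((x : ℕ) % 2) 1 ∧
    Nat.xor x 1 < 12 := by decide +kernel

theorem pk6_lt {a b c d e f : ℕ} (ha : a < 16) (hb : b < 16) (hc : c < 16) (hd : d < 16) (he : e < 16) (hf : f < 16) :
    pk6 a b c d e f < 2 ^ 24 := by simp only [pk6]; omega

theorem or_check : ((List.range 6).all fun a => ((List.range 6).filter fun b => !Nat.beq b a).all fun b =>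
    ((List.range 6).filter fun c => !Nat.beq c a && !Nat.beq c b).all fun c =>
      ((List.range 6).filter fun d => !Nat.beq d a && !Nat.beq d b && !Nat.beq d c).all fun d =>
        ((List.range 6).filter fun e => !Nat.beq e a && !Nat.beq e b && !Nat.beq e c && !Nat.beq e d).all fun e =>
          ((List.range 6).filter fun f =>
              !Nat.beq f a && !Nat.beq f b && !Nat.beq f c && !Nat.beq f d && !Nat.beq f e).all fun f =>
            Nat.beq (2 ^ a ||| 2 ^ b ||| 2 ^ c ||| 2 ^ d ||| 2 ^ e ||| 2 ^ f) 63) = true := by decide +kernel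

theorem or_full {v : Fin 6 → Fin 6} (hv : Function.Injective v) :
    2 ^ (v 0 : ℕ) ||| 2 ^ (v 1 : ℕ) ||| 2 ^ (v 2 : ℕ) ||| 2 ^ (v 3 : ℕ) ||| 2 ^ (v 4 : ℕ) ||| 2 ^ (v 5 : ℕ) = 63 := by
  have hne : ∀ i j : Fin 6, i ≠ j → (v i : ℕ) ≠ v j := fun i j h e => h (hv (Fin.ext e))
  have h := or_check
  simp only [List.all_eq_true, List.mem_filter, List.mem_range, Bool.and_eq_true, Bool.not_eq_true',
    ← Bool.not_eq_true, Nat.beq_eq] at h
  exact h _ (v 0).2 _ ⟨(v 1).2, hne 1 0 (by decide)⟩ _ ⟨(v 2).2, hne 2 0 (by decide), hne 2 1 (by decide)⟩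
    _ ⟨(v 3).2, ⟨hne 3 0 (by decide), hne 3 1 (by decide)⟩, hne 3 2 (by decide)⟩
    _ ⟨(v 4).2, ⟨⟨hne 4 0 (by decide), hne 4 1 (by decide)⟩, hne 4 2 (by decide)⟩, hne 4 3 (by decide)⟩
    _ ⟨(v 5).2, ⟨⟨⟨hne 5 0 (by decide), hne 5 1 (by decide)⟩, hne 5 2 (by decide)⟩, hne 5 3 (by decide)⟩, hne 5 4 (by decide)⟩

/-- The sign of a permutation with the shape of an element. -/
theorem sign_app {σ : Equiv.Perm (Fin 12)} {c : ℕ} (hlt : ∀ i < 6, nib c i < 12)
    (hinj : Function.Injective (halfF c)) (h : ∀ x, (σ x : ℕ) = app c x) :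
    Equiv.Perm.sign σ = if (∑ i : Fin 6, nib c i % 2) % 2 = 0 then 1 else -1 := by
  have hs := sign_of_shape (σ := σ) (Equiv.ofBijective _ (Finite.injective_iff_bijective.1 hinj))
    (fun i => if nib c i % 2 = 1 then Equiv.swap (0 : Fin 2) 1 else 1) fun i r => Fin.ext (by
      rw [h]
      have e := pair_val ⟨nib c i, hlt i i.2⟩ r
      have h1 : ((finProdFinEquiv (i, r) : Fin 12) : ℕ) = (r : ℕ) + 2 * i := rfl
      rw [h1, app, show ((r : ℕ) + 2 * i) / 2 = i by omega, show ((r : ℕ) + 2 * i) % 2 = r by omega]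
      refine e.trans ?_
      show _ + _ = _ + 2 * (nib c i / 2 % 6)
      rw [Nat.mod_eq_of_lt (show nib c i / 2 < 6 by have := hlt i i.2; omega)])
  rw [hs]
  exact sign_count fun i => ⟨nib c i % 2, Nat.mod_lt _ (by norm_num)⟩

theorem Mem.parity {c : ℕ} (h : Mem c) : (∑ i : Fin 6, nib c i % 2) % 2 = 0 := by
  simp only [Mem, inH, force_eq, Bool.and_eq_true, Nat.beq_eq] at h
  rw [Fin.sum_univ_six]
  have := h.2
  simp only [Fin.val_zero, Fin.val_one, Fin.val_two]
  show (nib c 0 % 2 + nib c 1 % 2 + nib c 2 % 2 + nib c 3 % 2 + nib c 4 % 2 + nib c 5 % 2) % 2 = 0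
  omega

theorem Mem.toPerm_mem {c : ℕ} (h : Mem c) : toPerm c ∈ C12 := by
  refine ⟨Equiv.Perm.mem_alternatingGroup.2 ?_, Subgroup.mem_centralizer_singleton_iff.2 ?_⟩
  · rw [sign_app (fun i hi => h.nib_lt12 hi) h.halfF_inj (toPerm_apply h), if_pos h.parity]
  · refine Equiv.ext fun x => Fin.ext ?_
    simp only [Equiv.Perm.mul_apply, toPerm_apply h, z0_apply]
    obtain ⟨h1, h2, -⟩ := xor_swap x
    rw [app, h1, h2, app, xor_low' _ (nib_lt _ _) _ (Nat.mod_lt _ (by norm_num)) 1 (by norm_num)]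

theorem exists_code {σ : Equiv.Perm (Fin 12)} (hσ : σ ∈ C12) : ∃ c, Mem c ∧ toPerm c = σ := by
  obtain ⟨hsign, hcomm⟩ := hσ
  replace hsign : Equiv.Perm.sign σ = 1 := Equiv.Perm.mem_alternatingGroup.1 hsign
  have hz : ∀ x, σ (z0 x) = z0 (σ x) := fun x => by
    have := Subgroup.mem_centralizer_singleton_iff.1 hcomm
    exact congrArg (fun e : Equiv.Perm (Fin 12) => e x) this
  set v : Fin 6 → ℕ := fun i => σ ⟨2 * i, by omega⟩
  set c := pk6 (v 0) (v 1) (v 2) (v 3) (v 4) (v 5)
  have hv : ∀ i, v i < 16 := fun i => (Fin.is_lt _).trans (by norm_num)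
  obtain ⟨n0, n1, n2, n3, n4, n5⟩ := nib_pk6 (hv 0) (hv 1) (hv 2) (hv 3) (hv 4) (hv 5)
  have hn : ∀ i : Fin 6, nib c i = v i := fun i => by fin_cases i <;> assumption
  have happ : ∀ x, (σ x : ℕ) = app c x := by
    intro x
    rw [app, show nib c ((x : ℕ) / 2) = v ⟨(x : ℕ) / 2, by omega⟩ from hn ⟨_, _⟩]
    have hk : (x : ℕ) / 2 < 6 := by omega
    rcases Nat.mod_two_eq_zero_or_one (x : ℕ) with e | e
    · have hx : x = ⟨2 * ((x : ℕ) / 2), by omega⟩ := Fin.ext (by show (x : ℕ) = 2 * ((x : ℕ) / 2); omega)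
      rw [e]
      exact (congrArg (fun y => (σ y : ℕ)) hx).trans (Nat.xor_zero _).symm
    · have hx : x = z0 ⟨2 * ((x : ℕ) / 2), by omega⟩ := Fin.ext (by
        rw [z0_apply]
        have : ∀ i < 6, Nat.xor (2 * i) 1 = 2 * i + 1 := by decide +kernel
        rw [this _ hk]; omega)
      rw [e]
      conv_lhs => rw [hx, hz, z0_apply]
  have hlt : ∀ i < 6, nib c i < 12 := fun i hi => by rw [hn ⟨i, hi⟩]; exact Fin.is_lt _
  have hinj : Function.Injective (halfF c) := by
    intro i j e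
    have e' : v i / 2 = v j / 2 := by
      have := congrArg Fin.val e
      simp only [halfF, hn] at this
      have := hlt i i.2; have := hlt j j.2
      rw [hn] at *
      omega
    rcases Nat.lt_trichotomy (v i) (v j) with h | h | h
    · exfalso
      have he : σ ⟨2 * j, by omega⟩ = σ (z0 ⟨2 * i, by omega⟩) := by
        rw [hz]; refine Fin.ext ?_
        rw [z0_apply]
        have : ∀ a < 12, ∀ b < 12, a < b → a / 2 = b / 2 → b = Nat.xor a 1 := by decide +kernel
        exact this _ (Fin.is_lt _) _ (Fin.is_lt _) h e'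
      have := congrArg Fin.val (σ.injective he)
      rw [z0_apply] at this
      have h2 : ∀ a < 6, ∀ b < 6, 2 * b ≠ Nat.xor (2 * a) 1 := by decide +kernel
      exact h2 _ i.2 _ j.2 this
    · exact Fin.ext (by
        have := congrArg Fin.val (σ.injective (a₁ := ⟨2 * i, by omega⟩) (a₂ := ⟨2 * j, by omega⟩) (Fin.ext h))
        simp at this; omega)
    · exfalso
      have he : σ ⟨2 * i, by omega⟩ = σ (z0 ⟨2 * j, by omega⟩) := by
        rw [hz]; refine Fin.ext ?_
        rw [z0_apply]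
        have : ∀ a < 12, ∀ b < 12, a < b → a / 2 = b / 2 → b = Nat.xor a 1 := by decide +kernel
        exact this _ (Fin.is_lt _) _ (Fin.is_lt _) h e'.symm
      have := congrArg Fin.val (σ.injective he)
      rw [z0_apply] at this
      have h2 : ∀ a < 6, ∀ b < 6, 2 * b ≠ Nat.xor (2 * a) 1 := by decide +kernel
      exact h2 _ j.2 _ i.2 this
  have hpar : (∑ i : Fin 6, nib c i % 2) % 2 = 0 := by
    by_contra hp
    rw [sign_app hlt hinj happ, if_neg hp] at hsign
    exact absurd hsign (by decide)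
  have hm : Mem c := by
    have hor := or_full hinj
    have hm6 : ∀ i : Fin 6, (halfF c i : ℕ) = nib c i / 2 := fun i => by
      have := hlt i i.2
      show nib c i / 2 % 6 = nib c i / 2
      omega
    simp only [hm6] at hor
    rw [Fin.sum_univ_six] at hpar
    simp only [Mem, inH, force_eq, Bool.and_eq_true, Nat.blt_eq, Nat.beq_eq]
    refine ⟨⟨⟨⟨⟨⟨⟨⟨pk6_lt (hv 0) (hv 1) (hv 2) (hv 3) (hv 4) (hv 5), hlt 0 (by norm_num)⟩, hlt 1 (by norm_num)⟩,
      hlt 2 (by norm_num)⟩, hlt 3 (by norm_num)⟩, hlt 4 (by norm_num)⟩, hlt 5 (by norm_num)⟩, hor⟩, ?_⟩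
    change (nib c 0 % 2 + nib c 1 % 2 + nib c 2 % 2 + nib c 3 % 2 + nib c 4 % 2 + nib c 5 % 2) % 2 = 0 at hpar
    omega
  exact ⟨c, hm, Equiv.ext fun x => Fin.ext (by rw [toPerm_apply hm, happ])⟩

theorem mem_one : Mem oneC := by unfold Mem; decide +kernel

theorem mem_z : Mem zC := by unfold Mem; decide +kernel

theorem toPerm_one : toPerm oneC = 1 :=
  Equiv.ext fun x => Fin.ext (by rw [toPerm_apply mem_one, app_one _ x.2]; rfl)

theorem toPerm_z : toPerm zC = z0 :=
  Equiv.ext fun x => Fin.ext (by rw [toPerm_apply mem_z, app_z _ x.2, z0_apply])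

theorem Mem.mul_spec {a b : ℕ} (ha : Mem a) (hb : Mem b) : Mem (mulC a b) ∧ toPerm (mulC a b) = toPerm a * toPerm b := by
  obtain ⟨c, hc, e⟩ := exists_code (mul_mem ha.toPerm_mem hb.toPerm_mem)
  have : mulC a b = c := code_ext (mulC_lt _ _) hc.lt fun i hi => by
    rw [nib_mulC _ _ hi, ← app_even b, ← app_even c, ← toPerm_apply hb ⟨2 * i, by omega⟩,
      ← toPerm_apply ha (toPerm b _), ← toPerm_apply hc ⟨2 * i, by omega⟩, e]
    rfl
  exact this ▸ ⟨hc, e⟩

theorem Mem.mul {a b : ℕ} (ha : Mem a) (hb : Mem b) : Mem (mulC a b) := (ha.mul_spec hb).1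

theorem toPerm_mul {a b : ℕ} (ha : Mem a) (hb : Mem b) : toPerm (mulC a b) = toPerm a * toPerm b :=
  (ha.mul_spec hb).2

theorem Mem.comm_z {c : ℕ} (h : Mem c) : mulC c zC = mulC zC c :=
  toPerm_inj (h.mul mem_z) (mem_z.mul h) (by
    rw [toPerm_mul h mem_z, toPerm_mul mem_z h, toPerm_z]
    exact Subgroup.mem_centralizer_singleton_iff.1 h.toPerm_mem.2)

theorem Mem.inv_spec {c : ℕ} (h : Mem c) : Mem (invC c) ∧ toPerm (invC c) = (toPerm c)⁻¹ := by
  obtain ⟨d, hd, e⟩ := exists_code (inv_mem h.toPerm_mem)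
  have happ : ∀ i < 6, invAt c i = app d (2 * i) := fun i hi => by
    have hinv : app c (app d (2 * i)) = 2 * i := by
      rw [← app_mulC c d (show 2 * i < 12 by omega), ← toPerm_apply (h.mul hd) ⟨2 * i, by omega⟩,
        toPerm_mul h hd, e, mul_inv_cancel]
      rfl
    have hlt := hd.app_lt12 (x := 2 * i) (by omega)
    generalize app d (2 * i) = y at hinv hlt ⊢
    have key : ∀ n < 12, ∀ r < 2, Nat.xor n r % 2 = 0 → Nat.xor n r / 2 = n / 2 ∧ n % 2 = r := by decide +kernel
    rw [app] at hinv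
    obtain ⟨h1, h2⟩ := key _ (h.nib_lt12 (i := y / 2) (by omega)) (y % 2) (Nat.mod_lt _ (by norm_num))
      (by rw [hinv]; omega)
    rw [hinv, Nat.mul_div_cancel_left _ (by norm_num)] at h1
    have hinj : ∀ j < 6, nib c j / 2 = i → j = y / 2 := fun j hj e' => by
      have := @Mem.halfF_inj c h ⟨j, hj⟩ ⟨y / 2, by omega⟩ (Fin.ext (by
        show nib c j / 2 % 6 = nib c (y / 2) / 2 % 6
        rw [e', ← h1]))
      exact congrArg Fin.val this
    have hb : ∀ j < 6, Nat.beq (nib c j / 2) i = decide (j = y / 2) := fun j hj => by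
      rw [Bool.eq_iff_iff, Nat.beq_eq, decide_eq_true_iff]
      exact ⟨hinj j hj, fun e' => e' ▸ h1.symm⟩
    simp only [invAt, hb 0 (by norm_num), hb 1 (by norm_num), hb 2 (by norm_num), hb 3 (by norm_num), hb 4 (by norm_num)]
    have hy : y = 2 * (y / 2) + nib c (y / 2) % 2 := by rw [h2]; omega
    obtain ⟨k, hk⟩ : ∃ k, y / 2 = k := ⟨_, rfl⟩
    have : k < 6 := by omega
    rw [hk] at hy ⊢
    interval_cases k <;> simp <;> omega
  have : invC c = d := code_ext (by
      simp only [invC, force_eq]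
      exact pk6_lt (by rw [happ 0 (by norm_num)]; exact app_lt _ _) (by rw [happ 1 (by norm_num)]; exact app_lt _ _)
        (by rw [happ 2 (by norm_num)]; exact app_lt _ _) (by rw [happ 3 (by norm_num)]; exact app_lt _ _)
        (by rw [happ 4 (by norm_num)]; exact app_lt _ _) (by rw [happ 5 (by norm_num)]; exact app_lt _ _)) hd.lt
    fun i hi => by
      simp only [invC, force_eq, happ 0 (by norm_num), happ 1 (by norm_num), happ 2 (by norm_num),
        happ 3 (by norm_num), happ 4 (by norm_num), happ 5 (by norm_num)]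
      obtain ⟨n0, n1, n2, n3, n4, n5⟩ := nib_pk6 (app_lt d (2 * 0)) (app_lt d (2 * 1)) (app_lt d (2 * 2))
        (app_lt d (2 * 3)) (app_lt d (2 * 4)) (app_lt d (2 * 5))
      rw [← app_even d i]
      interval_cases i <;> assumption
  exact this ▸ ⟨hd, e⟩

theorem Mem.inv {c : ℕ} (h : Mem c) : Mem (invC c) := h.inv_spec.1

theorem Mem.mul_inv {c : ℕ} (h : Mem c) : mulC c (invC c) = oneC :=
  toPerm_inj (h.mul h.inv) mem_one (by rw [toPerm_mul h h.inv, h.inv_spec.2, mul_inv_cancel, toPerm_one])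

theorem Mem.inv_mul {c : ℕ} (h : Mem c) : mulC (invC c) c = oneC :=
  toPerm_inj (h.inv.mul h) mem_one (by rw [toPerm_mul h.inv h, h.inv_spec.2, inv_mul_cancel, toPerm_one])

theorem Mem.cj {h x : ℕ} (hh : Mem h) (hx : Mem x) : Mem (cjC h x) := by
  rw [cjC, force_eq]; exact (hh.mul hx).mul hh.inv

/-- The six distinct halves. -/
def halvesList : List ℕ :=
  (List.range 6).flatMap fun a => ((List.range 6).filter fun b => !Nat.beq b a).flatMap fun b =>
    ((List.range 6).filter fun c => !Nat.beq c a && !Nat.beq c b).flatMap fun c =>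
      ((List.range 6).filter fun d => !Nat.beq d a && !Nat.beq d b && !Nat.beq d c).flatMap fun d =>
        ((List.range 6).filter fun e => !Nat.beq e a && !Nat.beq e b && !Nat.beq e c && !Nat.beq e d).map fun e =>
          pk6 (2 * a) (2 * b) (2 * c) (2 * d) (2 * e) (2 * (15 - a - b - c - d - e))

/-- The flips of even weight. -/
def flipList : List ℕ :=
  (List.range 32).map fun m =>
    pk6 (m % 2) (m / 2 % 2) (m / 4 % 2) (m / 8 % 2) (m / 16 % 2) ((m % 2 + m / 2 % 2 + m / 4 % 2 + m / 8 % 2 + m / 16 % 2) % 2)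

/-- The elements. -/
def elems : List ℕ := halvesList.flatMap fun p => flipList.map fun f => p + f

theorem pk6_split (a b c d e f : ℕ) :
    pk6 (2 * (a / 2)) (2 * (b / 2)) (2 * (c / 2)) (2 * (d / 2)) (2 * (e / 2)) (2 * (f / 2)) +
      pk6 (a % 2) (b % 2) (c % 2) (d % 2) (e % 2) (f % 2) = pk6 a b c d e f := by
  simp only [pk6]; omega

theorem sub15 {a b c d e f : ℕ} (h : a + b + c + d + e + f = 15) : 15 - a - b - c - d - e = f := by omega

theorem Mem.mem_elems {c : ℕ} (h : Mem c) : c ∈ elems := by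
  have hinj := h.halfF_inj
  have hm6 : ∀ i : Fin 6, (halfF c i : ℕ) = nib c i / 2 := fun i => by
    have := h.nib_lt12 i.2
    show nib c i / 2 % 6 = nib c i / 2
    omega
  have hne : ∀ i j : Fin 6, i ≠ j → nib c i / 2 ≠ nib c j / 2 := fun i j hij e =>
    hij (hinj (Fin.ext (by rw [hm6, hm6, e])))
  have hsum : ∑ i, (halfF c i : ℕ) = 15 :=
    (Function.Bijective.sum_comp (Finite.injective_iff_bijective.1 hinj) fun i : Fin 6 => (i : ℕ)).trans (by decide)
  rw [Fin.sum_univ_six] at hsum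
  simp only [hm6] at hsum
  have hp := h.parity
  rw [Fin.sum_univ_six] at hp
  change (nib c 0 % 2 + nib c 1 % 2 + nib c 2 % 2 + nib c 3 % 2 + nib c 4 % 2 + nib c 5 % 2) % 2 = 0 at hp
  change nib c 0 / 2 + nib c 1 / 2 + nib c 2 / 2 + nib c 3 / 2 + nib c 4 / 2 + nib c 5 / 2 = 15 at hsum
  have h0 := h.nib_lt12 (i := 0) (by norm_num); have h1 := h.nib_lt12 (i := 1) (by norm_num)
  have h2 := h.nib_lt12 (i := 2) (by norm_num); have h3 := h.nib_lt12 (i := 3) (by norm_num)
  have h4 := h.nib_lt12 (i := 4) (by norm_num)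
  have g0 := Nat.mod_lt (nib c 0) (y := 2) (by norm_num); have g1 := Nat.mod_lt (nib c 1) (y := 2) (by norm_num)
  have g2 := Nat.mod_lt (nib c 2) (y := 2) (by norm_num); have g3 := Nat.mod_lt (nib c 3) (y := 2) (by norm_num)
  have g4 := Nat.mod_lt (nib c 4) (y := 2) (by norm_num); have g5 := Nat.mod_lt (nib c 5) (y := 2) (by norm_num)
  refine List.mem_flatMap.2 ⟨pk6 (2 * (nib c 0 / 2)) (2 * (nib c 1 / 2)) (2 * (nib c 2 / 2)) (2 * (nib c 3 / 2))
    (2 * (nib c 4 / 2)) (2 * (nib c 5 / 2)), ?_, List.mem_map.2 ⟨pk6 (nib c 0 % 2) (nib c 1 % 2) (nib c 2 % 2)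
      (nib c 3 % 2) (nib c 4 % 2) (nib c 5 % 2), ?_, ?_⟩⟩
  · have nb : ∀ i j : Fin 6, i ≠ j → (!Nat.beq (nib c i / 2) (nib c j / 2)) = true := fun i j hij => by
      rw [Bool.not_eq_true']
      exact Bool.eq_false_iff.2 fun e => hne i j hij (Nat.eq_of_beq_eq_true e)
    have n10 := nb 1 0 (by decide); have n20 := nb 2 0 (by decide); have n21 := nb 2 1 (by decide)
    have n30 := nb 3 0 (by decide); have n31 := nb 3 1 (by decide); have n32 := nb 3 2 (by decide)
    have n40 := nb 4 0 (by decide); have n41 := nb 4 1 (by decide); have n42 := nb 4 2 (by decide)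
    have n43 := nb 4 3 (by decide)
    refine List.mem_flatMap.2 ⟨_, List.mem_range.2 (show nib c 0 / 2 < 6 by omega), ?_⟩
    refine List.mem_flatMap.2 ⟨nib c 1 / 2, List.mem_filter.2 ⟨List.mem_range.2 (by omega), n10⟩, ?_⟩
    refine List.mem_flatMap.2 ⟨nib c 2 / 2, List.mem_filter.2 ⟨List.mem_range.2 (by omega),
      Bool.and_eq_true_iff.2 ⟨n20, n21⟩⟩, ?_⟩
    refine List.mem_flatMap.2 ⟨nib c 3 / 2, List.mem_filter.2 ⟨List.mem_range.2 (by omega),
      Bool.and_eq_true_iff.2 ⟨Bool.and_eq_true_iff.2 ⟨n30, n31⟩, n32⟩⟩, ?_⟩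
    refine List.mem_map.2 ⟨nib c 4 / 2, List.mem_filter.2 ⟨List.mem_range.2 (by omega),
      Bool.and_eq_true_iff.2 ⟨Bool.and_eq_true_iff.2 ⟨Bool.and_eq_true_iff.2 ⟨n40, n41⟩, n42⟩, n43⟩⟩, ?_⟩
    rw [sub15 hsum]
  · generalize nib c 0 % 2 = a0, nib c 1 % 2 = a1, nib c 2 % 2 = a2, nib c 3 % 2 = a3, nib c 4 % 2 = a4,
      nib c 5 % 2 = a5 at hp g0 g1 g2 g3 g4 g5 ⊢
    have key : ∀ a b c d e f, a < 2 → b < 2 → c < 2 → d < 2 → e < 2 → f < 2 → (a + b + c + d + e + f) % 2 = 0 →
        pk6 a b c d e f ∈ flipList := by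
      have : ∀ a b c d e f : Fin 2, ((a : ℕ) + b + c + d + e + f) % 2 = 0 →
          flipList.any (fun q => Nat.beq q (pk6 a b c d e f)) = true := by decide +kernel
      intro a b c d e f ha hb hc hd he hf hpar
      obtain ⟨q, hq, e'⟩ := List.any_eq_true.1 (this ⟨a, ha⟩ ⟨b, hb⟩ ⟨c, hc⟩ ⟨d, hd⟩ ⟨e, he⟩ ⟨f, hf⟩ hpar)
      exact Nat.eq_of_beq_eq_true e' ▸ hq
    exact key _ _ _ _ _ _ g0 g1 g2 g3 g4 g5 hp
  · exact (pk6_split _ _ _ _ _ _).trans (pk6_nib h.lt)

theorem elems_part0 : (((halvesList.drop 0).take 60).all fun p => flipList.all fun f => inH (p + f)) = true := by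
  decide +kernel

theorem elems_part1 : (((halvesList.drop 60).take 60).all fun p => flipList.all fun f => inH (p + f)) = true := by
  decide +kernel

theorem elems_part2 : (((halvesList.drop 120).take 60).all fun p => flipList.all fun f => inH (p + f)) = true := by
  decide +kernel

theorem elems_part3 : (((halvesList.drop 180).take 60).all fun p => flipList.all fun f => inH (p + f)) = true := by
  decide +kernel

theorem elems_part4 : (((halvesList.drop 240).take 60).all fun p => flipList.all fun f => inH (p + f)) = true := by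
  decide +kernel

theorem elems_part5 : (((halvesList.drop 300).take 60).all fun p => flipList.all fun f => inH (p + f)) = true := by
  decide +kernel

theorem elems_part6 : (((halvesList.drop 360).take 60).all fun p => flipList.all fun f => inH (p + f)) = true := by
  decide +kernel

theorem elems_part7 : (((halvesList.drop 420).take 60).all fun p => flipList.all fun f => inH (p + f)) = true := by
  decide +kernel

theorem elems_part8 : (((halvesList.drop 480).take 60).all fun p => flipList.all fun f => inH (p + f)) = true := by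
  decide +kernel

theorem elems_part9 : (((halvesList.drop 540).take 60).all fun p => flipList.all fun f => inH (p + f)) = true := by
  decide +kernel

theorem elems_part10 : (((halvesList.drop 600).take 60).all fun p => flipList.all fun f => inH (p + f)) = true := by
  decide +kernel

theorem elems_part11 : (((halvesList.drop 660).take 60).all fun p => flipList.all fun f => inH (p + f)) = true := by
  decide +kernel

theorem all_of_parts {p : ℕ → Bool} : ∀ (n : ℕ) {l : List ℕ}, l.length ≤ 60 * n →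
    (∀ j < n, ((l.drop (60 * j)).take 60).all p = true) → l.all p = true
  | 0, l, h, _ => by rw [List.length_eq_zero_iff.1 (by omega : l.length = 0)]; rfl
  | n + 1, l, h, hp => by
    rw [← List.take_append_drop 60 l, List.all_append, Bool.and_eq_true]
    refine ⟨by simpa using hp 0 (by omega), all_of_parts n (by rw [List.length_drop]; omega) fun j hj => ?_⟩
    rw [List.drop_drop, show 60 + 60 * j = 60 * (j + 1) by ring]
    exact hp (j + 1) (by omega)

theorem halves_length : halvesList.length = 720 := by decide +kernel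

theorem elems_mem : (elems.all inH) = true := by
  simp only [elems, List.all_flatMap, List.all_map]
  refine all_of_parts 12 (by rw [halves_length]) fun j hj => ?_
  interval_cases j
  exacts [elems_part0, elems_part1, elems_part2, elems_part3, elems_part4, elems_part5, elems_part6, elems_part7, elems_part8, elems_part9, elems_part10, elems_part11]

theorem mem_iff_elems {c : ℕ} : Mem c ↔ c ∈ elems :=
  ⟨Mem.mem_elems, fun h => List.all_eq_true.1 elems_mem c h⟩

theorem elems_length : elems.length = 23040 := by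
  simp only [elems, List.length_flatMap, List.length_map]
  decide +kernel

end Cfsg.Agent.Fus.SymSix
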