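import Mathlib

/-! Generated data for the centralizer of six transpositions. -/

set_option autoImplicit false
set_option maxRecDepth 100000

namespace Cfsg.Agent.Fus.SymSix

/-- Words for the halves. -/
def wordsH : List (List ℕ) := [
  [], [4], [3], [3, 4],
  [4, 3], [3, 4, 3], [2], [2, 4],
  [2, 3], [2, 3, 4], [2, 4, 3], [2, 3, 4, 3],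
  [3, 2], [3, 2, 4], [2, 3, 2], [2, 3, 2, 4],
  [3, 2, 4, 3], [2, 3, 2, 4, 3], [4, 3, 2], [3, 4, 3, 2],
  [2, 4, 3, 2], [2, 3, 4, 3, 2], [3, 2, 4, 3, 2], [2, 3, 2, 4, 3, 2],
  [1], [1, 4], [1, 3], [1, 3, 4],
  [1, 4, 3], [1, 3, 4, 3], [1, 2], [1, 2, 4],
  [1, 2, 3], [1, 2, 3, 4], [1, 2, 4, 3], [1, 2, 3, 4, 3],
  [1, 3, 2], [1, 3, 2, 4], [1, 2, 3, 2], [1, 2, 3, 2, 4],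
  [1, 3, 2, 4, 3], [1, 2, 3, 2, 4, 3], [1, 4, 3, 2], [1, 3, 4, 3, 2],
  [1, 2, 4, 3, 2], [1, 2, 3, 4, 3, 2], [1, 3, 2, 4, 3, 2], [1, 2, 3, 2, 4, 3, 2],
  [2, 1], [2, 1, 4], [2, 1, 3], [2, 1, 3, 4],
  [2, 1, 4, 3], [2, 1, 3, 4, 3], [1, 2, 1], [1, 2, 1, 4],
  [1, 2, 1, 3], [1, 2, 1, 3, 4], [1, 2, 1, 4, 3], [1, 2, 1, 3, 4, 3],
  [2, 1, 3, 2], [2, 1, 3, 2, 4], [1, 2, 1, 3, 2], [1, 2, 1, 3, 2, 4],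
  [2, 1, 3, 2, 4, 3], [1, 2, 1, 3, 2, 4, 3], [2, 1, 4, 3, 2], [2, 1, 3, 4, 3, 2],
  [1, 2, 1, 4, 3, 2], [1, 2, 1, 3, 4, 3, 2], [2, 1, 3, 2, 4, 3, 2], [1, 2, 1, 3, 2, 4, 3, 2],
  [3, 2, 1], [3, 2, 1, 4], [2, 3, 2, 1], [2, 3, 2, 1, 4],
  [3, 2, 1, 4, 3], [2, 3, 2, 1, 4, 3], [1, 3, 2, 1], [1, 3, 2, 1, 4],
  [1, 2, 3, 2, 1], [1, 2, 3, 2, 1, 4], [1, 3, 2, 1, 4, 3], [1, 2, 3, 2, 1, 4, 3],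
  [2, 1, 3, 2, 1], [2, 1, 3, 2, 1, 4], [1, 2, 1, 3, 2, 1], [1, 2, 1, 3, 2, 1, 4],
  [2, 1, 3, 2, 1, 4, 3], [1, 2, 1, 3, 2, 1, 4, 3], [3, 2, 1, 4, 3, 2], [2, 3, 2, 1, 4, 3, 2],
  [1, 3, 2, 1, 4, 3, 2], [1, 2, 3, 2, 1, 4, 3, 2], [2, 1, 3, 2, 1, 4, 3, 2], [1, 2, 1, 3, 2, 1, 4, 3, 2],
  [4, 3, 2, 1], [3, 4, 3, 2, 1], [2, 4, 3, 2, 1], [2, 3, 4, 3, 2, 1],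
  [3, 2, 4, 3, 2, 1], [2, 3, 2, 4, 3, 2, 1], [1, 4, 3, 2, 1], [1, 3, 4, 3, 2, 1],
  [1, 2, 4, 3, 2, 1], [1, 2, 3, 4, 3, 2, 1], [1, 3, 2, 4, 3, 2, 1], [1, 2, 3, 2, 4, 3, 2, 1],
  [2, 1, 4, 3, 2, 1], [2, 1, 3, 4, 3, 2, 1], [1, 2, 1, 4, 3, 2, 1], [1, 2, 1, 3, 4, 3, 2, 1],
  [2, 1, 3, 2, 4, 3, 2, 1], [1, 2, 1, 3, 2, 4, 3, 2, 1], [3, 2, 1, 4, 3, 2, 1], [2, 3, 2, 1, 4, 3, 2, 1],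
  [1, 3, 2, 1, 4, 3, 2, 1], [1, 2, 3, 2, 1, 4, 3, 2, 1], [2, 1, 3, 2, 1, 4, 3, 2, 1], [1, 2, 1, 3, 2, 1, 4, 3, 2, 1],
  [0], [0, 4], [0, 3], [0, 3, 4],
  [0, 4, 3], [0, 3, 4, 3], [0, 2], [0, 2, 4],
  [0, 2, 3], [0, 2, 3, 4], [0, 2, 4, 3], [0, 2, 3, 4, 3],
  [0, 3, 2], [0, 3, 2, 4], [0, 2, 3, 2], [0, 2, 3, 2, 4],
  [0, 3, 2, 4, 3], [0, 2, 3, 2, 4, 3], [0, 4, 3, 2], [0, 3, 4, 3, 2],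
  [0, 2, 4, 3, 2], [0, 2, 3, 4, 3, 2], [0, 3, 2, 4, 3, 2], [0, 2, 3, 2, 4, 3, 2],
  [0, 1], [0, 1, 4], [0, 1, 3], [0, 1, 3, 4],
  [0, 1, 4, 3], [0, 1, 3, 4, 3], [0, 1, 2], [0, 1, 2, 4],
  [0, 1, 2, 3], [0, 1, 2, 3, 4], [0, 1, 2, 4, 3], [0, 1, 2, 3, 4, 3],
  [0, 1, 3, 2], [0, 1, 3, 2, 4], [0, 1, 2, 3, 2], [0, 1, 2, 3, 2, 4],
  [0, 1, 3, 2, 4, 3], [0, 1, 2, 3, 2, 4, 3], [0, 1, 4, 3, 2], [0, 1, 3, 4, 3, 2],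
  [0, 1, 2, 4, 3, 2], [0, 1, 2, 3, 4, 3, 2], [0, 1, 3, 2, 4, 3, 2], [0, 1, 2, 3, 2, 4, 3, 2],
  [0, 2, 1], [0, 2, 1, 4], [0, 2, 1, 3], [0, 2, 1, 3, 4],
  [0, 2, 1, 4, 3], [0, 2, 1, 3, 4, 3], [0, 1, 2, 1], [0, 1, 2, 1, 4],
  [0, 1, 2, 1, 3], [0, 1, 2, 1, 3, 4], [0, 1, 2, 1, 4, 3], [0, 1, 2, 1, 3, 4, 3],
  [0, 2, 1, 3, 2], [0, 2, 1, 3, 2, 4], [0, 1, 2, 1, 3, 2], [0, 1, 2, 1, 3, 2, 4],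
  [0, 2, 1, 3, 2, 4, 3], [0, 1, 2, 1, 3, 2, 4, 3], [0, 2, 1, 4, 3, 2], [0, 2, 1, 3, 4, 3, 2],
  [0, 1, 2, 1, 4, 3, 2], [0, 1, 2, 1, 3, 4, 3, 2], [0, 2, 1, 3, 2, 4, 3, 2], [0, 1, 2, 1, 3, 2, 4, 3, 2],
  [0, 3, 2, 1], [0, 3, 2, 1, 4], [0, 2, 3, 2, 1], [0, 2, 3, 2, 1, 4],
  [0, 3, 2, 1, 4, 3], [0, 2, 3, 2, 1, 4, 3], [0, 1, 3, 2, 1], [0, 1, 3, 2, 1, 4],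
  [0, 1, 2, 3, 2, 1], [0, 1, 2, 3, 2, 1, 4], [0, 1, 3, 2, 1, 4, 3], [0, 1, 2, 3, 2, 1, 4, 3],
  [0, 2, 1, 3, 2, 1], [0, 2, 1, 3, 2, 1, 4], [0, 1, 2, 1, 3, 2, 1], [0, 1, 2, 1, 3, 2, 1, 4],
  [0, 2, 1, 3, 2, 1, 4, 3], [0, 1, 2, 1, 3, 2, 1, 4, 3], [0, 3, 2, 1, 4, 3, 2], [0, 2, 3, 2, 1, 4, 3, 2],
  [0, 1, 3, 2, 1, 4, 3, 2], [0, 1, 2, 3, 2, 1, 4, 3, 2], [0, 2, 1, 3, 2, 1, 4, 3, 2], [0, 1, 2, 1, 3, 2, 1, 4, 3, 2],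
  [0, 4, 3, 2, 1], [0, 3, 4, 3, 2, 1], [0, 2, 4, 3, 2, 1], [0, 2, 3, 4, 3, 2, 1],
  [0, 3, 2, 4, 3, 2, 1], [0, 2, 3, 2, 4, 3, 2, 1], [0, 1, 4, 3, 2, 1], [0, 1, 3, 4, 3, 2, 1],
  [0, 1, 2, 4, 3, 2, 1], [0, 1, 2, 3, 4, 3, 2, 1], [0, 1, 3, 2, 4, 3, 2, 1], [0, 1, 2, 3, 2, 4, 3, 2, 1],
  [0, 2, 1, 4, 3, 2, 1], [0, 2, 1, 3, 4, 3, 2, 1], [0, 1, 2, 1, 4, 3, 2, 1], [0, 1, 2, 1, 3, 4, 3, 2, 1],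
  [0, 2, 1, 3, 2, 4, 3, 2, 1], [0, 1, 2, 1, 3, 2, 4, 3, 2, 1], [0, 3, 2, 1, 4, 3, 2, 1], [0, 2, 3, 2, 1, 4, 3, 2, 1],
  [0, 1, 3, 2, 1, 4, 3, 2, 1], [0, 1, 2, 3, 2, 1, 4, 3, 2, 1], [0, 2, 1, 3, 2, 1, 4, 3, 2, 1], [0, 1, 2, 1, 3, 2, 1, 4, 3, 2, 1],
  [1, 0], [1, 0, 4], [1, 0, 3], [1, 0, 3, 4],
  [1, 0, 4, 3], [1, 0, 3, 4, 3], [1, 0, 2], [1, 0, 2, 4],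
  [1, 0, 2, 3], [1, 0, 2, 3, 4], [1, 0, 2, 4, 3], [1, 0, 2, 3, 4, 3],
  [1, 0, 3, 2], [1, 0, 3, 2, 4], [1, 0, 2, 3, 2], [1, 0, 2, 3, 2, 4],
  [1, 0, 3, 2, 4, 3], [1, 0, 2, 3, 2, 4, 3], [1, 0, 4, 3, 2], [1, 0, 3, 4, 3, 2],
  [1, 0, 2, 4, 3, 2], [1, 0, 2, 3, 4, 3, 2], [1, 0, 3, 2, 4, 3, 2], [1, 0, 2, 3, 2, 4, 3, 2],
  [0, 1, 0], [0, 1, 0, 4], [0, 1, 0, 3], [0, 1, 0, 3, 4],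
  [0, 1, 0, 4, 3], [0, 1, 0, 3, 4, 3], [0, 1, 0, 2], [0, 1, 0, 2, 4],
  [0, 1, 0, 2, 3], [0, 1, 0, 2, 3, 4], [0, 1, 0, 2, 4, 3], [0, 1, 0, 2, 3, 4, 3],
  [0, 1, 0, 3, 2], [0, 1, 0, 3, 2, 4], [0, 1, 0, 2, 3, 2], [0, 1, 0, 2, 3, 2, 4],
  [0, 1, 0, 3, 2, 4, 3], [0, 1, 0, 2, 3, 2, 4, 3], [0, 1, 0, 4, 3, 2], [0, 1, 0, 3, 4, 3, 2],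
  [0, 1, 0, 2, 4, 3, 2], [0, 1, 0, 2, 3, 4, 3, 2], [0, 1, 0, 3, 2, 4, 3, 2], [0, 1, 0, 2, 3, 2, 4, 3, 2],
  [1, 0, 2, 1], [1, 0, 2, 1, 4], [1, 0, 2, 1, 3], [1, 0, 2, 1, 3, 4],
  [1, 0, 2, 1, 4, 3], [1, 0, 2, 1, 3, 4, 3], [0, 1, 0, 2, 1], [0, 1, 0, 2, 1, 4],
  [0, 1, 0, 2, 1, 3], [0, 1, 0, 2, 1, 3, 4], [0, 1, 0, 2, 1, 4, 3], [0, 1, 0, 2, 1, 3, 4, 3],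
  [1, 0, 2, 1, 3, 2], [1, 0, 2, 1, 3, 2, 4], [0, 1, 0, 2, 1, 3, 2], [0, 1, 0, 2, 1, 3, 2, 4],
  [1, 0, 2, 1, 3, 2, 4, 3], [0, 1, 0, 2, 1, 3, 2, 4, 3], [1, 0, 2, 1, 4, 3, 2], [1, 0, 2, 1, 3, 4, 3, 2],
  [0, 1, 0, 2, 1, 4, 3, 2], [0, 1, 0, 2, 1, 3, 4, 3, 2], [1, 0, 2, 1, 3, 2, 4, 3, 2], [0, 1, 0, 2, 1, 3, 2, 4, 3, 2],
  [1, 0, 3, 2, 1], [1, 0, 3, 2, 1, 4], [1, 0, 2, 3, 2, 1], [1, 0, 2, 3, 2, 1, 4],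
  [1, 0, 3, 2, 1, 4, 3], [1, 0, 2, 3, 2, 1, 4, 3], [0, 1, 0, 3, 2, 1], [0, 1, 0, 3, 2, 1, 4],
  [0, 1, 0, 2, 3, 2, 1], [0, 1, 0, 2, 3, 2, 1, 4], [0, 1, 0, 3, 2, 1, 4, 3], [0, 1, 0, 2, 3, 2, 1, 4, 3],
  [1, 0, 2, 1, 3, 2, 1], [1, 0, 2, 1, 3, 2, 1, 4], [0, 1, 0, 2, 1, 3, 2, 1], [0, 1, 0, 2, 1, 3, 2, 1, 4],
  [1, 0, 2, 1, 3, 2, 1, 4, 3], [0, 1, 0, 2, 1, 3, 2, 1, 4, 3], [1, 0, 3, 2, 1, 4, 3, 2], [1, 0, 2, 3, 2, 1, 4, 3, 2],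
  [0, 1, 0, 3, 2, 1, 4, 3, 2], [0, 1, 0, 2, 3, 2, 1, 4, 3, 2], [1, 0, 2, 1, 3, 2, 1, 4, 3, 2], [0, 1, 0, 2, 1, 3, 2, 1, 4, 3, 2],
  [1, 0, 4, 3, 2, 1], [1, 0, 3, 4, 3, 2, 1], [1, 0, 2, 4, 3, 2, 1], [1, 0, 2, 3, 4, 3, 2, 1],
  [1, 0, 3, 2, 4, 3, 2, 1], [1, 0, 2, 3, 2, 4, 3, 2, 1], [0, 1, 0, 4, 3, 2, 1], [0, 1, 0, 3, 4, 3, 2, 1],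
  [0, 1, 0, 2, 4, 3, 2, 1], [0, 1, 0, 2, 3, 4, 3, 2, 1], [0, 1, 0, 3, 2, 4, 3, 2, 1], [0, 1, 0, 2, 3, 2, 4, 3, 2, 1],
  [1, 0, 2, 1, 4, 3, 2, 1], [1, 0, 2, 1, 3, 4, 3, 2, 1], [0, 1, 0, 2, 1, 4, 3, 2, 1], [0, 1, 0, 2, 1, 3, 4, 3, 2, 1],
  [1, 0, 2, 1, 3, 2, 4, 3, 2, 1], [0, 1, 0, 2, 1, 3, 2, 4, 3, 2, 1], [1, 0, 3, 2, 1, 4, 3, 2, 1], [1, 0, 2, 3, 2, 1, 4, 3, 2, 1],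
  [0, 1, 0, 3, 2, 1, 4, 3, 2, 1], [0, 1, 0, 2, 3, 2, 1, 4, 3, 2, 1], [1, 0, 2, 1, 3, 2, 1, 4, 3, 2, 1], [0, 1, 0, 2, 1, 3, 2, 1, 4, 3, 2, 1],
  [2, 1, 0], [2, 1, 0, 4], [2, 1, 0, 3], [2, 1, 0, 3, 4],
  [2, 1, 0, 4, 3], [2, 1, 0, 3, 4, 3], [1, 2, 1, 0], [1, 2, 1, 0, 4],
  [1, 2, 1, 0, 3], [1, 2, 1, 0, 3, 4], [1, 2, 1, 0, 4, 3], [1, 2, 1, 0, 3, 4, 3],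
  [2, 1, 0, 3, 2], [2, 1, 0, 3, 2, 4], [1, 2, 1, 0, 3, 2], [1, 2, 1, 0, 3, 2, 4],
  [2, 1, 0, 3, 2, 4, 3], [1, 2, 1, 0, 3, 2, 4, 3], [2, 1, 0, 4, 3, 2], [2, 1, 0, 3, 4, 3, 2],
  [1, 2, 1, 0, 4, 3, 2], [1, 2, 1, 0, 3, 4, 3, 2], [2, 1, 0, 3, 2, 4, 3, 2], [1, 2, 1, 0, 3, 2, 4, 3, 2],
  [0, 2, 1, 0], [0, 2, 1, 0, 4], [0, 2, 1, 0, 3], [0, 2, 1, 0, 3, 4],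
  [0, 2, 1, 0, 4, 3], [0, 2, 1, 0, 3, 4, 3], [0, 1, 2, 1, 0], [0, 1, 2, 1, 0, 4],
  [0, 1, 2, 1, 0, 3], [0, 1, 2, 1, 0, 3, 4], [0, 1, 2, 1, 0, 4, 3], [0, 1, 2, 1, 0, 3, 4, 3],
  [0, 2, 1, 0, 3, 2], [0, 2, 1, 0, 3, 2, 4], [0, 1, 2, 1, 0, 3, 2], [0, 1, 2, 1, 0, 3, 2, 4],
  [0, 2, 1, 0, 3, 2, 4, 3], [0, 1, 2, 1, 0, 3, 2, 4, 3], [0, 2, 1, 0, 4, 3, 2], [0, 2, 1, 0, 3, 4, 3, 2],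
  [0, 1, 2, 1, 0, 4, 3, 2], [0, 1, 2, 1, 0, 3, 4, 3, 2], [0, 2, 1, 0, 3, 2, 4, 3, 2], [0, 1, 2, 1, 0, 3, 2, 4, 3, 2],
  [1, 0, 2, 1, 0], [1, 0, 2, 1, 0, 4], [1, 0, 2, 1, 0, 3], [1, 0, 2, 1, 0, 3, 4],
  [1, 0, 2, 1, 0, 4, 3], [1, 0, 2, 1, 0, 3, 4, 3], [0, 1, 0, 2, 1, 0], [0, 1, 0, 2, 1, 0, 4],
  [0, 1, 0, 2, 1, 0, 3], [0, 1, 0, 2, 1, 0, 3, 4], [0, 1, 0, 2, 1, 0, 4, 3], [0, 1, 0, 2, 1, 0, 3, 4, 3],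
  [1, 0, 2, 1, 0, 3, 2], [1, 0, 2, 1, 0, 3, 2, 4], [0, 1, 0, 2, 1, 0, 3, 2], [0, 1, 0, 2, 1, 0, 3, 2, 4],
  [1, 0, 2, 1, 0, 3, 2, 4, 3], [0, 1, 0, 2, 1, 0, 3, 2, 4, 3], [1, 0, 2, 1, 0, 4, 3, 2], [1, 0, 2, 1, 0, 3, 4, 3, 2],
  [0, 1, 0, 2, 1, 0, 4, 3, 2], [0, 1, 0, 2, 1, 0, 3, 4, 3, 2], [1, 0, 2, 1, 0, 3, 2, 4, 3, 2], [0, 1, 0, 2, 1, 0, 3, 2, 4, 3, 2],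
  [2, 1, 0, 3, 2, 1], [2, 1, 0, 3, 2, 1, 4], [1, 2, 1, 0, 3, 2, 1], [1, 2, 1, 0, 3, 2, 1, 4],
  [2, 1, 0, 3, 2, 1, 4, 3], [1, 2, 1, 0, 3, 2, 1, 4, 3], [0, 2, 1, 0, 3, 2, 1], [0, 2, 1, 0, 3, 2, 1, 4],
  [0, 1, 2, 1, 0, 3, 2, 1], [0, 1, 2, 1, 0, 3, 2, 1, 4], [0, 2, 1, 0, 3, 2, 1, 4, 3], [0, 1, 2, 1, 0, 3, 2, 1, 4, 3],
  [1, 0, 2, 1, 0, 3, 2, 1], [1, 0, 2, 1, 0, 3, 2, 1, 4], [0, 1, 0, 2, 1, 0, 3, 2, 1], [0, 1, 0, 2, 1, 0, 3, 2, 1, 4],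
  [1, 0, 2, 1, 0, 3, 2, 1, 4, 3], [0, 1, 0, 2, 1, 0, 3, 2, 1, 4, 3], [2, 1, 0, 3, 2, 1, 4, 3, 2], [1, 2, 1, 0, 3, 2, 1, 4, 3, 2],
  [0, 2, 1, 0, 3, 2, 1, 4, 3, 2], [0, 1, 2, 1, 0, 3, 2, 1, 4, 3, 2], [1, 0, 2, 1, 0, 3, 2, 1, 4, 3, 2], [0, 1, 0, 2, 1, 0, 3, 2, 1, 4, 3, 2],
  [2, 1, 0, 4, 3, 2, 1], [2, 1, 0, 3, 4, 3, 2, 1], [1, 2, 1, 0, 4, 3, 2, 1], [1, 2, 1, 0, 3, 4, 3, 2, 1],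
  [2, 1, 0, 3, 2, 4, 3, 2, 1], [1, 2, 1, 0, 3, 2, 4, 3, 2, 1], [0, 2, 1, 0, 4, 3, 2, 1], [0, 2, 1, 0, 3, 4, 3, 2, 1],
  [0, 1, 2, 1, 0, 4, 3, 2, 1], [0, 1, 2, 1, 0, 3, 4, 3, 2, 1], [0, 2, 1, 0, 3, 2, 4, 3, 2, 1], [0, 1, 2, 1, 0, 3, 2, 4, 3, 2, 1],
  [1, 0, 2, 1, 0, 4, 3, 2, 1], [1, 0, 2, 1, 0, 3, 4, 3, 2, 1], [0, 1, 0, 2, 1, 0, 4, 3, 2, 1], [0, 1, 0, 2, 1, 0, 3, 4, 3, 2, 1],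
  [1, 0, 2, 1, 0, 3, 2, 4, 3, 2, 1], [0, 1, 0, 2, 1, 0, 3, 2, 4, 3, 2, 1], [2, 1, 0, 3, 2, 1, 4, 3, 2, 1], [1, 2, 1, 0, 3, 2, 1, 4, 3, 2, 1],
  [0, 2, 1, 0, 3, 2, 1, 4, 3, 2, 1], [0, 1, 2, 1, 0, 3, 2, 1, 4, 3, 2, 1], [1, 0, 2, 1, 0, 3, 2, 1, 4, 3, 2, 1], [0, 1, 0, 2, 1, 0, 3, 2, 1, 4, 3, 2, 1],
  [3, 2, 1, 0], [3, 2, 1, 0, 4], [2, 3, 2, 1, 0], [2, 3, 2, 1, 0, 4],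
  [3, 2, 1, 0, 4, 3], [2, 3, 2, 1, 0, 4, 3], [1, 3, 2, 1, 0], [1, 3, 2, 1, 0, 4],
  [1, 2, 3, 2, 1, 0], [1, 2, 3, 2, 1, 0, 4], [1, 3, 2, 1, 0, 4, 3], [1, 2, 3, 2, 1, 0, 4, 3],
  [2, 1, 3, 2, 1, 0], [2, 1, 3, 2, 1, 0, 4], [1, 2, 1, 3, 2, 1, 0], [1, 2, 1, 3, 2, 1, 0, 4],
  [2, 1, 3, 2, 1, 0, 4, 3], [1, 2, 1, 3, 2, 1, 0, 4, 3], [3, 2, 1, 0, 4, 3, 2], [2, 3, 2, 1, 0, 4, 3, 2],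
  [1, 3, 2, 1, 0, 4, 3, 2], [1, 2, 3, 2, 1, 0, 4, 3, 2], [2, 1, 3, 2, 1, 0, 4, 3, 2], [1, 2, 1, 3, 2, 1, 0, 4, 3, 2],
  [0, 3, 2, 1, 0], [0, 3, 2, 1, 0, 4], [0, 2, 3, 2, 1, 0], [0, 2, 3, 2, 1, 0, 4],
  [0, 3, 2, 1, 0, 4, 3], [0, 2, 3, 2, 1, 0, 4, 3], [0, 1, 3, 2, 1, 0], [0, 1, 3, 2, 1, 0, 4],
  [0, 1, 2, 3, 2, 1, 0], [0, 1, 2, 3, 2, 1, 0, 4], [0, 1, 3, 2, 1, 0, 4, 3], [0, 1, 2, 3, 2, 1, 0, 4, 3],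
  [0, 2, 1, 3, 2, 1, 0], [0, 2, 1, 3, 2, 1, 0, 4], [0, 1, 2, 1, 3, 2, 1, 0], [0, 1, 2, 1, 3, 2, 1, 0, 4],
  [0, 2, 1, 3, 2, 1, 0, 4, 3], [0, 1, 2, 1, 3, 2, 1, 0, 4, 3], [0, 3, 2, 1, 0, 4, 3, 2], [0, 2, 3, 2, 1, 0, 4, 3, 2],
  [0, 1, 3, 2, 1, 0, 4, 3, 2], [0, 1, 2, 3, 2, 1, 0, 4, 3, 2], [0, 2, 1, 3, 2, 1, 0, 4, 3, 2], [0, 1, 2, 1, 3, 2, 1, 0, 4, 3, 2],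
  [1, 0, 3, 2, 1, 0], [1, 0, 3, 2, 1, 0, 4], [1, 0, 2, 3, 2, 1, 0], [1, 0, 2, 3, 2, 1, 0, 4],
  [1, 0, 3, 2, 1, 0, 4, 3], [1, 0, 2, 3, 2, 1, 0, 4, 3], [0, 1, 0, 3, 2, 1, 0], [0, 1, 0, 3, 2, 1, 0, 4],
  [0, 1, 0, 2, 3, 2, 1, 0], [0, 1, 0, 2, 3, 2, 1, 0, 4], [0, 1, 0, 3, 2, 1, 0, 4, 3], [0, 1, 0, 2, 3, 2, 1, 0, 4, 3],
  [1, 0, 2, 1, 3, 2, 1, 0], [1, 0, 2, 1, 3, 2, 1, 0, 4], [0, 1, 0, 2, 1, 3, 2, 1, 0], [0, 1, 0, 2, 1, 3, 2, 1, 0, 4],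
  [1, 0, 2, 1, 3, 2, 1, 0, 4, 3], [0, 1, 0, 2, 1, 3, 2, 1, 0, 4, 3], [1, 0, 3, 2, 1, 0, 4, 3, 2], [1, 0, 2, 3, 2, 1, 0, 4, 3, 2],
  [0, 1, 0, 3, 2, 1, 0, 4, 3, 2], [0, 1, 0, 2, 3, 2, 1, 0, 4, 3, 2], [1, 0, 2, 1, 3, 2, 1, 0, 4, 3, 2], [0, 1, 0, 2, 1, 3, 2, 1, 0, 4, 3, 2],
  [2, 1, 0, 3, 2, 1, 0], [2, 1, 0, 3, 2, 1, 0, 4], [1, 2, 1, 0, 3, 2, 1, 0], [1, 2, 1, 0, 3, 2, 1, 0, 4],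
  [2, 1, 0, 3, 2, 1, 0, 4, 3], [1, 2, 1, 0, 3, 2, 1, 0, 4, 3], [0, 2, 1, 0, 3, 2, 1, 0], [0, 2, 1, 0, 3, 2, 1, 0, 4],
  [0, 1, 2, 1, 0, 3, 2, 1, 0], [0, 1, 2, 1, 0, 3, 2, 1, 0, 4], [0, 2, 1, 0, 3, 2, 1, 0, 4, 3], [0, 1, 2, 1, 0, 3, 2, 1, 0, 4, 3],
  [1, 0, 2, 1, 0, 3, 2, 1, 0], [1, 0, 2, 1, 0, 3, 2, 1, 0, 4], [0, 1, 0, 2, 1, 0, 3, 2, 1, 0], [0, 1, 0, 2, 1, 0, 3, 2, 1, 0, 4],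
  [1, 0, 2, 1, 0, 3, 2, 1, 0, 4, 3], [0, 1, 0, 2, 1, 0, 3, 2, 1, 0, 4, 3], [2, 1, 0, 3, 2, 1, 0, 4, 3, 2], [1, 2, 1, 0, 3, 2, 1, 0, 4, 3, 2],
  [0, 2, 1, 0, 3, 2, 1, 0, 4, 3, 2], [0, 1, 2, 1, 0, 3, 2, 1, 0, 4, 3, 2], [1, 0, 2, 1, 0, 3, 2, 1, 0, 4, 3, 2], [0, 1, 0, 2, 1, 0, 3, 2, 1, 0, 4, 3, 2],
  [3, 2, 1, 0, 4, 3, 2, 1], [2, 3, 2, 1, 0, 4, 3, 2, 1], [1, 3, 2, 1, 0, 4, 3, 2, 1], [1, 2, 3, 2, 1, 0, 4, 3, 2, 1],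
  [2, 1, 3, 2, 1, 0, 4, 3, 2, 1], [1, 2, 1, 3, 2, 1, 0, 4, 3, 2, 1], [0, 3, 2, 1, 0, 4, 3, 2, 1], [0, 2, 3, 2, 1, 0, 4, 3, 2, 1],
  [0, 1, 3, 2, 1, 0, 4, 3, 2, 1], [0, 1, 2, 3, 2, 1, 0, 4, 3, 2, 1], [0, 2, 1, 3, 2, 1, 0, 4, 3, 2, 1], [0, 1, 2, 1, 3, 2, 1, 0, 4, 3, 2, 1],
  [1, 0, 3, 2, 1, 0, 4, 3, 2, 1], [1, 0, 2, 3, 2, 1, 0, 4, 3, 2, 1], [0, 1, 0, 3, 2, 1, 0, 4, 3, 2, 1], [0, 1, 0, 2, 3, 2, 1, 0, 4, 3, 2, 1],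
  [1, 0, 2, 1, 3, 2, 1, 0, 4, 3, 2, 1], [0, 1, 0, 2, 1, 3, 2, 1, 0, 4, 3, 2, 1], [2, 1, 0, 3, 2, 1, 0, 4, 3, 2, 1], [1, 2, 1, 0, 3, 2, 1, 0, 4, 3, 2, 1],
  [0, 2, 1, 0, 3, 2, 1, 0, 4, 3, 2, 1], [0, 1, 2, 1, 0, 3, 2, 1, 0, 4, 3, 2, 1], [1, 0, 2, 1, 0, 3, 2, 1, 0, 4, 3, 2, 1], [0, 1, 0, 2, 1, 0, 3, 2, 1, 0, 4, 3, 2, 1],
  [4, 3, 2, 1, 0], [3, 4, 3, 2, 1, 0], [2, 4, 3, 2, 1, 0], [2, 3, 4, 3, 2, 1, 0],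
  [3, 2, 4, 3, 2, 1, 0], [2, 3, 2, 4, 3, 2, 1, 0], [1, 4, 3, 2, 1, 0], [1, 3, 4, 3, 2, 1, 0],
  [1, 2, 4, 3, 2, 1, 0], [1, 2, 3, 4, 3, 2, 1, 0], [1, 3, 2, 4, 3, 2, 1, 0], [1, 2, 3, 2, 4, 3, 2, 1, 0],
  [2, 1, 4, 3, 2, 1, 0], [2, 1, 3, 4, 3, 2, 1, 0], [1, 2, 1, 4, 3, 2, 1, 0], [1, 2, 1, 3, 4, 3, 2, 1, 0],
  [2, 1, 3, 2, 4, 3, 2, 1, 0], [1, 2, 1, 3, 2, 4, 3, 2, 1, 0], [3, 2, 1, 4, 3, 2, 1, 0], [2, 3, 2, 1, 4, 3, 2, 1, 0],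
  [1, 3, 2, 1, 4, 3, 2, 1, 0], [1, 2, 3, 2, 1, 4, 3, 2, 1, 0], [2, 1, 3, 2, 1, 4, 3, 2, 1, 0], [1, 2, 1, 3, 2, 1, 4, 3, 2, 1, 0],
  [0, 4, 3, 2, 1, 0], [0, 3, 4, 3, 2, 1, 0], [0, 2, 4, 3, 2, 1, 0], [0, 2, 3, 4, 3, 2, 1, 0],
  [0, 3, 2, 4, 3, 2, 1, 0], [0, 2, 3, 2, 4, 3, 2, 1, 0], [0, 1, 4, 3, 2, 1, 0], [0, 1, 3, 4, 3, 2, 1, 0],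
  [0, 1, 2, 4, 3, 2, 1, 0], [0, 1, 2, 3, 4, 3, 2, 1, 0], [0, 1, 3, 2, 4, 3, 2, 1, 0], [0, 1, 2, 3, 2, 4, 3, 2, 1, 0],
  [0, 2, 1, 4, 3, 2, 1, 0], [0, 2, 1, 3, 4, 3, 2, 1, 0], [0, 1, 2, 1, 4, 3, 2, 1, 0], [0, 1, 2, 1, 3, 4, 3, 2, 1, 0],
  [0, 2, 1, 3, 2, 4, 3, 2, 1, 0], [0, 1, 2, 1, 3, 2, 4, 3, 2, 1, 0], [0, 3, 2, 1, 4, 3, 2, 1, 0], [0, 2, 3, 2, 1, 4, 3, 2, 1, 0],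
  [0, 1, 3, 2, 1, 4, 3, 2, 1, 0], [0, 1, 2, 3, 2, 1, 4, 3, 2, 1, 0], [0, 2, 1, 3, 2, 1, 4, 3, 2, 1, 0], [0, 1, 2, 1, 3, 2, 1, 4, 3, 2, 1, 0],
  [1, 0, 4, 3, 2, 1, 0], [1, 0, 3, 4, 3, 2, 1, 0], [1, 0, 2, 4, 3, 2, 1, 0], [1, 0, 2, 3, 4, 3, 2, 1, 0],
  [1, 0, 3, 2, 4, 3, 2, 1, 0], [1, 0, 2, 3, 2, 4, 3, 2, 1, 0], [0, 1, 0, 4, 3, 2, 1, 0], [0, 1, 0, 3, 4, 3, 2, 1, 0],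
  [0, 1, 0, 2, 4, 3, 2, 1, 0], [0, 1, 0, 2, 3, 4, 3, 2, 1, 0], [0, 1, 0, 3, 2, 4, 3, 2, 1, 0], [0, 1, 0, 2, 3, 2, 4, 3, 2, 1, 0],
  [1, 0, 2, 1, 4, 3, 2, 1, 0], [1, 0, 2, 1, 3, 4, 3, 2, 1, 0], [0, 1, 0, 2, 1, 4, 3, 2, 1, 0], [0, 1, 0, 2, 1, 3, 4, 3, 2, 1, 0],
  [1, 0, 2, 1, 3, 2, 4, 3, 2, 1, 0], [0, 1, 0, 2, 1, 3, 2, 4, 3, 2, 1, 0], [1, 0, 3, 2, 1, 4, 3, 2, 1, 0], [1, 0, 2, 3, 2, 1, 4, 3, 2, 1, 0],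
  [0, 1, 0, 3, 2, 1, 4, 3, 2, 1, 0], [0, 1, 0, 2, 3, 2, 1, 4, 3, 2, 1, 0], [1, 0, 2, 1, 3, 2, 1, 4, 3, 2, 1, 0], [0, 1, 0, 2, 1, 3, 2, 1, 4, 3, 2, 1, 0],
  [2, 1, 0, 4, 3, 2, 1, 0], [2, 1, 0, 3, 4, 3, 2, 1, 0], [1, 2, 1, 0, 4, 3, 2, 1, 0], [1, 2, 1, 0, 3, 4, 3, 2, 1, 0],
  [2, 1, 0, 3, 2, 4, 3, 2, 1, 0], [1, 2, 1, 0, 3, 2, 4, 3, 2, 1, 0], [0, 2, 1, 0, 4, 3, 2, 1, 0], [0, 2, 1, 0, 3, 4, 3, 2, 1, 0],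
  [0, 1, 2, 1, 0, 4, 3, 2, 1, 0], [0, 1, 2, 1, 0, 3, 4, 3, 2, 1, 0], [0, 2, 1, 0, 3, 2, 4, 3, 2, 1, 0], [0, 1, 2, 1, 0, 3, 2, 4, 3, 2, 1, 0],
  [1, 0, 2, 1, 0, 4, 3, 2, 1, 0], [1, 0, 2, 1, 0, 3, 4, 3, 2, 1, 0], [0, 1, 0, 2, 1, 0, 4, 3, 2, 1, 0], [0, 1, 0, 2, 1, 0, 3, 4, 3, 2, 1, 0],
  [1, 0, 2, 1, 0, 3, 2, 4, 3, 2, 1, 0], [0, 1, 0, 2, 1, 0, 3, 2, 4, 3, 2, 1, 0], [2, 1, 0, 3, 2, 1, 4, 3, 2, 1, 0], [1, 2, 1, 0, 3, 2, 1, 4, 3, 2, 1, 0],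
  [0, 2, 1, 0, 3, 2, 1, 4, 3, 2, 1, 0], [0, 1, 2, 1, 0, 3, 2, 1, 4, 3, 2, 1, 0], [1, 0, 2, 1, 0, 3, 2, 1, 4, 3, 2, 1, 0], [0, 1, 0, 2, 1, 0, 3, 2, 1, 4, 3, 2, 1, 0],
  [3, 2, 1, 0, 4, 3, 2, 1, 0], [2, 3, 2, 1, 0, 4, 3, 2, 1, 0], [1, 3, 2, 1, 0, 4, 3, 2, 1, 0], [1, 2, 3, 2, 1, 0, 4, 3, 2, 1, 0],
  [2, 1, 3, 2, 1, 0, 4, 3, 2, 1, 0], [1, 2, 1, 3, 2, 1, 0, 4, 3, 2, 1, 0], [0, 3, 2, 1, 0, 4, 3, 2, 1, 0], [0, 2, 3, 2, 1, 0, 4, 3, 2, 1, 0],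
  [0, 1, 3, 2, 1, 0, 4, 3, 2, 1, 0], [0, 1, 2, 3, 2, 1, 0, 4, 3, 2, 1, 0], [0, 2, 1, 3, 2, 1, 0, 4, 3, 2, 1, 0], [0, 1, 2, 1, 3, 2, 1, 0, 4, 3, 2, 1, 0],
  [1, 0, 3, 2, 1, 0, 4, 3, 2, 1, 0], [1, 0, 2, 3, 2, 1, 0, 4, 3, 2, 1, 0], [0, 1, 0, 3, 2, 1, 0, 4, 3, 2, 1, 0], [0, 1, 0, 2, 3, 2, 1, 0, 4, 3, 2, 1, 0],
  [1, 0, 2, 1, 3, 2, 1, 0, 4, 3, 2, 1, 0], [0, 1, 0, 2, 1, 3, 2, 1, 0, 4, 3, 2, 1, 0], [2, 1, 0, 3, 2, 1, 0, 4, 3, 2, 1, 0], [1, 2, 1, 0, 3, 2, 1, 0, 4, 3, 2, 1, 0],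
  [0, 2, 1, 0, 3, 2, 1, 0, 4, 3, 2, 1, 0], [0, 1, 2, 1, 0, 3, 2, 1, 0, 4, 3, 2, 1, 0], [1, 0, 2, 1, 0, 3, 2, 1, 0, 4, 3, 2, 1, 0], [0, 1, 0, 2, 1, 0, 3, 2, 1, 0, 4, 3, 2, 1, 0]]

/-- Words for the flips. -/
def wordsF : List (List ℕ) := [
  [], [4, 3, 2, 1, 5, 1, 2, 3, 4], [4, 3, 2, 1, 5, 1, 2, 3, 4, 5], [5],
  [1, 4, 3, 2, 1, 5, 1, 2, 3, 4, 5, 1], [1, 5, 1], [1, 5, 1, 5], [1, 4, 3, 2, 1, 5, 1, 2, 3, 4, 5, 1, 5],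
  [2, 1, 4, 3, 2, 1, 5, 1, 2, 3, 4, 5, 1, 2], [2, 1, 5, 1, 2], [2, 1, 5, 1, 2, 5], [2, 1, 4, 3, 2, 1, 5, 1, 2, 3, 4, 5, 1, 2, 5],
  [1, 2, 1, 5, 1, 2, 5, 1], [1, 2, 1, 4, 3, 2, 1, 5, 1, 2, 3, 4, 5, 1, 2, 5, 1], [1, 2, 1, 4, 3, 2, 1, 5, 1, 2, 3, 4, 5, 1, 2, 5, 1, 5], [1, 2, 1, 5, 1, 2, 5, 1, 5],
  [3, 2, 1, 4, 3, 2, 1, 5, 1, 2, 3, 4, 5, 1, 2, 3], [3, 2, 1, 5, 1, 2, 3], [3, 2, 1, 5, 1, 2, 3, 5], [3, 2, 1, 4, 3, 2, 1, 5, 1, 2, 3, 4, 5, 1, 2, 3, 5],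
  [1, 3, 2, 1, 5, 1, 2, 3, 5, 1], [1, 3, 2, 1, 4, 3, 2, 1, 5, 1, 2, 3, 4, 5, 1, 2, 3, 5, 1], [1, 3, 2, 1, 4, 3, 2, 1, 5, 1, 2, 3, 4, 5, 1, 2, 3, 5, 1, 5], [1, 3, 2, 1, 5, 1, 2, 3, 5, 1, 5],
  [2, 1, 3, 2, 1, 5, 1, 2, 3, 5, 1, 2], [2, 1, 3, 2, 1, 4, 3, 2, 1, 5, 1, 2, 3, 4, 5, 1, 2, 3, 5, 1, 2], [2, 1, 3, 2, 1, 4, 3, 2, 1, 5, 1, 2, 3, 4, 5, 1, 2, 3, 5, 1, 2, 5], [2, 1, 3, 2, 1, 5, 1, 2, 3, 5, 1, 2, 5],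
  [1, 2, 1, 3, 2, 1, 4, 3, 2, 1, 5, 1, 2, 3, 4, 5, 1, 2, 3, 5, 1, 2, 5, 1], [1, 2, 1, 3, 2, 1, 5, 1, 2, 3, 5, 1, 2, 5, 1], [1, 2, 1, 3, 2, 1, 5, 1, 2, 3, 5, 1, 2, 5, 1, 5], [1, 2, 1, 3, 2, 1, 4, 3, 2, 1, 5, 1, 2, 3, 4, 5, 1, 2, 3, 5, 1, 2, 5, 1, 5]]

end Cfsg.Agent.Fus.SymSix
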