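import Cfsg.Agent.Lib.Fus.SymSix.Act
import Cfsg.Agent.Lib.Fus.SymSix.GenData

/-!
# The six letters generate the centralizer
-/

set_option autoImplicit false
set_option maxRecDepth 100000
set_option Elab.async false

namespace Cfsg.Agent.Fus.SymSix

open Cfsg.Agent.Spor.Cos (force force_eq)

/-- Words for halves or flips. -/
def partOk (w : List ℕ) (c : ℕ) : Bool := (w.all fun s => Nat.blt s 6) && Nat.beq (wC w) c

theorem wordsH_ok : (wordsH.length = halvesList.length) ∧
    ((wordsH.zip halvesList).all fun p => partOk p.1 p.2) = true := by decide +kernel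

theorem wordsF_ok : (wordsF.length = flipList.length) ∧
    ((wordsF.zip flipList).all fun p => partOk p.1 (oneC + p.2)) = true := by decide +kernel

theorem split_part0 : (((halvesList.drop 0).take 60).all fun p => flipList.all fun f => Nat.beq (mulC p (oneC + f)) (p + f)) = true := by
  decide +kernel

theorem split_part1 : (((halvesList.drop 60).take 60).all fun p => flipList.all fun f => Nat.beq (mulC p (oneC + f)) (p + f)) = true := by
  decide +kernel

theorem split_part2 : (((halvesList.drop 120).take 60).all fun p => flipList.all fun f => Nat.beq (mulC p (oneC + f)) (p + f)) = true := by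
  decide +kernel

theorem split_part3 : (((halvesList.drop 180).take 60).all fun p => flipList.all fun f => Nat.beq (mulC p (oneC + f)) (p + f)) = true := by
  decide +kernel

theorem split_part4 : (((halvesList.drop 240).take 60).all fun p => flipList.all fun f => Nat.beq (mulC p (oneC + f)) (p + f)) = true := by
  decide +kernel

theorem split_part5 : (((halvesList.drop 300).take 60).all fun p => flipList.all fun f => Nat.beq (mulC p (oneC + f)) (p + f)) = true := by
  decide +kernel

theorem split_part6 : (((halvesList.drop 360).take 60).all fun p => flipList.all fun f => Nat.beq (mulC p (oneC + f)) (p + f)) = true := by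
  decide +kernel

theorem split_part7 : (((halvesList.drop 420).take 60).all fun p => flipList.all fun f => Nat.beq (mulC p (oneC + f)) (p + f)) = true := by
  decide +kernel

theorem split_part8 : (((halvesList.drop 480).take 60).all fun p => flipList.all fun f => Nat.beq (mulC p (oneC + f)) (p + f)) = true := by
  decide +kernel

theorem split_part9 : (((halvesList.drop 540).take 60).all fun p => flipList.all fun f => Nat.beq (mulC p (oneC + f)) (p + f)) = true := by
  decide +kernel

theorem split_part10 : (((halvesList.drop 600).take 60).all fun p => flipList.all fun f => Nat.beq (mulC p (oneC + f)) (p + f)) = true := by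
  decide +kernel

theorem split_part11 : (((halvesList.drop 660).take 60).all fun p => flipList.all fun f => Nat.beq (mulC p (oneC + f)) (p + f)) = true := by
  decide +kernel

theorem split_all {p f : ℕ} (hp : p ∈ halvesList) (hf : f ∈ flipList) : mulC p (oneC + f) = p + f := by
  have := all_of_parts (p := fun q => flipList.all fun f => Nat.beq (mulC q (oneC + f)) (q + f)) 12 (by rw [halves_length])
    (fun j hj => by interval_cases j; exacts [split_part0, split_part1, split_part2, split_part3, split_part4, split_part5, split_part6, split_part7, split_part8, split_part9, split_part10, split_part11])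
  replace this := List.all_eq_true.1 this p hp
  exact Nat.eq_of_beq_eq_true (List.all_eq_true.1 this f hf)

theorem exists_zip {α β : Type*} {l : List α} {l' : List β} (h : l.length = l'.length) {b : β} (hb : b ∈ l') :
    ∃ a, (a, b) ∈ l.zip l' := by
  obtain ⟨i, hi, rfl⟩ := List.getElem_of_mem hb
  refine ⟨l[i]'(by omega), ?_⟩
  have hz : i < (l.zip l').length := by simp only [List.length_zip]; omega
  have := List.getElem_mem hz
  rwa [List.getElem_zip] at this

/-- Every element of the centralizer is a word in the generators. -/
theorem Mem.exists_word {c : ℕ} (h : Mem c) : ∃ w : List ℕ, (∀ s ∈ w, s < 6) ∧ wC w = c := by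
  have he := h.mem_elems
  simp only [elems, List.mem_flatMap, List.mem_map] at he
  obtain ⟨p, hp, f, hf, rfl⟩ := he
  obtain ⟨v, hv⟩ := exists_zip wordsH_ok.1 hp
  obtain ⟨w, hw⟩ := exists_zip wordsF_ok.1 hf
  have hv' := List.all_eq_true.1 wordsH_ok.2 _ hv
  have hw' := List.all_eq_true.1 wordsF_ok.2 _ hw
  simp only [partOk, Bool.and_eq_true, List.all_eq_true, Nat.blt_eq, Nat.beq_eq] at hv' hw'
  exact ⟨v ++ w, fun s hs => (List.mem_append.1 hs).elim (hv'.1 s) (hw'.1 s),
    by rw [wC_append, hv'.2, hw'.2, split_all hp hf]⟩

/-- Induction along the generators. -/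
theorem Mem.gen_induction {P : ℕ → Prop} (h1 : P oneC) (hg : ∀ s < 6, ∀ c, Mem c → P c → P (mulC (gensH.getD s oneC) c))
    {c : ℕ} (h : Mem c) : P c := by
  obtain ⟨w, hw, rfl⟩ := h.exists_word
  clear h
  induction w with
  | nil => exact h1
  | cons s w ih => exact hg s (hw s (List.mem_cons_self ..)) _ (mem_wC w) (ih fun t ht => hw t (List.mem_cons_of_mem _ ht))

theorem cls_gen : (invTab.all fun e => gensH.all fun g => Nat.beq (clsF (cjC g e.1)) e.2.1) = true := by decide +kernel

/-- The class is constant on conjugates. -/
theorem cls_conj {h x : ℕ} (hh : Mem h) (hx : clsF x < noVal) : clsF (cjC h x) = clsF x := by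
  obtain ⟨hxm, h1, -⟩ := clsF_none hx
  revert x
  refine hh.gen_induction (P := fun h => ∀ {x : ℕ}, clsF x < noVal → Mem x → mulC x x = oneC → clsF (cjC h x) = clsF x) ?_ ?_
  · intro x hx hxm _
    rw [cjC, force_eq, hxm.one_mul, show invC oneC = oneC by decide +kernel, hxm.mul_one]
  · intro s hs c hc ih x hx hxm h1
    have e := ih hx hxm h1
    obtain ⟨hym, hy1, hy2⟩ := clsF_none (e ▸ hx)
    obtain ⟨p, hp, hpe⟩ := clsF_lt (e ▸ hx)
    have hg : gensH.getD s oneC ∈ gensH := by
      have hl : gensH.length = 6 := by decide +kernel
      rw [List.getD_eq_getElem _ _ (by omega)]; exact List.getElem_mem _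
    have := Nat.eq_of_beq_eq_true (List.all_eq_true.1 (List.all_eq_true.1 cls_gen p hp) _ hg)
    rw [(invTab_spec hp).2.1.symm, hpe] at this
    have hcj : cjC (mulC (gensH.getD s oneC) c) x = cjC (gensH.getD s oneC) (cjC c x) := by
      have hm := gen_mem s
      refine toPerm_inj (Mem.cj (hm.mul hc) hxm) (Mem.cj hm (Mem.cj hc hxm)) ?_
      simp only [cjC, force_eq]
      rw [toPerm_mul ((hm.mul hc).mul hxm) (hm.mul hc).inv, toPerm_mul (hm.mul hc) hxm,
        toPerm_mul (hm.mul ((hc.mul hxm).mul hc.inv)) hm.inv, toPerm_mul hm ((hc.mul hxm).mul hc.inv),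
        toPerm_mul (hc.mul hxm) hc.inv, toPerm_mul hc hxm, (hm.mul hc).inv_spec.2, hc.inv_spec.2, hm.inv_spec.2,
        toPerm_mul hm hc]
      group
    rw [hcj, this, e]

end Cfsg.Agent.Fus.SymSix
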