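import Cfsg.Agent.Lib.Fus.SymSix.Swap

/-!
# Existence of the swapping elements
-/

set_option autoImplicit false
set_option maxRecDepth 100000

namespace Cfsg.Agent.Fus.SymSix

/-- A class is the only possible partner of itself. -/
def selfOk (m c : ℕ) : Bool :=
  inMask m c && !Nat.beq c 0 && (candCls.any fun d => Nat.beq d c) &&
    candCls.all fun d => Nat.beq d c || !inMask m d || !match2 m c d

namespace Loc

variable {G : Type*} [Group G] {z : G} {I : ℕ → G} (L : Loc z I)
include L

theorem exists_sigma {m c : ℕ} (hm : ∀ k < noVal, inMask m k = true ↔ IsConj (I (repC k)) z)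
    (h : selfOk m c = true) : ∃ σ : G, σ * z * σ⁻¹ = I (repC c) ∧ σ * I (repC c) * σ⁻¹ = z := by
  simp only [selfOk, Bool.and_eq_true, Bool.not_eq_true', List.any_eq_true, Nat.beq_eq, exists_eq_right,
    List.all_eq_true, Bool.or_eq_true, ← Bool.not_eq_true] at h
  obtain ⟨⟨⟨hc, hc0⟩, hcc⟩, hall⟩ := h
  have hlt : c < noVal := by
    simp only [candCls, List.mem_cons, List.not_mem_nil, or_false] at hcc
    simp only [noVal]; omega
  obtain ⟨g, d, hd, hd0, hF, h1, h2⟩ := L.exists_partner hlt hc0 ((hm c hlt).1 hc)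
  have hdc : d ∈ candCls := by
    have hcases : ∀ e < 10, e ≠ 0 → e ∈ candCls ∨ e ∈ [2, 4, 8] := by decide +kernel
    exact (hcases d hd hd0).resolve_right fun h => L.square_not_fused h hF
  have e : d = c := by
    rcases hall d hdc with (e | e) | e
    · exact e
    · exact absurd ((hm d hd).2 hF) e
    · exact absurd (L.match_eq hcc hdc hm h1 h2) e
  subst e
  exact ⟨g, h2, h1⟩

theorem no_option {m c : ℕ} (hm : ∀ k < noVal, inMask m k = true ↔ IsConj (I (repC k)) z)
    (h : selfOk m c = true) {gens : List ℕ} {lv : List (List ℕ × List (List ℕ × ℕ))}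
    {leaf : List (List ℕ × ℕ × ℕ)} {first : List (ℕ × ℕ)} (hpsi : psiOk m c gens [] lv leaf first = true) :
    False := by
  obtain ⟨σ, h1, h2⟩ := L.exists_sigma hm h
  obtain ⟨o, ho, -⟩ := L.psi_conj hm hpsi h1 h2
  exact Nat.not_lt_zero o ho

theorem exists_option {m c : ℕ} (hm : ∀ k < noVal, inMask m k = true ↔ IsConj (I (repC k)) z)
    (h : selfOk m c = true) {gens : List ℕ} {imgsL : List (List ℕ)} {lv : List (List ℕ × List (List ℕ × ℕ))}
    {leaf : List (List ℕ × ℕ × ℕ)} {first : List (ℕ × ℕ)} (hpsi : psiOk m c gens imgsL lv leaf first = true)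
    {trees : List CTree}
    (htr : ∀ o < imgsL.length,
      treeOk c (gens ++ [zC, repC c]) ((imgsL.getD o []) ++ [repC c, zC]) (trees.getD o .leaf) = true) :
    ∃ o < imgsL.length, ∃ g, Acts I g (trees.getD o .leaf) := by
  obtain ⟨σ, h1, h2⟩ := L.exists_sigma hm h
  obtain ⟨o, ho, k, hk, hku, hall⟩ := L.psi_conj hm hpsi h1 h2
  have hlen : (imgsL.getD o []).length = gens.length := by
    have hp := hpsi
    simp only [psiOk, Bool.and_eq_true, List.all_eq_true, Nat.beq_eq] at hp
    rw [List.getD_eq_getElem imgsL [] ho]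
    exact (hp.1.1.1.1.1.1 _ (List.getElem_mem ho)).2
  exact ⟨o, ho, _, L.acts_corrected (htr o ho) hlen h1 h2 hk hku hall⟩

end Loc

end Cfsg.Agent.Fus.SymSix
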