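import Mathlib

/-! Generated data for the centralizer of six transpositions. -/

set_option autoImplicit false
set_option maxRecDepth 100000

namespace Cfsg.Agent.Fus.SymSix

/-- The classes of the commuting involutions and their products, at the class `1`. -/
def pairA1 : List (ℕ × ℕ) := [
  (3, 2), (7, 2), (2, 1), (6, 5), (7, 2), (3, 2), (2, 1), (6, 5), (3, 2), (7, 2), (2, 1), (6, 5),
  (7, 2), (3, 2), (2, 1), (6, 5), (3, 2), (7, 2), (2, 1), (6, 5), (7, 2), (3, 2), (2, 1), (6, 5),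
  (2, 1), (2, 1), (2, 1), (2, 1), (2, 1), (2, 1), (1, 10), (5, 4), (5, 4), (5, 4), (6, 5), (6, 5),
  (6, 5), (6, 5), (5, 4), (5, 4), (6, 5), (6, 5), (5, 4), (9, 8), (7, 6), (3, 6), (2, 5), (6, 9),
  (3, 6), (7, 6), (2, 5), (6, 9), (7, 6), (3, 6), (2, 5), (6, 9), (3, 6), (7, 6), (2, 5), (6, 9),
  (7, 6), (3, 6), (2, 5), (6, 9), (3, 6), (7, 6), (2, 5), (6, 9), (2, 5), (2, 5), (2, 5), (2, 5),
  (2, 5), (2, 5), (1, 4), (5, 8), (5, 8), (5, 8), (6, 9), (6, 9), (6, 9), (6, 9), (5, 8), (5, 8),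
  (6, 9), (6, 9), (5, 8), (9, 0), (2, 3), (2, 7), (1, 2), (5, 6), (2, 7), (2, 3), (1, 2), (5, 6),
  (2, 3), (2, 7), (1, 2), (5, 6), (2, 7), (2, 3), (1, 2), (5, 6), (2, 3), (2, 7), (1, 2), (5, 6),
  (2, 7), (2, 3), (1, 2), (5, 6), (1, 2), (1, 2), (1, 2), (1, 2), (1, 2), (1, 2), (4, 5), (4, 5),
  (4, 5), (5, 6), (5, 6), (5, 6), (5, 6), (4, 5), (4, 5), (5, 6), (5, 6), (4, 5), (8, 9), (6, 7),
  (6, 3), (5, 2), (9, 6), (6, 3), (6, 7), (5, 2), (9, 6), (6, 7), (6, 3), (5, 2), (9, 6), (6, 3),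
  (6, 7), (5, 2), (9, 6), (6, 7), (6, 3), (5, 2), (9, 6), (6, 3), (6, 7), (5, 2), (9, 6), (5, 2),
  (5, 2), (5, 2), (5, 2), (5, 2), (5, 2), (4, 1), (8, 5), (8, 5), (8, 5), (9, 6), (9, 6), (9, 6),
  (9, 6), (8, 5), (8, 5), (9, 6), (9, 6), (8, 5), (0, 9)]

/-- The classes of the commuting involutions and their products, at the class `1`. -/
def pairB1 : List (ℕ × ℕ) := [
  (3, 7), (7, 3), (2, 6), (6, 2), (7, 3), (3, 7), (2, 6), (6, 2), (3, 7), (7, 3), (2, 6), (6, 2),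
  (7, 3), (3, 7), (2, 6), (6, 2), (3, 7), (7, 3), (2, 6), (6, 2), (7, 3), (3, 7), (2, 6), (6, 2),
  (2, 6), (2, 6), (2, 6), (2, 6), (2, 6), (2, 6), (1, 9), (5, 5), (5, 5), (5, 5), (6, 2), (6, 2),
  (6, 2), (6, 2), (5, 5), (5, 5), (6, 2), (6, 2), (5, 5), (9, 1), (7, 3), (3, 7), (2, 6), (6, 2),
  (3, 7), (7, 3), (2, 6), (6, 2), (7, 3), (3, 7), (2, 6), (6, 2), (3, 7), (7, 3), (2, 6), (6, 2),
  (7, 3), (3, 7), (2, 6), (6, 2), (3, 7), (7, 3), (2, 6), (6, 2), (2, 6), (2, 6), (2, 6), (2, 6),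
  (2, 6), (2, 6), (1, 9), (5, 5), (5, 5), (5, 5), (6, 2), (6, 2), (6, 2), (6, 2), (5, 5), (5, 5),
  (6, 2), (6, 2), (5, 5), (9, 1), (2, 6), (2, 6), (1, 9), (5, 5), (2, 6), (2, 6), (1, 9), (5, 5),
  (2, 6), (2, 6), (1, 9), (5, 5), (2, 6), (2, 6), (1, 9), (5, 5), (2, 6), (2, 6), (1, 9), (5, 5),
  (2, 6), (2, 6), (1, 9), (5, 5), (1, 9), (1, 9), (1, 9), (1, 9), (1, 9), (1, 9), (4, 8), (4, 8),
  (4, 8), (5, 5), (5, 5), (5, 5), (5, 5), (4, 8), (4, 8), (5, 5), (5, 5), (4, 8), (8, 4), (6, 2),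
  (6, 2), (5, 5), (9, 1), (6, 2), (6, 2), (5, 5), (9, 1), (6, 2), (6, 2), (5, 5), (9, 1), (6, 2),
  (6, 2), (5, 5), (9, 1), (6, 2), (6, 2), (5, 5), (9, 1), (6, 2), (6, 2), (5, 5), (9, 1), (5, 5),
  (5, 5), (5, 5), (5, 5), (5, 5), (5, 5), (4, 8), (8, 4), (8, 4), (8, 4), (9, 1), (9, 1), (9, 1),
  (9, 1), (8, 4), (8, 4), (9, 1), (9, 1), (8, 4), (0, 10)]

/-- The classes of the commuting involutions and their products, at the class `3`. -/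
def pairA3 : List (ℕ × ℕ) := [
  (3, 2), (7, 6), (2, 3), (6, 7), (3, 2), (7, 6), (2, 3), (6, 7), (3, 2), (7, 6), (2, 3), (6, 7),
  (3, 2), (7, 6), (2, 3), (6, 7), (3, 2), (7, 6), (2, 3), (6, 7), (3, 2), (7, 6), (2, 3), (6, 7),
  (3, 2), (7, 6), (2, 3), (6, 7), (3, 2), (7, 6), (2, 3), (6, 7), (3, 2), (3, 2), (3, 2), (3, 2),
  (3, 10), (7, 4), (2, 1), (6, 1), (7, 4), (3, 8), (2, 5), (6, 5), (2, 1), (2, 5), (1, 2), (5, 2),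
  (6, 1), (6, 5), (5, 2), (9, 2), (7, 6), (7, 6), (7, 6), (7, 6), (7, 4), (3, 8), (2, 5), (6, 5),
  (3, 8), (7, 0), (2, 9), (6, 9), (2, 5), (2, 9), (1, 6), (5, 6), (6, 5), (6, 9), (5, 6), (9, 6),
  (2, 3), (2, 3), (2, 3), (2, 3), (2, 1), (2, 5), (1, 2), (5, 2), (2, 5), (2, 9), (1, 6), (5, 6),
  (1, 2), (1, 6), (4, 7), (5, 2), (5, 6), (4, 7), (8, 3), (6, 7), (6, 7), (6, 7), (6, 7), (6, 1),
  (6, 5), (5, 2), (9, 2), (6, 5), (6, 9), (5, 6), (9, 6), (5, 2), (5, 6), (4, 7), (8, 3), (9, 2),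
  (9, 6), (8, 3), (0, 7)]

/-- The classes of the commuting involutions and their products, at the class `3`. -/
def pairB3 : List (ℕ × ℕ) := [
  (3, 7), (7, 3), (2, 6), (6, 2), (3, 7), (7, 3), (2, 6), (6, 2), (3, 7), (7, 3), (2, 6), (6, 2),
  (3, 7), (7, 3), (2, 6), (6, 2), (3, 7), (7, 3), (2, 6), (6, 2), (3, 7), (7, 3), (2, 6), (6, 2),
  (3, 7), (7, 3), (2, 6), (6, 2), (3, 7), (7, 3), (2, 6), (6, 2), (3, 7), (3, 7), (3, 7), (3, 7),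
  (3, 7), (7, 3), (2, 6), (6, 2), (7, 3), (3, 7), (2, 6), (6, 2), (2, 6), (2, 6), (1, 9), (5, 5),
  (6, 2), (6, 2), (5, 5), (9, 1), (7, 3), (7, 3), (7, 3), (7, 3), (7, 3), (3, 7), (2, 6), (6, 2),
  (3, 7), (7, 3), (2, 6), (6, 2), (2, 6), (2, 6), (1, 9), (5, 5), (6, 2), (6, 2), (5, 5), (9, 1),
  (2, 6), (2, 6), (2, 6), (2, 6), (2, 6), (2, 6), (1, 9), (5, 5), (2, 6), (2, 6), (1, 9), (5, 5),
  (1, 9), (1, 9), (4, 8), (5, 5), (5, 5), (4, 8), (8, 4), (6, 2), (6, 2), (6, 2), (6, 2), (6, 2),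
  (6, 2), (5, 5), (9, 1), (6, 2), (6, 2), (5, 5), (9, 1), (5, 5), (5, 5), (4, 8), (8, 4), (9, 1),
  (9, 1), (8, 4), (0, 10)]

/-- The classes of the commuting involutions and their products, at the class `5`. -/
def pairA5 : List (ℕ × ℕ) := [
  (3, 2), (7, 2), (2, 1), (6, 5), (7, 6), (3, 6), (2, 5), (6, 9), (2, 7), (2, 3), (1, 2), (5, 6),
  (6, 3), (6, 7), (5, 2), (9, 6), (7, 2), (3, 2), (2, 1), (6, 5), (3, 6), (7, 6), (2, 5), (6, 9),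
  (2, 3), (2, 7), (1, 2), (5, 6), (6, 7), (6, 3), (5, 2), (9, 6), (2, 5), (2, 5), (1, 4), (5, 8),
  (2, 9), (2, 9), (1, 8), (5, 0), (1, 6), (1, 6), (4, 9), (5, 6), (5, 6), (4, 5), (8, 9), (5, 4),
  (5, 4), (5, 8), (5, 8), (4, 5), (4, 5), (8, 5), (8, 5), (5, 4), (5, 4), (5, 8), (5, 8), (4, 5),
  (4, 5), (8, 5), (8, 5), (6, 1), (6, 1), (5, 10), (9, 4), (6, 5), (6, 5), (5, 4), (9, 8), (5, 2),
  (5, 2), (4, 1), (8, 5), (9, 2), (9, 2), (8, 1), (0, 5)]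

/-- The classes of the commuting involutions and their products, at the class `5`. -/
def pairB5 : List (ℕ × ℕ) := [
  (3, 7), (7, 3), (2, 6), (6, 2), (7, 3), (3, 7), (2, 6), (6, 2), (2, 6), (2, 6), (1, 9), (5, 5),
  (6, 2), (6, 2), (5, 5), (9, 1), (7, 3), (3, 7), (2, 6), (6, 2), (3, 7), (7, 3), (2, 6), (6, 2),
  (2, 6), (2, 6), (1, 9), (5, 5), (6, 2), (6, 2), (5, 5), (9, 1), (2, 6), (2, 6), (1, 9), (5, 5),
  (2, 6), (2, 6), (1, 9), (5, 5), (1, 9), (1, 9), (4, 8), (5, 5), (5, 5), (4, 8), (8, 4), (5, 5),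
  (5, 5), (5, 5), (5, 5), (4, 8), (4, 8), (8, 4), (8, 4), (5, 5), (5, 5), (5, 5), (5, 5), (4, 8),
  (4, 8), (8, 4), (8, 4), (6, 2), (6, 2), (5, 5), (9, 1), (6, 2), (6, 2), (5, 5), (9, 1), (5, 5),
  (5, 5), (4, 8), (8, 4), (9, 1), (9, 1), (8, 4), (0, 10)]

/-- The classes of the commuting involutions and their products, at the class `6`. -/
def pairA6 : List (ℕ × ℕ) := [
  (3, 7), (3, 7), (3, 7), (3, 7), (3, 1), (7, 5), (2, 2), (6, 2), (7, 5), (3, 9), (2, 6), (6, 6),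
  (2, 2), (2, 6), (1, 7), (5, 3), (6, 2), (6, 6), (5, 3), (9, 7), (7, 3), (7, 3), (7, 3), (7, 3),
  (7, 1), (3, 5), (2, 2), (6, 2), (3, 5), (7, 9), (2, 6), (6, 6), (2, 2), (2, 6), (1, 3), (5, 7),
  (6, 2), (6, 6), (5, 7), (9, 3), (2, 6), (2, 6), (2, 6), (2, 6), (2, 4), (2, 8), (1, 5), (5, 5),
  (2, 8), (2, 0), (1, 9), (5, 9), (1, 5), (1, 9), (4, 6), (5, 5), (5, 9), (4, 6), (8, 6), (6, 2),
  (6, 2), (6, 2), (6, 2), (6, 10), (6, 4), (5, 1), (9, 1), (6, 4), (6, 8), (5, 5), (9, 5), (5, 1),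
  (5, 5), (4, 2), (8, 2), (9, 1), (9, 5), (8, 2), (0, 2)]

/-- The classes of the commuting involutions and their products, at the class `6`. -/
def pairB6 : List (ℕ × ℕ) := [
  (3, 7), (3, 7), (3, 7), (3, 7), (3, 7), (7, 3), (2, 6), (6, 2), (7, 3), (3, 7), (2, 6), (6, 2),
  (2, 6), (2, 6), (1, 9), (5, 5), (6, 2), (6, 2), (5, 5), (9, 1), (7, 3), (7, 3), (7, 3), (7, 3),
  (7, 3), (3, 7), (2, 6), (6, 2), (3, 7), (7, 3), (2, 6), (6, 2), (2, 6), (2, 6), (1, 9), (5, 5),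
  (6, 2), (6, 2), (5, 5), (9, 1), (2, 6), (2, 6), (2, 6), (2, 6), (2, 6), (2, 6), (1, 9), (5, 5),
  (2, 6), (2, 6), (1, 9), (5, 5), (1, 9), (1, 9), (4, 8), (5, 5), (5, 5), (4, 8), (8, 4), (6, 2),
  (6, 2), (6, 2), (6, 2), (6, 2), (6, 2), (5, 5), (9, 1), (6, 2), (6, 2), (5, 5), (9, 1), (5, 5),
  (5, 5), (4, 8), (8, 4), (9, 1), (9, 1), (8, 4), (0, 10)]

/-- The classes of the commuting involutions and their products, at the class `7`. -/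
def pairA7 : List (ℕ × ℕ) := [
  (7, 2), (3, 6), (2, 7), (6, 3), (7, 2), (3, 6), (2, 7), (6, 3), (7, 2), (3, 6), (2, 7), (6, 3),
  (7, 2), (3, 6), (2, 7), (6, 3), (7, 2), (3, 6), (2, 7), (6, 3), (7, 2), (3, 6), (2, 7), (6, 3),
  (7, 2), (3, 6), (2, 7), (6, 3), (7, 2), (3, 6), (2, 7), (6, 3), (3, 6), (3, 6), (3, 6), (3, 6),
  (3, 4), (7, 8), (2, 5), (6, 5), (7, 8), (3, 0), (2, 9), (6, 9), (2, 5), (2, 9), (1, 6), (5, 6),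
  (6, 5), (6, 9), (5, 6), (9, 6), (7, 2), (7, 2), (7, 2), (7, 2), (7, 10), (3, 4), (2, 1), (6, 1),
  (3, 4), (7, 8), (2, 5), (6, 5), (2, 1), (2, 5), (1, 2), (5, 2), (6, 1), (6, 5), (5, 2), (9, 2),
  (2, 7), (2, 7), (2, 7), (2, 7), (2, 1), (2, 5), (1, 2), (5, 2), (2, 5), (2, 9), (1, 6), (5, 6),
  (1, 2), (1, 6), (4, 3), (5, 2), (5, 6), (4, 3), (8, 7), (6, 3), (6, 3), (6, 3), (6, 3), (6, 1),
  (6, 5), (5, 2), (9, 2), (6, 5), (6, 9), (5, 6), (9, 6), (5, 2), (5, 6), (4, 3), (8, 7), (9, 2),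
  (9, 6), (8, 7), (0, 3)]

/-- The classes of the commuting involutions and their products, at the class `7`. -/
def pairB7 : List (ℕ × ℕ) := [
  (7, 3), (3, 7), (2, 6), (6, 2), (7, 3), (3, 7), (2, 6), (6, 2), (7, 3), (3, 7), (2, 6), (6, 2),
  (7, 3), (3, 7), (2, 6), (6, 2), (7, 3), (3, 7), (2, 6), (6, 2), (7, 3), (3, 7), (2, 6), (6, 2),
  (7, 3), (3, 7), (2, 6), (6, 2), (7, 3), (3, 7), (2, 6), (6, 2), (3, 7), (3, 7), (3, 7), (3, 7),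
  (3, 7), (7, 3), (2, 6), (6, 2), (7, 3), (3, 7), (2, 6), (6, 2), (2, 6), (2, 6), (1, 9), (5, 5),
  (6, 2), (6, 2), (5, 5), (9, 1), (7, 3), (7, 3), (7, 3), (7, 3), (7, 3), (3, 7), (2, 6), (6, 2),
  (3, 7), (7, 3), (2, 6), (6, 2), (2, 6), (2, 6), (1, 9), (5, 5), (6, 2), (6, 2), (5, 5), (9, 1),
  (2, 6), (2, 6), (2, 6), (2, 6), (2, 6), (2, 6), (1, 9), (5, 5), (2, 6), (2, 6), (1, 9), (5, 5),
  (1, 9), (1, 9), (4, 8), (5, 5), (5, 5), (4, 8), (8, 4), (6, 2), (6, 2), (6, 2), (6, 2), (6, 2),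
  (6, 2), (5, 5), (9, 1), (6, 2), (6, 2), (5, 5), (9, 1), (5, 5), (5, 5), (4, 8), (8, 4), (9, 1),
  (9, 1), (8, 4), (0, 10)]

/-- The classes of the commuting involutions and their products, at the class `9`. -/
def pairA9 : List (ℕ × ℕ) := [
  (3, 2), (7, 6), (2, 3), (6, 7), (7, 2), (3, 6), (2, 7), (6, 3), (2, 5), (2, 9), (1, 6), (5, 6),
  (6, 1), (6, 5), (5, 2), (9, 2), (7, 2), (3, 6), (2, 7), (6, 3), (3, 2), (7, 6), (2, 3), (6, 7),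
  (2, 5), (2, 9), (1, 6), (5, 6), (6, 1), (6, 5), (5, 2), (9, 2), (3, 2), (7, 6), (2, 3), (6, 7),
  (7, 2), (3, 6), (2, 7), (6, 3), (2, 5), (2, 9), (1, 6), (5, 6), (6, 1), (6, 5), (5, 2), (9, 2),
  (7, 2), (3, 6), (2, 7), (6, 3), (3, 2), (7, 6), (2, 3), (6, 7), (2, 5), (2, 9), (1, 6), (5, 6),
  (6, 1), (6, 5), (5, 2), (9, 2), (3, 2), (7, 6), (2, 3), (6, 7), (7, 2), (3, 6), (2, 7), (6, 3),
  (2, 5), (2, 9), (1, 6), (5, 6), (6, 1), (6, 5), (5, 2), (9, 2), (7, 2), (3, 6), (2, 7), (6, 3),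
  (3, 2), (7, 6), (2, 3), (6, 7), (2, 5), (2, 9), (1, 6), (5, 6), (6, 1), (6, 5), (5, 2), (9, 2),
  (2, 5), (2, 9), (1, 6), (5, 6), (2, 5), (2, 9), (1, 6), (5, 6), (2, 5), (2, 9), (1, 6), (5, 6),
  (2, 5), (2, 9), (1, 6), (5, 6), (2, 5), (2, 9), (1, 6), (5, 6), (2, 5), (2, 9), (1, 6), (5, 6),
  (1, 8), (1, 0), (4, 9), (5, 4), (5, 8), (4, 5), (8, 5), (5, 4), (5, 8), (4, 5), (8, 5), (5, 4),
  (5, 8), (4, 5), (8, 5), (6, 1), (6, 5), (5, 2), (9, 2), (6, 1), (6, 5), (5, 2), (9, 2), (6, 1),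
  (6, 5), (5, 2), (9, 2), (6, 1), (6, 5), (5, 2), (9, 2), (5, 4), (5, 8), (4, 5), (8, 5), (5, 4),
  (5, 8), (4, 5), (8, 5), (6, 1), (6, 5), (5, 2), (9, 2), (6, 1), (6, 5), (5, 2), (9, 2), (5, 4),
  (5, 8), (4, 5), (8, 5), (9, 10), (9, 4), (8, 1), (0, 1)]

/-- The classes of the commuting involutions and their products, at the class `9`. -/
def pairB9 : List (ℕ × ℕ) := [
  (3, 7), (7, 3), (2, 6), (6, 2), (7, 3), (3, 7), (2, 6), (6, 2), (2, 6), (2, 6), (1, 9), (5, 5),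
  (6, 2), (6, 2), (5, 5), (9, 1), (7, 3), (3, 7), (2, 6), (6, 2), (3, 7), (7, 3), (2, 6), (6, 2),
  (2, 6), (2, 6), (1, 9), (5, 5), (6, 2), (6, 2), (5, 5), (9, 1), (3, 7), (7, 3), (2, 6), (6, 2),
  (7, 3), (3, 7), (2, 6), (6, 2), (2, 6), (2, 6), (1, 9), (5, 5), (6, 2), (6, 2), (5, 5), (9, 1),
  (7, 3), (3, 7), (2, 6), (6, 2), (3, 7), (7, 3), (2, 6), (6, 2), (2, 6), (2, 6), (1, 9), (5, 5),
  (6, 2), (6, 2), (5, 5), (9, 1), (3, 7), (7, 3), (2, 6), (6, 2), (7, 3), (3, 7), (2, 6), (6, 2),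
  (2, 6), (2, 6), (1, 9), (5, 5), (6, 2), (6, 2), (5, 5), (9, 1), (7, 3), (3, 7), (2, 6), (6, 2),
  (3, 7), (7, 3), (2, 6), (6, 2), (2, 6), (2, 6), (1, 9), (5, 5), (6, 2), (6, 2), (5, 5), (9, 1),
  (2, 6), (2, 6), (1, 9), (5, 5), (2, 6), (2, 6), (1, 9), (5, 5), (2, 6), (2, 6), (1, 9), (5, 5),
  (2, 6), (2, 6), (1, 9), (5, 5), (2, 6), (2, 6), (1, 9), (5, 5), (2, 6), (2, 6), (1, 9), (5, 5),
  (1, 9), (1, 9), (4, 8), (5, 5), (5, 5), (4, 8), (8, 4), (5, 5), (5, 5), (4, 8), (8, 4), (5, 5),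
  (5, 5), (4, 8), (8, 4), (6, 2), (6, 2), (5, 5), (9, 1), (6, 2), (6, 2), (5, 5), (9, 1), (6, 2),
  (6, 2), (5, 5), (9, 1), (6, 2), (6, 2), (5, 5), (9, 1), (5, 5), (5, 5), (4, 8), (8, 4), (5, 5),
  (5, 5), (4, 8), (8, 4), (6, 2), (6, 2), (5, 5), (9, 1), (6, 2), (6, 2), (5, 5), (9, 1), (5, 5),
  (5, 5), (4, 8), (8, 4), (9, 1), (9, 1), (8, 4), (0, 10)]

/-- Square roots of the representatives of three classes. -/
def rootList : List (ℕ × ℕ) := [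
  (2, 4630560), (4, 10118177), (8, 7710752)]

/-- The permutation of the classes by the outer automorphism. -/
def tauCls : List ℕ := [
  0, 9, 2, 7, 4, 5, 6, 3, 8, 1]

end Cfsg.Agent.Fus.SymSix
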