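import Cfsg.Agent.Lib.Fus.SymSix.Classes
import Cfsg.Agent.Lib.Fus.SymSix.FusionData

/-!
# The outer automorphism of the centralizer
-/

set_option autoImplicit false
set_option maxRecDepth 100000

namespace Cfsg.Agent.Fus.SymSix

/-- The sign of the action on the six pairs. -/
noncomputable def sgnH (c : ℕ) : ℤˣ :=
  if h : Function.Injective (halfF c) then
    Equiv.Perm.sign (Equiv.ofBijective (halfF c) (Finite.injective_iff_bijective.1 h)) else 1

theorem Mem.halfF_mul {a b : ℕ} (ha : Mem a) (hb : Mem b) (i : Fin 6) :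
    halfF (mulC a b) i = halfF a (halfF b i) := by
  have hn := hb.nib_lt12 i.2
  have h2 : nib b i / 2 < 6 := by omega
  refine Fin.ext ?_
  show nib (mulC a b) i / 2 % 6 = nib a (nib b i / 2 % 6) / 2 % 6
  rw [nib_mulC a b i.2, app, (xor_low _ (nib_lt a _) _ (Nat.mod_lt _ (by norm_num))).1, Nat.mod_eq_of_lt h2]

theorem Mem.sgnH_mul {a b : ℕ} (ha : Mem a) (hb : Mem b) : sgnH (mulC a b) = sgnH a * sgnH b := by
  rw [sgnH, sgnH, sgnH, dif_pos (ha.mul hb).halfF_inj, dif_pos ha.halfF_inj, dif_pos hb.halfF_inj, ← map_mul]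
  exact congrArg _ (Equiv.ext fun i => ha.halfF_mul hb i)

theorem sgnH_z : sgnH zC = 1 := by decide +kernel

/-- The outer automorphism: multiplication by the central involution on the odd part. -/
noncomputable def tauC (c : ℕ) : ℕ := if sgnH c = 1 then c else mulC c zC

theorem z_z : mulC zC zC = oneC := by decide +kernel

theorem Mem.tau {c : ℕ} (hc : Mem c) : Mem (tauC c) := by
  unfold tauC; split
  exacts [hc, hc.mul mem_z]

theorem Mem.sgnH_tau {c : ℕ} (hc : Mem c) : sgnH (tauC c) = sgnH c := by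
  unfold tauC; split
  · rfl
  · rw [hc.sgnH_mul mem_z, sgnH_z, _root_.mul_one]

theorem Mem.tau_mul {a b : ℕ} (ha : Mem a) (hb : Mem b) : tauC (mulC a b) = mulC (tauC a) (tauC b) := by
  have hm : (-1 : ℤˣ) ≠ 1 := by decide
  rcases Int.units_eq_one_or (sgnH a) with h | h <;> rcases Int.units_eq_one_or (sgnH b) with h' | h'
  · simp [tauC, ha.sgnH_mul hb, h, h']
  · simp [tauC, ha.sgnH_mul hb, h, h', hm, mulC_assoc hb mem_z]
  · simp only [tauC, ha.sgnH_mul hb, h, h', _root_.mul_one, if_neg hm, if_true]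
    rw [mulC_assoc hb mem_z, hb.comm_z, ← mulC_assoc mem_z hb]
  · simp only [tauC, ha.sgnH_mul hb, h, h', show (-1 : ℤˣ) * -1 = 1 by decide, if_neg hm, if_true]
    rw [mulC_assoc mem_z (hb.mul mem_z), ← mulC_assoc hb mem_z, ← hb.comm_z, mulC_assoc mem_z mem_z, z_z, hb.mul_one]

theorem Mem.tau_tau {a : ℕ} (ha : Mem a) : tauC (tauC a) = a := by
  rw [tauC, ha.sgnH_tau, tauC]
  split
  · rfl
  · rw [mulC_assoc mem_z mem_z, z_z, ha.mul_one]

theorem tau_z : tauC zC = zC := if_pos sgnH_z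

theorem tau_cls : ((List.range 10).all fun i => Nat.beq (clsF (tauC (repC i))) (tauCls.getD i 0)) = true := by
  decide +kernel

namespace Loc

variable {G : Type*} [Group G] {z : G} {I : ℕ → G} (L : Loc z I)
include L

theorem twisted : Loc z (fun c => I (tauC c)) where
  hom a b ha hb := by rw [ha.tau_mul hb, L.hom _ _ ha.tau hb.tau]
  inj a b ha hb h := by rw [← ha.tau_tau, L.inj _ _ ha.tau hb.tau h, hb.tau_tau]
  range x := by
    rw [L.range x]
    exact ⟨fun ⟨c, hc, e⟩ => ⟨tauC c, hc.tau, by rw [hc.tau_tau, e]⟩, fun ⟨c, hc, e⟩ => ⟨tauC c, hc.tau, e⟩⟩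
  map_z := by rw [tau_z, L.map_z]

theorem fused_twisted {i : ℕ} (hi : i < noVal) :
    IsConj (I (tauC (repC i))) z ↔ IsConj (I (repC (tauCls.getD i 0))) z := by
  have h := List.all_eq_true.1 tau_cls i (List.mem_range.2 hi)
  rw [Nat.beq_eq] at h
  rw [L.fused_cls (Mem.rep i).tau, h]
  have hlt : tauCls.getD i 0 < noVal := (show ∀ i < 10, tauCls.getD i 0 < 10 by decide) i hi
  exact ⟨fun h => h.2, fun h => ⟨hlt, h⟩⟩

end Loc

end Cfsg.Agent.Fus.SymSix
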