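import Cfsg.Agent.Lib.Fus.SymSix.Roots
import Cfsg.Agent.Lib.Fus.SymSix.Twist

/-!
# The possible fusion patterns
-/

set_option autoImplicit false
set_option maxRecDepth 100000

namespace Cfsg.Agent.Fus.SymSix

/-- The classes of a mask, the class `0` always among them. -/
def inMask (m c : ℕ) : Bool := Nat.beq c 0 || (Nat.blt c noVal && m.testBit c)

/-- Being fused according to a mask. -/
noncomputable def fz (m x : ℕ) : Bool := inMask m (clsF x)

/-- The recorded pairs with the representative. -/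
def pairA : ℕ → List (ℕ × ℕ)
  | 1 => pairA1 | 3 => pairA3 | 5 => pairA5 | 6 => pairA6 | 7 => pairA7 | 9 => pairA9 | _ => []

/-- The recorded pairs with the central involution. -/
def pairB : ℕ → List (ℕ × ℕ)
  | 1 => pairB1 | 3 => pairB3 | 5 => pairB5 | 6 => pairB6 | 7 => pairB7 | 9 => pairB9 | _ => []

/-- The classes not yet excluded. -/
def candCls : List ℕ := [1, 3, 5, 6, 7, 9]

/-- The involutions commuting with a representative. -/
def invCent (c : ℕ) : List (ℕ × ℕ × ℕ) := invTab.filter fun e => commC e.1 (repC c)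

theorem pairs_ok : (candCls.all fun c =>
    ((invCent c).map (fun e => (e.2.1, clsF (mulC e.1 (repC c)))) == pairA c) &&
      ((invCent c).map (fun e => (e.2.1, clsF (mulC e.1 zC))) == pairB c)) = true := by decide +kernel

theorem invTab_sorted : List.Pairwise (fun a b : ℕ => a < b) (invTab.map Prod.fst) := by
  have h : ((invTab.map Prod.fst).zip ((invTab.map Prod.fst).drop 1)).all (fun p => Nat.blt p.1 p.2) = true := by
    decide +kernel
  refine List.isChain_iff_pairwise.1 (List.isChain_iff_getElem.2 fun i hi => ?_)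
  have hi' : i < ((invTab.map Prod.fst).zip ((invTab.map Prod.fst).drop 1)).length := by
    simp only [List.length_zip, List.length_drop]; omega
  have := List.all_eq_true.1 h _ (List.getElem_mem hi')
  simpa [List.getElem_zip, Nat.blt_eq, Nat.add_comm 1 i] using this

theorem invTab_fst_nodup : (invTab.map Prod.fst).Nodup := invTab_sorted.imp fun h => h.ne

/-- Counting the fused involutions. -/
def cnt1 (m : ℕ) (l : List (ℕ × ℕ)) : ℕ := (l.filter fun p => inMask m p.1).length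

/-- Counting the fused pairs. -/
def cnt (m : ℕ) (l : List (ℕ × ℕ)) : ℕ := (l.filter fun p => inMask m p.1 && inMask m p.2).length

/-- The counts of two classes agree. -/
def match2 (m c d : ℕ) : Bool :=
  Nat.beq (cnt1 m (pairA c)) (cnt1 m (pairA d)) && Nat.beq (cnt m (pairA c)) (cnt m (pairB d)) &&
    Nat.beq (cnt m (pairB c)) (cnt m (pairA d))

/-- The possible masks. -/
def maskList : List ℕ := [0, 2, 8, 10, 128, 130, 202, 512, 520, 640, 712]

theorem mask_ok : ((List.range 1024).all fun m =>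
    m.testBit 0 || m.testBit 2 || m.testBit 4 || m.testBit 8 ||
    !(candCls.all fun c => !m.testBit c || candCls.any fun d => m.testBit d && match2 m c d) ||
    maskList.any fun k => Nat.beq m k) = true := by decide +kernel

theorem length_filter_eq {α β : Type*} {l : List α} {l' : List β} (hl : l.Nodup) (hl' : l'.Nodup)
    {P : α → Bool} {Q : β → Bool} (R : α → β → Prop)
    (h1 : ∀ a ∈ l, P a = true → ∃ b ∈ l', Q b = true ∧ R a b)
    (h2 : ∀ b ∈ l', Q b = true → ∃ a ∈ l, P a = true ∧ R a b)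
    (hf : ∀ a b b', R a b → R a b' → b = b') (hg : ∀ a a' b, R a b → R a' b → a = a') :
    (l.filter P).length = (l'.filter Q).length := by
  classical
  rw [← List.toFinset_card_of_nodup (hl.filter P), ← List.toFinset_card_of_nodup (hl'.filter Q)]
  simp only [List.toFinset_filter]
  choose f hf1 hf2 hf3 using h1
  refine Finset.card_bij (fun a ha => f a (List.mem_toFinset.1 (Finset.mem_filter.1 ha).1) (Finset.mem_filter.1 ha).2)
    (fun a ha => Finset.mem_filter.2 ⟨List.mem_toFinset.2 (hf1 _ _ _), hf2 _ _ _⟩)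
    (fun a ha a' ha' e => hg _ _ _ (hf3 a _ _) (e ▸ hf3 a' _ _)) fun b hb => ?_
  obtain ⟨a, ha, hP, hR⟩ := h2 b (List.mem_toFinset.1 (Finset.mem_filter.1 hb).1) (Finset.mem_filter.1 hb).2
  exact ⟨a, Finset.mem_filter.2 ⟨List.mem_toFinset.2 ha, hP⟩, hf _ _ _ (hf3 a _ _) hR⟩

theorem invTab_spec {e : ℕ × ℕ × ℕ} (he : e ∈ invTab) : Mem e.1 ∧ clsF e.1 = e.2.1 ∧ e.2.1 < noVal := by
  have := List.all_eq_true.1 invTab_ok e he
  simp only [Bool.and_eq_true, Nat.beq_eq, Nat.blt_eq] at this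
  exact ⟨this.1.1.1.1.2, this.2, this.1.1.2⟩

/-- A number with given bits. -/
theorem exists_bits (f : ℕ → Bool) : ∀ n : ℕ, ∃ m, m < 2 ^ n ∧ ∀ i < n, m.testBit i = f i
  | 0 => ⟨0, by norm_num, fun i hi => absurd hi (Nat.not_lt_zero i)⟩
  | n + 1 => by
    obtain ⟨m, hm, h⟩ := exists_bits f n
    cases hb : f n
    · refine ⟨m, hm.trans (Nat.pow_lt_pow_succ (by norm_num)), fun i hi => ?_⟩
      rcases Nat.lt_succ_iff_lt_or_eq.1 hi with hi' | rfl
      · exact h i hi'
      · rw [Nat.testBit_lt_two_pow hm, hb]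
    · refine ⟨2 ^ n + m, by rw [pow_succ]; omega, fun i hi => ?_⟩
      rcases Nat.lt_succ_iff_lt_or_eq.1 hi with hi' | rfl
      · rw [Nat.testBit_two_pow_add_gt hi', h i hi']
      · rw [Nat.testBit_two_pow_add_eq, Nat.testBit_lt_two_pow hm, hb]; rfl

namespace Loc

variable {G : Type*} [Group G] {z : G} {I : ℕ → G} (L : Loc z I)
include L

theorem fused_mask {m : ℕ} (hm : ∀ i < noVal, inMask m i = true ↔ IsConj (I (repC i)) z) {x : ℕ} (hx : Mem x) :
    fz m x = true ↔ IsConj (I x) z := by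
  rw [fz, L.fused_cls hx]
  rcases Nat.lt_or_ge (clsF x) noVal with h | h
  · rw [hm _ h]; simp [h]
  · simp only [inMask, noVal, Bool.or_eq_true, Bool.and_eq_true, Nat.beq_eq, Nat.blt_eq] at h ⊢
    exact ⟨fun h' => by omega, fun h' => absurd h'.1 (by omega)⟩

/-- The partner of a fused class, with the conjugating element. -/
theorem exists_partner {c : ℕ} (hc : c < noVal) (h0 : c ≠ 0) (h : IsConj (I (repC c)) z) :
    ∃ g : G, ∃ d, d < noVal ∧ d ≠ 0 ∧ IsConj (I (repC d)) z ∧ g * I (repC c) * g⁻¹ = z ∧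
      g * z * g⁻¹ = I (repC d) := by
  obtain ⟨g, hg⟩ := isConj_iff.1 h
  have hcomm : (g * z * g⁻¹) * z = z * (g * z * g⁻¹) := by
    conv_lhs => arg 2; rw [← hg]
    conv_rhs => arg 1; rw [← hg]
    calc g * z * g⁻¹ * (g * I (repC c) * g⁻¹) = g * (z * I (repC c)) * g⁻¹ := by group
      _ = g * (I (repC c) * z) * g⁻¹ := by rw [L.comm_z (Mem.rep c)]
      _ = g * I (repC c) * g⁻¹ * (g * z * g⁻¹) := by group
  obtain ⟨w, hw, hwe⟩ := (L.range _).1 hcomm
  have hwz : IsConj (I w) z := isConj_iff.2 ⟨g⁻¹, by rw [hwe]; group⟩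
  obtain ⟨hlt, hF⟩ := (L.fused_cls hw).1 hwz
  obtain ⟨-, hw1, hw2⟩ := clsF_none hlt
  obtain ⟨-, k, hk, hkw⟩ := cls_spec hw hw1 hw2
  have hkz := L.comm_z hk
  refine ⟨(I k)⁻¹ * g, clsF w, hlt, fun h => ?_, hF, ?_, ?_⟩
  · apply h0
    have hs : I w = z := by
      rw [← hkw, h, L.map_cj hk (Mem.rep 0), repC_zero, L.map_z, hkz, mul_inv_cancel_right]
    have hzg : g * z * g⁻¹ = g * I (repC c) * g⁻¹ := by rw [← hwe, hs, hg]
    have : I (repC c) = z := (mul_left_cancel (mul_right_cancel hzg)).symm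
    rw [← L.map_z] at this
    have e := L.inj _ _ (Mem.rep c) mem_z this
    have h8 := List.all_eq_true.1 repC_ok c (List.mem_range.2 hc)
    simp only [Bool.and_eq_true, Nat.beq_eq] at h8
    rw [← h8.2, e, ← repC_zero]
    exact Nat.eq_of_beq_eq_true ((List.all_eq_true.1 repC_ok 0 (by decide)) |> fun h => ((Bool.and_eq_true _ _).mp h).2)
  · calc (I k)⁻¹ * g * I (repC c) * ((I k)⁻¹ * g)⁻¹ = (I k)⁻¹ * (g * I (repC c) * g⁻¹) * I k := by group
      _ = (I k)⁻¹ * (I k * z) := by rw [hg, mul_assoc, ← hkz]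
      _ = z := by group
  · calc (I k)⁻¹ * g * z * ((I k)⁻¹ * g)⁻¹ = (I k)⁻¹ * (g * z * g⁻¹) * I k := by group
      _ = (I k)⁻¹ * I w * I k := by rw [hwe]
      _ = I (repC (clsF w)) := by rw [← hkw, L.map_cj hk (Mem.rep _), hkw]; group

/-- Conjugation between the two common centralizers. -/
theorem conj_cent {g : G} {a b x : ℕ} (ha : Mem a) (hb : Mem b) (h1 : g * I a * g⁻¹ = z)
    (h2 : g * z * g⁻¹ = I b) (hx : Mem x) (hxa : mulC x a = mulC a x) :
    ∃ y, Mem y ∧ mulC y b = mulC b y ∧ I y = g * I x * g⁻¹ := by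
  have e : (g * I x * g⁻¹) * z = z * (g * I x * g⁻¹) := by
    rw [← h1]
    calc g * I x * g⁻¹ * (g * I a * g⁻¹) = g * (I x * I a) * g⁻¹ := by group
      _ = g * (I a * I x) * g⁻¹ := by rw [(L.comm_iff hx ha).2 hxa]
      _ = g * I a * g⁻¹ * (g * I x * g⁻¹) := by group
  obtain ⟨y, hy, hye⟩ := (L.range _).1 e
  refine ⟨y, hy, (L.comm_iff hy hb).1 ?_, hye⟩
  rw [hye, ← h2]
  calc g * I x * g⁻¹ * (g * z * g⁻¹) = g * (I x * z) * g⁻¹ := by group
    _ = g * (z * I x) * g⁻¹ := by rw [L.comm_z hx]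
    _ = g * z * g⁻¹ * (g * I x * g⁻¹) := by group

theorem conj_cent' {g : G} {a b y : ℕ} (ha : Mem a) (hb : Mem b) (h1 : g * I a * g⁻¹ = z)
    (h2 : g * z * g⁻¹ = I b) (hy : Mem y) (hyb : mulC y b = mulC b y) :
    ∃ x, Mem x ∧ mulC x a = mulC a x ∧ I y = g * I x * g⁻¹ := by
  obtain ⟨x, hx, hxa, e⟩ := L.conj_cent (g := g⁻¹) hb ha (by rw [← h2]; group) (by rw [← h1]; group) hy hyb
  exact ⟨x, hx, hxa, by rw [e]; group⟩

/-- Counting fused involutions with a fused product on both sides. -/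
theorem count_eq {g : G} {c d m w v : ℕ} (hm : ∀ i < noVal, inMask m i = true ↔ IsConj (I (repC i)) z)
    (h1 : g * I (repC c) * g⁻¹ = z) (h2 : g * z * g⁻¹ = I (repC d))
    (hw : Mem w) (hv : Mem v) (hwv : g * I w * g⁻¹ = I v) :
    ((invCent c).filter fun e => fz m e.1 && fz m (mulC e.1 w)).length =
      ((invCent d).filter fun e => fz m e.1 && fz m (mulC e.1 v)).length := by
  have hnd : ∀ k, (invCent k).Nodup := fun k => (List.Nodup.of_map _ invTab_fst_nodup).filter _
  have hinj : ∀ e ∈ invTab, ∀ e' ∈ invTab, e.1 = e'.1 → e = e' :=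
    fun e he e' he' => List.inj_on_of_nodup_map invTab_fst_nodup he he'
  have hc := Mem.rep c; have hd := Mem.rep d
  refine length_filter_eq (hnd c) (hnd d)
    (fun a b => (a ∈ invTab ∧ b ∈ invTab) ∧ I b.1 = g * I a.1 * g⁻¹) ?_ ?_
    (fun a b b' h h' => hinj _ h.1.2 _ h'.1.2
      (L.inj _ _ (invTab_spec h.1.2).1 (invTab_spec h'.1.2).1 (h.2.trans h'.2.symm)))
    (fun a a' b h h' => hinj _ h.1.1 _ h'.1.1 (L.inj _ _ (invTab_spec h.1.1).1 (invTab_spec h'.1.1).1
      (mul_left_cancel (mul_right_cancel (h.2.symm.trans h'.2)))))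
  · rintro a ha hP
    obtain ⟨ha, hac⟩ := List.mem_filter.1 ha
    simp only [commC, Nat.beq_eq] at hac
    have hma := (invTab_spec ha).1
    simp only [Bool.and_eq_true] at hP
    rw [L.fused_mask hm hma, L.fused_mask hm (hma.mul hw)] at hP
    obtain ⟨y, hy, hyd, e⟩ := L.conj_cent hc hd h1 h2 hma hac
    have hyz : IsConj (I y) z := (isConj_iff.2 ⟨g, e.symm⟩ : IsConj (I a.1) (I y)).symm.trans hP.1
    obtain ⟨b, hb, rfl⟩ := clsF_lt ((L.fused_cls hy).1 hyz).1
    refine ⟨b, List.mem_filter.2 ⟨hb, by simp only [commC, Nat.beq_eq]; exact hyd⟩, ?_, ⟨ha, hb⟩, e⟩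
    simp only [Bool.and_eq_true]
    rw [L.fused_mask hm hy, L.fused_mask hm (hy.mul hv)]
    refine ⟨hyz, (isConj_iff.2 ⟨g, ?_⟩ : IsConj (I (mulC a.1 w)) (I (mulC b.1 v))).symm.trans hP.2⟩
    rw [L.hom _ _ hma hw, L.hom _ _ hy hv, e, ← hwv]; group
  · rintro b hb hQ
    obtain ⟨hb, hbd⟩ := List.mem_filter.1 hb
    simp only [commC, Nat.beq_eq] at hbd
    have hmb := (invTab_spec hb).1
    simp only [Bool.and_eq_true] at hQ
    rw [L.fused_mask hm hmb, L.fused_mask hm (hmb.mul hv)] at hQ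
    obtain ⟨x, hx, hxc, e⟩ := L.conj_cent' hc hd h1 h2 hmb hbd
    have hxz : IsConj (I x) z := (isConj_iff.2 ⟨g, e.symm⟩ : IsConj (I x) (I b.1)).trans hQ.1
    obtain ⟨a, ha, rfl⟩ := clsF_lt ((L.fused_cls hx).1 hxz).1
    refine ⟨a, List.mem_filter.2 ⟨ha, by simp only [commC, Nat.beq_eq]; exact hxc⟩, ?_, ⟨ha, hb⟩, e⟩
    simp only [Bool.and_eq_true]
    rw [L.fused_mask hm hx, L.fused_mask hm (hx.mul hw)]
    refine ⟨hxz, (isConj_iff.2 ⟨g, ?_⟩ : IsConj (I (mulC a.1 w)) (I (mulC b.1 v))).trans hQ.2⟩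
    rw [L.hom _ _ hx hw, L.hom _ _ hmb hv, e, ← hwv]; group

theorem match_eq {g : G} {c d m : ℕ} (hcc : c ∈ candCls) (hdd : d ∈ candCls)
    (hm : ∀ i < noVal, inMask m i = true ↔ IsConj (I (repC i)) z)
    (h1 : g * I (repC c) * g⁻¹ = z) (h2 : g * z * g⁻¹ = I (repC d)) : match2 m c d = true := by
  have hp : ∀ k ∈ candCls,
      pairA k = (invCent k).map (fun e => (e.2.1, clsF (mulC e.1 (repC k)))) ∧
        pairB k = (invCent k).map (fun e => (e.2.1, clsF (mulC e.1 zC))) := by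
    intro k hk
    have := List.all_eq_true.1 pairs_ok k hk
    simp only [Bool.and_eq_true, beq_iff_eq] at this
    exact ⟨this.1.symm, this.2.symm⟩
  have hcls : ∀ k, ∀ e ∈ invCent k, inMask m e.2.1 = fz m e.1 := fun k e he => by
    rw [fz, (invTab_spec (List.mem_filter.1 he).1).2.1]
  have hlen : ∀ k (w : ℕ), cnt m ((invCent k).map fun e => (e.2.1, clsF (mulC e.1 w))) =
      ((invCent k).filter fun e => fz m e.1 && fz m (mulC e.1 w)).length := fun k w => by
    rw [cnt, List.filter_map, List.length_map]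
    congr 1
    exact List.filter_congr fun e he => by simp only [Function.comp, hcls k e he, fz]
  have hlen1 : ∀ k ∈ candCls, cnt1 m (pairA k) =
      ((invCent k).filter fun e => fz m e.1 && fz m (mulC e.1 oneC)).length := fun k hk => by
    rw [(hp k hk).1, cnt1, List.filter_map, List.length_map]
    congr 1
    exact List.filter_congr fun e he => by
      simp only [Function.comp, hcls k e he, (invTab_spec (List.mem_filter.1 he).1).1.mul_one, Bool.and_self]
  simp only [match2, Bool.and_eq_true, Nat.beq_eq]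
  refine ⟨⟨?_, ?_⟩, ?_⟩
  · rw [hlen1 c hcc, hlen1 d hdd]
    exact L.count_eq hm h1 h2 mem_one mem_one (by rw [L.map_one]; group)
  · rw [(hp c hcc).1, (hp d hdd).2, hlen, hlen]
    exact L.count_eq hm h1 h2 (Mem.rep c) mem_z (by rw [h1, L.map_z])
  · rw [(hp c hcc).2, (hp d hdd).1, hlen, hlen]
    exact L.count_eq hm h1 h2 mem_z (Mem.rep d) (by rw [L.map_z, h2])

/-- The fused classes form one of the listed patterns. -/
theorem exists_mask : ∃ m, m ∈ maskList ∧ ∀ i < noVal, inMask m i = true ↔ IsConj (I (repC i)) z := by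
  classical
  obtain ⟨m, hlt, hbit⟩ := exists_bits (fun i => decide (i ≠ 0 ∧ IsConj (I (repC i)) z)) noVal
  have hm : ∀ i < noVal, inMask m i = true ↔ IsConj (I (repC i)) z := by
    intro i hi
    simp only [inMask, Bool.or_eq_true, Bool.and_eq_true, Nat.beq_eq, Nat.blt_eq, hbit i hi, decide_eq_true_eq]
    rcases eq_or_ne i 0 with rfl | h0
    · exact iff_of_true (Or.inl rfl) (by rw [repC_zero, L.map_z])
    · simp [h0, hi]
  refine ⟨m, ?_, hm⟩
  have hsq : ∀ c ∈ [2, 4, 8], m.testBit c = false := fun c hc => by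
    rw [hbit c (by simp [noVal] at hc ⊢; omega)]
    exact decide_eq_false fun h => L.square_not_fused hc h.2
  have h := List.all_eq_true.1 mask_ok m (List.mem_range.2 hlt)
  simp only [hsq 2 (by simp), hsq 4 (by simp), hsq 8 (by simp),
    show m.testBit 0 = false from (hbit 0 (by decide)).trans (decide_eq_false fun h => h.1 rfl), Bool.false_or, Bool.or_eq_true, Bool.not_eq_true',
    List.any_eq_true, Nat.beq_eq] at h
  rcases h with h | ⟨k, hk, rfl⟩
  · exfalso
    rw [List.all_eq_false] at h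
    obtain ⟨c, hc, hcf⟩ := h
    simp only [Bool.or_eq_true, Bool.not_eq_true', List.any_eq_true, Bool.and_eq_true, not_or,
      not_exists, not_and, Bool.not_eq_false] at hcf
    obtain ⟨hmc, hno⟩ := hcf
    have hc10 : c < noVal ∧ c ≠ 0 := by simp [candCls] at hc; simp [noVal]; omega
    rw [hbit c hc10.1, decide_eq_true_eq] at hmc
    obtain ⟨g, d, hd, hd0, hFd, h1, h2⟩ := L.exists_partner hc10.1 hc10.2 hmc.2
    have hdc : d ∈ candCls := by
      have hcases : ∀ e < 10, e ≠ 0 → e ∈ candCls ∨ e ∈ [2, 4, 8] := by decide +kernel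
      exact (hcases d hd hd0).resolve_right fun h => L.square_not_fused h hFd
    exact hno d hdc (by rw [hbit d hd]; exact decide_eq_true ⟨hd0, hFd⟩) (L.match_eq hc hdc hm h1 h2)
  · exact hk

end Loc

end Cfsg.Agent.Fus.SymSix
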