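import Cfsg.Agent.Lib.Fus.SymSix.Bound

/-!
# The map from a model
-/

set_option autoImplicit false
set_option maxRecDepth 100000

namespace Cfsg.Agent.Fus.SymSix

open Cfsg.Agent.Spor.Cos (ev ev_map Log)

variable {G G' : Type*} [Group G] [Group G'] {z : G} {I : ℕ → G} {a b : G} {I' : ℕ → G'} {a' b' : G'}
variable {ta tb : CTree} {base : List (List ℕ)} {C : Log}

/-- A map respecting the letters respects the words. -/
theorem hom_ev {φ : G' →* G} (h : ∀ s < 8, φ (gW I' a' b' s) = gW I a b s) :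
    ∀ w : List ℕ, (∀ s ∈ w, s < 8) → φ (ev (gW I' a' b') w) = ev (gW I a b) w
  | [], _ => map_one φ
  | s :: w, hw => by
    show φ (gW I' a' b' s * ev (gW I' a' b') w) = gW I a b s * ev (gW I a b) w
    rw [map_mul, h s (hw s (List.mem_cons_self ..)), hom_ev h w fun t ht => hw t (List.mem_cons_of_mem _ ht)]

/-- A simple group of the bounding order maps onto the generated group of any other. -/
theorem exists_hom [Finite G] [Finite G'] [IsSimpleGroup G'] (L : Loc z I) (S : Sit I a b ta tb base)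
    (S' : Sit I' a' b' ta tb base) (hc : PatCert base C) (hgen : genGrp I' a' b' = ⊤)
    (hcard : C.N * 23040 ≤ Nat.card G') :
    ∃ φ : G' →* G, Function.Injective φ ∧ φ.range = genGrp I a b ∧ ∀ s < 8, φ (gW I' a' b' s) = gW I a b s := by
  set K := pairGrp I a b I' a' b'
  have h2 : K.map (MonoidHom.snd G G') = ⊤ := by
    rw [← hgen]
    refine (MonoidHom.map_closure _ _).trans ?_
    show Subgroup.closure _ = Subgroup.closure _
    congr 1
    ext x
    exact ⟨fun ⟨_, ⟨s, hs, e⟩, hy⟩ => ⟨s, hs, by rw [← hy, ← e]; rfl⟩, fun ⟨s, hs, e⟩ => ⟨_, ⟨s, hs, rfl⟩, e⟩⟩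
  let p2 : K →* G' := (MonoidHom.snd G G').comp K.subtype
  have hsurj : Function.Surjective p2 := fun x => by
    obtain ⟨y, hy, e⟩ := Subgroup.mem_map.1 (h2 ▸ Subgroup.mem_top x)
    exact ⟨⟨y, hy⟩, e⟩
  let eqv := MulEquiv.ofBijective p2 (hsurj.bijective_of_nat_card_le ((card_pairGrp_le S S' hc).trans hcard))
  let φ : G' →* G := ((MonoidHom.fst G G').comp K.subtype).comp eqv.symm.toMonoidHom
  have hval : ∀ s < 8, φ (gW I' a' b' s) = gW I a b s := by
    intro s hs
    have h : eqv.symm (gW I' a' b' s) = ⟨gPair I a b I' a' b' s, Subgroup.subset_closure ⟨s, hs, rfl⟩⟩ :=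
      (MulEquiv.symm_apply_eq _).2 rfl
    show ((eqv.symm (gW I' a' b' s) : K) : G × G').1 = _
    rw [h]
    rfl
  have hrange : φ.range = genGrp I a b := by
    rw [MonoidHom.range_eq_map, ← hgen, genGrp, genGrp, MonoidHom.map_closure]
    congr 1
    refine Set.ext fun x => ⟨?_, ?_⟩
    · rintro ⟨_, ⟨s, hs, rfl⟩, hy⟩
      exact ⟨s, hs, (hval s hs).symm.trans hy⟩
    · rintro ⟨s, hs, hx⟩
      exact ⟨_, ⟨s, hs, rfl⟩, (hval s hs).trans hx⟩
  refine ⟨φ, ?_, hrange, hval⟩
  refine φ.ker_eq_bot_iff.1 ((φ.normal_ker.eq_bot_or_eq_top).resolve_right fun h => ?_)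
  obtain ⟨w, hw, hwc⟩ := mem_z.exists_word
  have hz : φ (ev (gW I' a' b') w) = z := by
    rw [← L.map_z, ← hwc, ← S.pair.ev_wC w hw]
    exact hom_ev hval w fun t ht => by have := hw t ht; omega
  have hk : ev (gW I' a' b') w ∈ φ.ker := h ▸ Subgroup.mem_top _
  exact L.z_ne_one (hz.symm.trans hk)

end Cfsg.Agent.Fus.SymSix
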