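import Cfsg.Agent.Lib.Fus.SymSix.Loop

/-!
# Certificates against options
-/

set_option autoImplicit false
set_option maxRecDepth 100000

namespace Cfsg.Agent.Fus.SymSix

open Cfsg.Agent.Spor.Cos (ev derivedOk Log)

/-- A certificate against an option. -/
structure Kill where
  /-- the enumeration -/
  C : Log
  /-- the swapping letter -/
  s : ℕ
  /-- the letter that gets into the centralizer -/
  i : ℕ
  /-- the class -/
  cls : ℕ
  /-- a word for the option -/
  v : List ℕ
  /-- the length of the closing path -/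
  len : ℕ
  /-- the closing path -/
  path : ℕ

/-- The checks of a certificate, apart from the facts. -/
noncomputable def killHead (ta tb : CTree) (base0 : List (List ℕ)) (loop : List ℕ) (c : ℕ) (K : Kill) : Bool :=
  (List.range (K.C.M - 1)).all K.C.chkDef &&
    (K.C.rels.all fun w => derivedOk K.C.n ((loop ++ K.v.reverse) :: base0) w) &&
    (K.C.sub.all fun w => w.all fun t => Nat.blt t 6) && (Nat.beq K.s 6 || Nat.beq K.s 7) && Nat.blt K.i 6 &&
    (K.v.all fun t => Nat.blt t 6) && Nat.beq (wC K.v) c &&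
    Nat.beq (mapC (bif Nat.beq K.s 6 then ta else tb) zC) (repC K.cls) &&
    !commC (gensH.getD K.i oneC) (repC K.cls) && K.C.walk K.C.nF 0 K.len K.path 0 [K.s, K.i, K.s]

/-- An option is impossible. -/
def Killed (ta tb : CTree) (base0 : List (List ℕ)) (loop : List ℕ) (c : ℕ) : Prop :=
  ∃ K : Kill, killHead ta tb base0 loop c K = true ∧ K.C.Covers (K.C.M - 1) K.C.nF

namespace Loc

variable {G : Type*} [Group G] {z : G} {I : ℕ → G} (L : Loc z I) {a b : G} {ta tb : CTree}
include L

/-- An impossible option is not the value of its loop. -/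
theorem not_killed (P : Pair I a b ta tb) {base0 : List (List ℕ)} (hb : ∀ r ∈ base0, ev (gW I a b) r = 1)
    {loop : List ℕ} {c : ℕ} (h : Killed ta tb base0 loop c) : ev (gW I a b) loop ≠ I c := by
  intro e
  obtain ⟨K, hK, hcov⟩ := h
  simp only [killHead, Bool.and_eq_true, Bool.or_eq_true, Nat.beq_eq, Nat.blt_eq, Bool.not_eq_true'] at hK
  obtain ⟨⟨⟨⟨⟨⟨⟨⟨⟨hd, hder⟩, hsub⟩, hs⟩, hi6⟩, hv⟩, hvc⟩, hu⟩, hi⟩, hw⟩ := hK
  have hr : ∀ r ∈ (loop ++ K.v.reverse) :: base0, ev (gW I a b) r = 1 := by
    intro r hr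
    rcases List.mem_cons.1 hr with rfl | hr
    · exact L.loop_rel P e hv hvc
    · exact hb r hr
  exact L.kill P (C := K.C) hs
    (fun j hj => List.all_eq_true.1 hd j (List.mem_range.2 (by omega)))
    (fun j h1 h2 => hcov j (by omega) h2) hder hr hsub hu hi hi6 hw

end Loc

end Cfsg.Agent.Fus.SymSix
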