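import Cfsg.Agent.Lib.Fus.SymSix.AltModel

/-!
# Elements of the model given by lists of images
-/

set_option autoImplicit false
set_option maxRecDepth 100000
set_option Elab.async false

namespace Cfsg.Agent.Fus.SymSix

open Cfsg.Agent.Spor.Cos (ev)

/-- The list gives the images. -/
def PR (σ : alternatingGroup (Fin 12)) (l : List ℕ) : Prop := ∀ y : Fin 12, (σ.1 y : ℕ) = l.getD y 0

/-- Composition of lists. -/
def lc (a b : List ℕ) : List ℕ := (List.range 12).map fun y => a.getD (b.getD y 0) 0

/-- The list of a number. -/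
def lstC (c : ℕ) : List ℕ := (List.range 12).map fun y => app c y

/-- The list of a word. -/
def lstW (w : List ℕ) : List ℕ := (List.range 12).map fun y => goP w y

theorem getD_map_range (f : ℕ → ℕ) {y : ℕ} (hy : y < 12) : ((List.range 12).map f).getD y 0 = f y := by
  simp [List.getD_eq_getElem?_getD, hy]

theorem PR.mul {σ τ : alternatingGroup (Fin 12)} {a b : List ℕ} (h : PR σ a) (h' : PR τ b) : PR (σ * τ) (lc a b) :=
  fun y => by rw [lc, getD_map_range _ y.2, ← h' y, ← h]; rfl

theorem PR.eq {σ τ : alternatingGroup (Fin 12)} {a b : List ℕ} (h : PR σ a) (h' : PR τ b)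
    (e : ∀ y < 12, a.getD y 0 = b.getD y 0) : σ = τ :=
  Subtype.ext (Equiv.ext fun y => Fin.ext (by rw [h y, h' y, e y y.2]))

theorem PR.code {c : ℕ} (hc : Mem c) : PR (altI c) (lstC c) := fun y => by
  rw [lstC, getD_map_range _ y.2, altI_val hc, toPerm_apply hc]

theorem PR.word {w : List ℕ} (hw : ∀ s ∈ w, s < 8) : PR (ev (gW altI aA bA) w) (lstW w) := fun y => by
  rw [lstW, getD_map_range _ y.2, word_apply w hw]

/-- The element of a list. -/
noncomputable def elL (l : List ℕ) : alternatingGroup (Fin 12) :=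
  if h : Equiv.Perm.sign (permL l) = 1 then ⟨permL l, h⟩ else 1

theorem PR.elL {l : List ℕ} (h : Equiv.Perm.sign (permL l) = 1 ∧ ∀ x : Fin 12, (permL l x : ℕ) = l.getD x 0) :
    PR (elL l) l := fun y => by
  rw [SymSix.elL, dif_pos h.1]
  exact h.2 y

/-- The test of equal values. -/
def leq (a b : List ℕ) : Bool := (List.range 12).all fun y => Nat.beq (a.getD y 0) (b.getD y 0)

theorem PR.eq' {σ τ : alternatingGroup (Fin 12)} {a b : List ℕ} (h : PR σ a) (h' : PR τ b) (e : leq a b = true) :
    σ = τ :=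
  h.eq h' fun y hy => Nat.eq_of_beq_eq_true (List.all_eq_true.1 e y (List.mem_range.2 hy))

theorem leq_of_eq {σ : alternatingGroup (Fin 12)} {a b : List ℕ} (h : PR σ a) (h' : PR σ b) : leq a b = true :=
  List.all_eq_true.2 fun y hy => by
    have := (h ⟨y, List.mem_range.1 hy⟩).symm.trans (h' ⟨y, List.mem_range.1 hy⟩)
    simp only at this
    rw [this]; exact Nat.beq_refl _

end Cfsg.Agent.Fus.SymSix
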