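import Cfsg.Agent.Lib.Fus.SymSix.Elems

/-!
# Coordinates in a group
-/

set_option autoImplicit false
set_option maxRecDepth 100000

namespace Cfsg.Agent.Fus.SymSix

/-- Coordinates of the centralizer of an involution. -/
structure Loc {G : Type*} [Group G] (z : G) (I : ℕ → G) : Prop where
  /-- the product -/
  hom : ∀ a b, Mem a → Mem b → I (mulC a b) = I a * I b
  /-- faithfulness -/
  inj : ∀ a b, Mem a → Mem b → I a = I b → a = b
  /-- the centralizer -/
  range : ∀ x : G, x * z = z * x ↔ ∃ c, Mem c ∧ I c = x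
  /-- the involution -/
  map_z : I zC = z

namespace Loc

variable {G : Type*} [Group G] {z : G} {I : ℕ → G} (L : Loc z I)
include L

theorem map_one : I oneC = 1 := by
  have h := L.hom oneC oneC mem_one mem_one
  rw [mem_one.mul_one] at h
  exact left_eq_mul.1 h

theorem map_inv {a : ℕ} (ha : Mem a) : I (invC a) = (I a)⁻¹ :=
  eq_inv_of_mul_eq_one_left (by rw [← L.hom _ _ ha.inv ha, ha.inv_mul, L.map_one])

theorem map_cj {h x : ℕ} (hh : Mem h) (hx : Mem x) : I (cjC h x) = I h * I x * (I h)⁻¹ := by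
  rw [cjC, Cfsg.Agent.Spor.Cos.force_eq, L.hom _ _ (hh.mul hx) hh.inv, L.hom _ _ hh hx, L.map_inv hh]

theorem map_prod : ∀ {l : List ℕ}, (∀ a ∈ l, Mem a) → I (prodC l) = (l.map I).prod
  | [], _ => L.map_one
  | a :: l, h => by
    have hl : Mem (prodC l) := by
      clear L
      induction l with
      | nil => exact mem_one
      | cons b l ih =>
        exact (h b (by simp)).mul (ih fun x hx => h x (by
          rcases List.mem_cons.1 hx with rfl | hx <;> simp [*]))
    show I (mulC a (prodC l)) = _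
    rw [L.hom _ _ (h a (List.mem_cons_self ..)) hl, map_prod fun x hx => h x (List.mem_cons_of_mem _ hx)]
    simp

theorem comm_z {a : ℕ} (ha : Mem a) : I a * z = z * I a := (L.range _).2 ⟨a, ha, rfl⟩

theorem comm_iff {a b : ℕ} (ha : Mem a) (hb : Mem b) : I a * I b = I b * I a ↔ mulC a b = mulC b a := by
  rw [← L.hom _ _ ha hb, ← L.hom _ _ hb ha]
  exact ⟨L.inj _ _ (ha.mul hb) (hb.mul ha), fun h => by rw [h]⟩

theorem eq_one_iff {a : ℕ} (ha : Mem a) : I a = 1 ↔ a = oneC :=
  ⟨fun h => L.inj _ _ ha mem_one (h.trans L.map_one.symm), fun h => h ▸ L.map_one⟩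

theorem mul_self_z : z * z = 1 := by
  rw [← L.map_z, ← L.hom _ _ mem_z mem_z, show mulC zC zC = oneC by decide +kernel, L.map_one]

theorem z_ne_one : z ≠ 1 := fun h => by
  rw [← L.map_z, L.eq_one_iff mem_z] at h
  exact absurd h (by decide +kernel)

theorem orderOf_z : orderOf z = 2 :=
  orderOf_eq_prime (hp := ⟨Nat.prime_two⟩) (by rw [pow_two, L.mul_self_z]) L.z_ne_one

end Loc

/-- The centralizer's elements as a subgroup element. -/
noncomputable def toC12 {c : ℕ} (h : Mem c) : C12 := ⟨toPerm c, h.toPerm_mem⟩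

theorem exists_loc {G : Type*} [Group G] (z : G) (e : Subgroup.centralizer ({z} : Set G) ≃* C12)
    (hz : ∀ c : Subgroup.centralizer ({z} : Set G), (c : G) = z → (e c : Equiv.Perm (Fin 12)) = z0) :
    ∃ I : ℕ → G, Loc z I := by
  classical
  let I : ℕ → G := fun c => if hc : Mem c then (e.symm (toC12 hc) : G) else 1
  have hI : ∀ c (hc : Mem c), I c = (e.symm (toC12 hc) : G) := fun c hc => dif_pos hc
  refine ⟨I, ⟨fun a b ha hb => ?_, fun a b ha hb h => ?_, fun x => ⟨fun h => ?_, ?_⟩, ?_⟩⟩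
  · rw [hI _ (ha.mul hb), hI _ ha, hI _ hb, ← Subgroup.coe_mul, ← map_mul]
    congr 2
    exact Subtype.ext (toPerm_mul ha hb)
  · rw [hI _ ha, hI _ hb] at h
    exact toPerm_inj ha hb (congrArg Subtype.val (e.symm.injective (Subtype.ext h)))
  · obtain ⟨c, hc, hce⟩ := exists_code (e ⟨x, Subgroup.mem_centralizer_singleton_iff.2 h⟩).2
    refine ⟨c, hc, ?_⟩
    rw [hI _ hc, show toC12 hc = e ⟨x, Subgroup.mem_centralizer_singleton_iff.2 h⟩ from Subtype.ext hce,
      e.symm_apply_apply]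
  · rintro ⟨c, hc, rfl⟩
    rw [hI _ hc]
    exact Subgroup.mem_centralizer_singleton_iff.1 (e.symm (toC12 hc)).2
  · have hzC : z ∈ Subgroup.centralizer ({z} : Set G) := Subgroup.mem_centralizer_singleton_iff.2 rfl
    rw [hI _ mem_z, show toC12 mem_z = e ⟨z, hzC⟩ from Subtype.ext (toPerm_z.trans (hz ⟨z, hzC⟩ rfl).symm),
      e.symm_apply_apply]

end Cfsg.Agent.Fus.SymSix
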