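import Cfsg.Agent.Lib.Fus.SymSix.Swap
import Cfsg.Agent.Lib.Spor.Cos.Log

/-!
# Loops, their options, and certificates against options
-/

set_option autoImplicit false
set_option maxRecDepth 100000

namespace Cfsg.Agent.Fus.SymSix

open Cfsg.Agent.Spor.Cos (force force_eq ev ev_append ev_derived derivedOk Log)

/-- The evidence for a trivial word. -/
inductive Cert where
  /-- a word in the generators -/
  | gen
  /-- the action of a swapping involution -/
  | sw (s : ℕ) (w₁ w₂ : List ℕ)

/-- The check of one piece of evidence. -/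
noncomputable def certOk (ta tb : CTree) : List ℕ → Cert → Bool
  | w, .gen => (w.all fun s => Nat.blt s 6) && Nat.beq (wC w) oneC
  | w, .sw s w₁ w₂ => (Nat.beq s 6 || Nat.beq s 7) && (w₁.all fun t => Nat.blt t 6) &&
      (w₂.all fun t => Nat.blt t 6) && (w == s :: (w₁ ++ s :: w₂)) &&
      force (mapC (bif Nat.beq s 6 then ta else tb) (wC w₁)) fun y => !Nat.beq y noVal &&
        Nat.beq (mulC y (wC w₂)) oneC

/-- The check of a possible value of a loop. -/
def loopAt (gg : List (ℕ × ℕ)) (ks : List ℕ) (c : ℕ) : Bool :=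
  !(gg.all fun e => Nat.beq (mulC c e.1) (mulC e.2 c)) || ks.any fun k => Nat.beq k c

/-- A loop fixes the central involution and acts as recorded. -/
noncomputable def loopOk (ta tb : CTree) (w : List ℕ) (gg : List (ℕ × ℕ)) : Bool :=
  Nat.beq (act ta tb w zC) zC && gg.all fun e => inH e.1 && inH e.2 && Nat.beq (act ta tb w e.1) e.2

/-- The effect of a change of the involutions on a word, `noVal` for failure. -/
noncomputable def pushC (ta tb : CTree) (g g' : ℕ) : List ℕ → ℕ
  | [] => oneC
  | s :: w => force (pushC ta tb g g' w) fun d => bif Nat.beq d noVal then noVal else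
      bif Nat.blt s 6 then d else force (act ta tb w.reverse (bif Nat.beq s 6 then g else g')) fun x =>
        bif Nat.beq x noVal then noVal else mulC x d

namespace Pair

variable {K : Type*} [Group K] {I : ℕ → K} {a b : K} {ta tb : CTree} (P : Pair I a b ta tb)
include P

/-- Certified words are trivial. -/
theorem cert_sound {w : List ℕ} {c : Cert} (h : certOk ta tb w c = true) : ev (gW I a b) w = 1 := by
  cases c with
  | gen =>
    simp only [certOk, Bool.and_eq_true, List.all_eq_true, Nat.blt_eq, Nat.beq_eq] at h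
    rw [P.ev_wC _ h.1, h.2, P.map_one]
  | sw s w₁ w₂ =>
    simp only [certOk, force_eq, Bool.and_eq_true, List.all_eq_true, Nat.blt_eq, Nat.beq_eq, Bool.or_eq_true,
      beq_iff_eq, Bool.not_eq_true'] at h
    obtain ⟨⟨⟨⟨hs, h1⟩, h2⟩, rfl⟩, h8, hy⟩ := h
    set y := mapC (bif Nat.beq s 6 then ta else tb) (wC w₁)
    have h8' : y ≠ noVal := fun e => by rw [e] at h8; simp at h8
    have key : gW I a b s * I (wC w₁) * (gW I a b s)⁻¹ = I y ∧ Mem y := by
      rcases hs with rfl | rfl
      · obtain ⟨-, m, e⟩ := P.swA.map _ h8'; exact ⟨e, m⟩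
      · obtain ⟨-, m, e⟩ := P.swB.map _ h8'; exact ⟨e, m⟩
    show gW I a b s * ev (gW I a b) (w₁ ++ s :: w₂) = 1
    rw [ev_append, P.ev_wC _ h1, ← P.map_one, ← hy, P.hom _ _ key.2 (mem_wC _), ← key.1]
    show gW I a b s * (I (wC w₁) * (gW I a b s * ev (gW I a b) w₂)) = _
    rw [P.ev_wC _ h2, inv_eq_of_mul_eq_one_left (P.gW_sq s)]
    group

/-- The change of a word under a change of the involutions. -/
theorem ev_push {g g' : ℕ} (hg : Mem g) (hg' : Mem g') : ∀ (w : List ℕ), pushC ta tb g g' w ≠ noVal →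
    Mem (pushC ta tb g g' w) ∧
      ev (gW I (a * I g) (b * I g')) w = ev (gW I a b) w * I (pushC ta tb g g' w)
  | [], _ => ⟨mem_one, by simp [ev, pushC, P.map_one]⟩
  | s :: w, h => by
    simp only [pushC, force_eq] at h ⊢
    by_cases h0 : pushC ta tb g g' w = noVal
    · rw [h0, Nat.beq_refl, cond_true] at h; exact absurd rfl h
    obtain ⟨hd, he⟩ := ev_push hg hg' w h0
    rw [beq_noVal_false h0, cond_false] at h ⊢
    show _ ∧ gW I (a * I g) (b * I g') s * ev _ w = _
    rw [he]
    show _ ∧ _ = gW I a b s * ev (gW I a b) w * _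
    by_cases hs : s < 6
    · rw [Nat.blt_eq.mpr hs, cond_true]
      refine ⟨hd, ?_⟩
      rw [gW, gW, if_pos hs, if_pos hs, mul_assoc]
    rw [show Nat.blt s 6 = false from Bool.eq_false_iff.2 fun e => hs (Nat.blt_eq.mp e), cond_false] at h ⊢
    set gs := bif Nat.beq s 6 then g else g' with hgs
    have hgm : Mem gs := by
      rw [hgs]; cases Nat.beq s 6
      exacts [hg', hg]
    have hval : gW I (a * I g) (b * I g') s = gW I a b s * I gs := by
      by_cases he : s = 6
      · rw [hgs, show Nat.beq s 6 = true from Nat.beq_eq.mpr he, gW, gW, if_neg hs, if_neg hs, if_pos he, if_pos he]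
        rfl
      · rw [hgs, show Nat.beq s 6 = false from Bool.eq_false_iff.2 fun e => he (Nat.eq_of_beq_eq_true e), gW, gW,
          if_neg hs, if_neg hs, if_neg he, if_neg he]
        rfl
    by_cases h1 : act ta tb w.reverse gs = noVal
    · rw [h1, Nat.beq_refl, cond_true] at h; exact absurd rfl h
    rw [beq_noVal_false h1, cond_false] at h ⊢
    obtain ⟨hx, hxe⟩ := P.act_sound w.reverse hgm h1
    refine ⟨hx.mul hd, ?_⟩
    rw [P.ev_rev, inv_inv] at hxe
    rw [hval, P.hom _ _ hx hd, ← hxe]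
    group

end Pair

namespace Loc

variable {G : Type*} [Group G] {z : G} {I : ℕ → G} (L : Loc z I) {a b : G} {ta tb : CTree}
include L

/-- The value of a loop is one of the options. -/
theorem loop_option (P : Pair I a b ta tb) {w : List ℕ} {gg : List (ℕ × ℕ)} (hok : loopOk ta tb w gg = true)
    {ks : List ℕ} (hks : ∀ c, Mem c → loopAt gg ks c = true) :
    ∃ c ∈ ks, Mem c ∧ ev (gW I a b) w = I c := by
  simp only [loopOk, Bool.and_eq_true, List.all_eq_true, Nat.beq_eq] at hok
  obtain ⟨hz, hgg⟩ := hok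
  obtain ⟨-, e⟩ := P.act_sound w mem_z (by rw [hz]; exact mem_z.ne_noVal)
  rw [hz, L.map_z] at e
  obtain ⟨c, hc, hce⟩ := (L.range _).1 (mul_inv_eq_iff_eq_mul.1 e)
  refine ⟨c, ?_, hc, hce.symm⟩
  have := hks c hc
  simp only [loopAt, Bool.or_eq_true, Bool.not_eq_true', List.any_eq_true, Nat.beq_eq] at this
  refine (this.resolve_left fun hf => ?_).elim fun k hk => hk.2 ▸ hk.1
  obtain ⟨p, hp, hne⟩ := List.all_eq_false.1 hf
  obtain ⟨⟨hx, hy⟩, hxy⟩ := hgg p hp
  replace hx : Mem p.1 := hx
  replace hy : Mem p.2 := hy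
  apply hne
  rw [Nat.beq_eq]
  refine L.inj _ _ (hc.mul hx) (hy.mul hc) ?_
  have h := (P.act_sound w hx (by rw [hxy]; exact hy.ne_noVal)).2
  rw [hxy] at h
  rw [L.hom _ _ hc hx, L.hom _ _ hy hc, hce, mul_inv_eq_iff_eq_mul.1 h]

/-- A loop with a chosen value as a trivial word. -/
theorem loop_rel (P : Pair I a b ta tb) {w v : List ℕ} {c : ℕ} (h : ev (gW I a b) w = I c)
    (hv : (v.all fun s => Nat.blt s 6) = true) (hc : wC v = c) : ev (gW I a b) (w ++ v.reverse) = 1 := by
  rw [ev_append, P.ev_rev, P.ev_wC v (fun s hs => Nat.blt_eq.mp (List.all_eq_true.1 hv s hs)), hc, h, mul_inv_cancel]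

/-- A certificate that some conjugate of a generator by a swapping involution centralizes too much. -/
theorem kill (P : Pair I a b ta tb) {C : Log} {s i c : ℕ} (hs : s = 6 ∨ s = 7)
    (hd : ∀ j, j + 1 < C.M → C.chkDef j = true)
    (hf : ∀ j, C.M ≤ j + 1 → j < C.nF → ∃ J, C.chkFact j J = true)
    {base : List (List ℕ)} (hder : (C.rels.all fun w => derivedOk C.n base w) = true)
    (hb : ∀ r ∈ base, ev (gW I a b) r = 1) (hsub : (C.sub.all fun w => w.all fun s => Nat.blt s 6) = true)
    (hu : mapC (bif Nat.beq s 6 then ta else tb) zC = repC c)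
    (hi : commC (gensH.getD i oneC) (repC c) = false) (hi6 : i < 6)
    {cnt R : ℕ} (hw : C.walk C.nF 0 cnt R 0 [s, i, s] = true) : False := by
  have hmem := C.loop_mem (g := gW I a b) (H := Subgroup.centralizer ({z} : Set G)) (fun t _ => P.gW_sq t) hd hf
    (fun w hw' => ev_derived (fun t _ => P.gW_sq t) hb (List.all_eq_true.1 hder w hw'))
    (fun w hw' => by
      rw [P.ev_wC w (fun t ht => Nat.blt_eq.mp (List.all_eq_true.1 (List.all_eq_true.1 hsub w hw') t ht))]
      exact Subgroup.mem_centralizer_singleton_iff.2 (L.comm_z (mem_wC w))) hw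
  have hsw : gW I a b s * z * (gW I a b s)⁻¹ = I (repC c) := by
    rcases hs with rfl | rfl
    · have := (P.swA.map zC (by rw [show mapC ta zC = repC c from hu]; exact (Mem.rep c).ne_noVal)).2.2
      rwa [show mapC ta zC = repC c from hu, L.map_z] at this
    · have := (P.swB.map zC (by rw [show mapC tb zC = repC c from hu]; exact (Mem.rep c).ne_noVal)).2.2
      rwa [show mapC tb zC = repC c from hu, L.map_z] at this
  have hsi : (gW I a b s)⁻¹ = gW I a b s := inv_eq_of_mul_eq_one_left (P.gW_sq s)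
  have hcomm := Subgroup.mem_centralizer_singleton_iff.1 hmem
  have hg : gW I a b i = I (gensH.getD i oneC) := if_pos hi6
  simp only [ev, mul_one, hg] at hcomm
  refine Bool.eq_false_iff.1 hi ?_
  simp only [commC, Nat.beq_eq]
  refine (L.comm_iff (gen_mem i) (Mem.rep c)).1 ?_
  rw [← hsw]
  calc I (gensH.getD i oneC) * (gW I a b s * z * (gW I a b s)⁻¹)
      = (gW I a b s)⁻¹ * (gW I a b s * (I (gensH.getD i oneC) * gW I a b s) * z) * (gW I a b s)⁻¹ := by group
    _ = (gW I a b s)⁻¹ * z * gW I a b s * I (gensH.getD i oneC) := by rw [hcomm]; group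
    _ = _ := by rw [hsi]

end Loc

end Cfsg.Agent.Fus.SymSix
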