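import Cfsg.Agent.Lib.Fus.SymSix.RelData
import Cfsg.Agent.Lib.Fus.SymSix.Classes

/-! The possible values of a loop. -/

set_option autoImplicit false
set_option maxRecDepth 100000
set_option Elab.async false

namespace Cfsg.Agent.Fus.SymSix

theorem loopCover712_0_0 : (((halvesList.drop 0).take 60).all fun q => flipList.all fun f =>
    loopAt loopAct712_0 loopOpts712_0 (q + f)) = true := by decide +kernel

theorem loopCover712_0_1 : (((halvesList.drop 60).take 60).all fun q => flipList.all fun f =>
    loopAt loopAct712_0 loopOpts712_0 (q + f)) = true := by decide +kernel

theorem loopCover712_0_2 : (((halvesList.drop 120).take 60).all fun q => flipList.all fun f =>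
    loopAt loopAct712_0 loopOpts712_0 (q + f)) = true := by decide +kernel

theorem loopCover712_0_3 : (((halvesList.drop 180).take 60).all fun q => flipList.all fun f =>
    loopAt loopAct712_0 loopOpts712_0 (q + f)) = true := by decide +kernel

theorem loopCover712_0_4 : (((halvesList.drop 240).take 60).all fun q => flipList.all fun f =>
    loopAt loopAct712_0 loopOpts712_0 (q + f)) = true := by decide +kernel

theorem loopCover712_0_5 : (((halvesList.drop 300).take 60).all fun q => flipList.all fun f =>
    loopAt loopAct712_0 loopOpts712_0 (q + f)) = true := by decide +kernel

theorem loopCover712_0_6 : (((halvesList.drop 360).take 60).all fun q => flipList.all fun f =>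
    loopAt loopAct712_0 loopOpts712_0 (q + f)) = true := by decide +kernel

theorem loopCover712_0_7 : (((halvesList.drop 420).take 60).all fun q => flipList.all fun f =>
    loopAt loopAct712_0 loopOpts712_0 (q + f)) = true := by decide +kernel

theorem loopCover712_0_8 : (((halvesList.drop 480).take 60).all fun q => flipList.all fun f =>
    loopAt loopAct712_0 loopOpts712_0 (q + f)) = true := by decide +kernel

theorem loopCover712_0_9 : (((halvesList.drop 540).take 60).all fun q => flipList.all fun f =>
    loopAt loopAct712_0 loopOpts712_0 (q + f)) = true := by decide +kernel

theorem loopCover712_0_10 : (((halvesList.drop 600).take 60).all fun q => flipList.all fun f =>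
    loopAt loopAct712_0 loopOpts712_0 (q + f)) = true := by decide +kernel

theorem loopCover712_0_11 : (((halvesList.drop 660).take 60).all fun q => flipList.all fun f =>
    loopAt loopAct712_0 loopOpts712_0 (q + f)) = true := by decide +kernel

theorem loopCover712_0 : ∀ c, Mem c → loopAt loopAct712_0 loopOpts712_0 c = true :=
  all_elems (fun j hj => by interval_cases j; exacts [loopCover712_0_0, loopCover712_0_1, loopCover712_0_2, loopCover712_0_3, loopCover712_0_4, loopCover712_0_5, loopCover712_0_6, loopCover712_0_7, loopCover712_0_8, loopCover712_0_9, loopCover712_0_10, loopCover712_0_11])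

end Cfsg.Agent.Fus.SymSix
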