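import Cfsg.Agent.Lib.Fus.SymSix.CaseSp
import Cfsg.Agent.Lib.Fus.SymSix.CaseAlt
import Cfsg.Agent.Lib.Fus.SymSix.Degenerate

/-!
# Groups with an involution centralizer like that of six transpositions in degree twelve
-/

set_option autoImplicit false
set_option maxRecDepth 100000

namespace Cfsg.Agent.Fus.SymSix

/-- The classification by the centralizer of a central involution. -/
theorem main {G : Type*} [Group G] [Finite G] {z : G} (hz : orderOf z = 2)
    (hS : ∃ P : Sylow 2 G, (P : Subgroup G) ≤ Subgroup.centralizer ({z} : Set G))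
    (e : Subgroup.centralizer ({z} : Set G) ≃* C12) :
    Nonempty (G ≃* ↥(alternatingGroup (Fin 12))) ∨ Nonempty (G ≃* ↥(alternatingGroup (Fin 13))) ∨
      Nonempty (G ≃* Cfsg.PSp 3 (ZMod 2)) ∨
      (Cfsg.oddCore G ⊔ Subgroup.centralizer ({z} : Set G) = ⊤ ∧ IsMulCommutative ↥(Cfsg.oddCore G)) := by
  obtain ⟨I, L⟩ := exists_setup hz e
  rcases L.patterns with h | ⟨I', L', h | h⟩
  · exact Or.inr (Or.inr (Or.inr (L.degenerate h)))
  · obtain ⟨hm, a, ha⟩ := h
    exact Or.inr (Or.inr (Or.inl (caseSp L' hm hS ha)))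
  · obtain ⟨hm, a, b, ha, hb⟩ := h
    rcases caseAlt L' hm hS ha hb with h | h
    · exact Or.inl h
    · exact Or.inr (Or.inl h)

end Cfsg.Agent.Fus.SymSix
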