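import Cfsg.Agent.Lib.Fus.SymSix.NodeData512
import Cfsg.Agent.Lib.Fus.SymSix.Cert

/-! Generated data for the centralizer of six transpositions. -/

set_option autoImplicit false
set_option maxRecDepth 100000

namespace Cfsg.Agent.Fus.SymSix

/-- The certificate of a subgroup. -/
def nCert512_0 : NodeCert :=
  .pair ⟨9073969, 12154161,
    [(11035680, ⟨[6, 1, 0, 2, 1, 3, 2, 4, 3], [], 9069600, 11035697, 9069600⟩)],
    []⟩

/-- The certificate of a subgroup. -/
def nCert512_1 : NodeCert :=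
  .pair ⟨12154161, 10188081,
    [(11035680, ⟨[], [6, 1, 0, 2, 3, 4, 5, 1, 2, 3], 9061920, 9061920, 11028000⟩)],
    []⟩

/-- The certificate of a subgroup. -/
def nCert512_2 : NodeCert :=
  .pair ⟨12154161, 10188081,
    [(11035680, ⟨[], [6, 1, 0, 2, 3, 4, 5, 1, 2, 3], 9061890, 9061890, 11040019⟩)],
    []⟩

/-- The certificate of a subgroup. -/
def nCert512_3 : NodeCert :=
  .pair ⟨12154161, 9073969,
    [(11035680, ⟨[], [6, 1, 0, 2, 1, 3, 2, 4, 3], 12149792, 12149792, 11035650⟩)],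
    []⟩

/-- The certificate of a subgroup. -/
def nCert512_4 : NodeCert :=
  .pair ⟨12154161, 12142129,
    [(11035680, ⟨[], [6, 1, 0, 2, 1], 12142112, 12142112, 10176049⟩)],
    []⟩

/-- The certificate of a subgroup. -/
def nCert512_5 : NodeCert :=
  .pair ⟨12154161, 9073969,
    [(11035680, ⟨[], [6, 1, 0, 2, 1, 3, 2, 4, 3], 12142082, 12142082, 9061890⟩)],
    []⟩

/-- The certificate of a subgroup. -/
def nCert512_6 : NodeCert :=
  .pair ⟨12154161, 12154114,
    [(11035680, ⟨[], [6], 10176002, 10176002, 12149809⟩)],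
    []⟩

/-- The certificate of a subgroup. -/
def nCert512_7 : NodeCert :=
  .pair ⟨12154161, 12142129,
    [(11035680, ⟨[], [6, 1, 0, 2, 1], 12154144, 12154144, 10176002⟩)],
    []⟩

/-- The certificate of a subgroup. -/
def nCert512_8 : NodeCert :=
  .pair ⟨12154161, 9073969,
    [(11035680, ⟨[], [6, 1, 0, 2, 1, 3, 2, 4, 3], 9069600, 9069600, 11035697⟩),
     (9069600, ⟨[6, 1, 0, 2, 3, 4, 5, 1, 2, 3], [6, 1, 0, 2, 1, 3, 2, 4, 3], 9069600, 11035667, 11035697⟩)],
    [(9069600, ⟨[], [6, 1, 0, 2, 3, 4, 5, 1, 2, 3], 9044550, 9044550, 12084499⟩)]⟩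

/-- The certificate of a subgroup. -/
def nCert512_9 : NodeCert :=
  .pair ⟨9073969, 12154161,
    [(11035680, ⟨[6, 1, 0, 2, 1, 3, 2, 4, 3], [], 9069600, 11035697, 9069600⟩)],
    []⟩

/-- The certificate of a subgroup. -/
def nCert512_10 : NodeCert :=
  .pair ⟨12154161, 9073969,
    [(11035680, ⟨[], [6, 1, 0, 2, 1, 3, 2, 4, 3], 9069600, 9069600, 11035697⟩),
     (9069600, ⟨[6, 1, 0, 2, 3, 4, 5, 1, 2, 3], [6, 1, 0, 2, 1, 3, 2, 4, 3], 9069600, 11035667, 11035697⟩),
     (11011110, ⟨[6, 1, 2, 5], [6, 1, 0, 2, 1, 3, 2, 4, 3], 9069600, 11027987, 11035697⟩)],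
    [(9069600, ⟨[], [6, 1, 0, 2, 3, 4, 5, 1, 2, 3], 9045030, 9045030, 5794592⟩),
     (11011110, ⟨[], [6, 1, 2, 5], 9069600, 9069600, 11027987⟩)]⟩

/-- The certificate of a subgroup. -/
def nCert512_11 : NodeCert :=
  .pair ⟨12154161, 9073969,
    [(11035680, ⟨[], [6, 1, 0, 2, 1, 3, 2, 4, 3], 9069600, 9069600, 11035697⟩),
     (9069600, ⟨[6, 1, 0, 2, 3, 4, 5, 1, 2, 3], [6, 1, 0, 2, 1, 3, 2, 4, 3], 9069600, 11035667, 11035697⟩)],
    [(9069600, ⟨[], [6, 1, 0, 2, 3, 4, 5, 1, 2, 3], 9045302, 9045302, 12031264⟩)]⟩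

/-- The certificate of a subgroup. -/
def nCert512_12 : NodeCert :=
  .pair ⟨12154161, 9073969,
    [(11035680, ⟨[], [6, 1, 0, 2, 1, 3, 2, 4, 3], 9069600, 9069600, 11035697⟩),
     (9069600, ⟨[6, 1, 0, 2, 3, 4, 5, 1, 2, 3], [6, 1, 0, 2, 1, 3, 2, 4, 3], 9069600, 11035667, 11035697⟩)],
    [(9069600, ⟨[], [6, 1, 0, 2, 3, 4, 5, 1, 2, 3], 9069617, 9069617, 9066259⟩)]⟩

/-- The certificate of a subgroup. -/
def nCert512_13 : NodeCert :=
  .pair ⟨12154161, 9073969,
    [(11035680, ⟨[], [6, 1, 0, 2, 1, 3, 2, 4, 3], 9069600, 9069600, 11035697⟩),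
     (9069600, ⟨[6, 1, 0, 2, 3, 4, 5, 1, 2, 3], [6, 1, 0, 2, 1, 3, 2, 4, 3], 9069600, 11035667, 11035697⟩)],
    [(9069600, ⟨[], [6, 1, 0, 2, 3, 4, 5, 1, 2, 3], 10158662, 10158662, 12084529⟩)]⟩

/-- The certificate of a subgroup. -/
def nCert512_14 : NodeCert :=
  .pair ⟨12154161, 9073969,
    [(11035680, ⟨[], [6, 1, 0, 2, 1, 3, 2, 4, 3], 9069600, 9069600, 11035697⟩),
     (9069600, ⟨[6, 1, 0, 2, 3, 4, 5, 1, 2, 3], [6, 1, 0, 2, 1, 3, 2, 4, 3], 9069600, 11035667, 11035697⟩)],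
    [(9069600, ⟨[], [6, 1, 0, 2, 3, 4, 5, 1, 2, 3], 10158934, 10158934, 5741361⟩)]⟩

/-- The certificate of a subgroup. -/
def nCert512_15 : NodeCert :=
  .pair ⟨9073969, 12154161,
    [(11035680, ⟨[6, 1, 0, 2, 1, 3, 2, 4, 3], [], 9069600, 11035697, 9069600⟩),
     (10159142, ⟨[6, 1, 2, 5], [], 9069600, 11027987, 9069600⟩)],
    [(10159142, ⟨[6, 1, 0, 2, 1, 3, 2, 4, 3], [6, 1, 2, 5], 9069600, 11035697, 11027987⟩)]⟩

/-- The certificate of a subgroup. -/
def nCert512_16 : NodeCert :=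
  .pair ⟨12154161, 12154114,
    [(11035680, ⟨[], [6], 9069600, 9069600, 11027987⟩),
     (9069600, ⟨[6, 1, 0, 2, 3, 4, 5, 1, 2, 3], [6], 9069600, 11035667, 11027987⟩),
     (10183712, ⟨[6, 1, 0, 2, 1, 3, 2, 4, 3], [6], 9069600, 11035697, 11027987⟩)],
    [(9069600, ⟨[], [6, 1, 0, 2, 3, 4, 5, 1, 2, 3], 10183712, 10183712, 11035697⟩),
     (10183712, ⟨[], [6, 1, 0, 2, 1, 3, 2, 4, 3], 9069600, 9069600, 11035697⟩)]⟩

/-- The certificate of a subgroup. -/
def nCert512_17 : NodeCert :=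
  .pair ⟨12154161, 9073969,
    [(11035680, ⟨[], [6, 1, 0, 2, 1, 3, 2, 4, 3], 9069600, 9069600, 11035697⟩),
     (9069600, ⟨[6, 1, 0, 2, 3, 4, 5, 1, 2, 3], [6, 1, 0, 2, 1, 3, 2, 4, 3], 9069600, 11035667, 11035697⟩)],
    [(9069600, ⟨[], [6, 1, 0, 2, 3, 4, 5, 1, 2, 3], 10183729, 10183729, 9066289⟩)]⟩

/-- The certificate of a subgroup. -/
def nCert512_18 : NodeCert :=
  .pair ⟨12154161, 12154114,
    [(11035680, ⟨[], [6], 4622850, 4622850, 4622897⟩)],
    []⟩

/-- The certificate of a subgroup. -/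
def nCert512_19 : NodeCert :=
  .pair ⟨12154161, 12154131,
    [(11035680, ⟨[], [6, 1, 5, 1], 9061920, 9061920, 11040032⟩)],
    []⟩

/-- The certificate of a subgroup. -/
def nCert512_20 : NodeCert :=
  .pair ⟨12154161, 12154131,
    [(11035680, ⟨[], [6, 1, 5, 1], 9061920, 9061920, 11040032⟩)],
    []⟩

/-- The certificate of a subgroup. -/
def nCert512_21 : NodeCert :=
  .pair ⟨12154161, 12154114,
    [(11035680, ⟨[], [6], 4622897, 4622897, 4622850⟩)],
    []⟩

/-- The certificate of a subgroup. -/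
def nCert512_22 : NodeCert :=
  .pair ⟨12154161, 12142129,
    [(11035680, ⟨[], [6, 1, 0, 2, 1], 11035697, 11035697, 9066272⟩)],
    []⟩

/-- The certificate of a subgroup. -/
def nCert512_23 : NodeCert :=
  .pair ⟨12154161, 9073969,
    [(11035680, ⟨[], [6, 1, 0, 2, 1, 3, 2, 4, 3], 9066242, 9066242, 12149809⟩)],
    []⟩

/-- The certificate of a subgroup. -/
def nCert512_24 : NodeCert :=
  .pair ⟨12154161, 9073969,
    [(11035680, ⟨[], [6, 1, 0, 2, 1, 3, 2, 4, 3], 9066259, 9066259, 10180401⟩)],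
    []⟩

/-- The certificate of a subgroup. -/
def nCert512_25 : NodeCert :=
  .pair ⟨12154161, 9073969,
    [(11035680, ⟨[], [6, 1, 0, 2, 1, 3, 2, 4, 3], 11040032, 11040032, 10176032⟩)],
    []⟩

/-- The certificate of a subgroup. -/
def nCert512_26 : NodeCert :=
  .pair ⟨12154161, 12142129,
    [(11035680, ⟨[], [6, 1, 0, 2, 1], 9066289, 9066289, 9073952⟩)],
    []⟩

/-- The certificate of a subgroup. -/
def nCert512_27 : NodeCert :=
  .pair ⟨12154161, 10188081,
    [(11035680, ⟨[], [6, 1, 0, 2, 3, 4, 5, 1, 2, 3], 9061920, 9061920, 11028000⟩)],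
    []⟩

/-- The certificate of a subgroup. -/
def nCert512_28 : NodeCert :=
  .pair ⟨12154161, 9073969,
    [(11035680, ⟨[], [6, 1, 0, 2, 1, 3, 2, 4, 3], 11027987, 11027987, 11040032⟩)],
    []⟩

/-- The certificate of a subgroup. -/
def nCert512_29 : NodeCert :=
  .pair ⟨12154161, 9073969,
    [(11035680, ⟨[], [6, 1, 0, 2, 1, 3, 2, 4, 3], 9069617, 9069617, 9066289⟩)],
    []⟩

/-- The certificate of a subgroup. -/
def nCert512_30 : NodeCert :=
  .pair ⟨12154161, 9073969,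
    [(11035680, ⟨[], [6, 1, 0, 2, 1, 3, 2, 4, 3], 11032322, 11032322, 12149792⟩)],
    []⟩

/-- The certificate of a subgroup. -/
def nCert512_31 : NodeCert :=
  .pair ⟨12154161, 12142129,
    [(11035680, ⟨[], [6, 1, 0, 2, 1], 10180384, 10180384, 10183712⟩)],
    []⟩

/-- The certificate of a subgroup. -/
def nCert512_32 : NodeCert :=
  .pair ⟨12154161, 9073969,
    [(11035680, ⟨[], [6, 1, 0, 2, 1, 3, 2, 4, 3], 10188034, 10188034, 12142112⟩)],
    []⟩

/-- The certificate of a subgroup. -/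
def nCert512_33 : NodeCert :=
  .pair ⟨12154161, 9073969,
    [(11035680, ⟨[], [6, 1, 0, 2, 1, 3, 2, 4, 3], 10188051, 10188051, 10188064⟩)],
    []⟩

/-- The certificate of a subgroup. -/
def nCert512_34 : NodeCert :=
  .pair ⟨12154161, 9073969,
    [(11035680, ⟨[], [6, 1, 0, 2, 1, 3, 2, 4, 3], 10188064, 10188064, 10176019⟩)],
    []⟩

/-- The certificate of a subgroup. -/
def nCert512_35 : NodeCert :=
  .pair ⟨12154161, 12142129,
    [(11035680, ⟨[], [6, 1, 0, 2, 1], 9061890, 9061890, 9061937⟩)],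
    []⟩

/-- The certificate of a subgroup. -/
def nCert512_36 : NodeCert :=
  .pair ⟨12154161, 12142129,
    [(11035680, ⟨[], [6, 1, 0, 2, 1], 9061890, 9061890, 9061937⟩)],
    []⟩

/-- The certificate of a subgroup. -/
def nCert512_37 : NodeCert :=
  .pair ⟨12154161, 9073969,
    [(11035680, ⟨[], [6, 1, 0, 2, 1, 3, 2, 4, 3], 9061890, 9061890, 9061937⟩)],
    []⟩

/-- The certificate of a subgroup. -/
def nCert512_38 : NodeCert :=
  .pair ⟨12154161, 9073969,
    [(11035680, ⟨[], [6, 1, 0, 2, 1, 3, 2, 4, 3], 9061890, 9061890, 9061937⟩)],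
    []⟩

/-- The certificate of a subgroup. -/
def nCert512_39 : NodeCert :=
  .pair ⟨12154161, 9073969,
    [(11035680, ⟨[], [6, 1, 0, 2, 1, 3, 2, 4, 3], 12149792, 12149792, 11035650⟩)],
    []⟩

/-- The certificate of a subgroup. -/
def nCert512_40 : NodeCert :=
  .pair ⟨12154161, 9073969,
    [(11035680, ⟨[], [6, 1, 0, 2, 1, 3, 2, 4, 3], 12149792, 12149792, 11035650⟩)],
    []⟩

/-- The certificate of a subgroup. -/
def nCert512_41 : NodeCert :=
  .pair ⟨12154161, 9073969,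
    [(11035680, ⟨[], [6, 1, 0, 2, 1, 3, 2, 4, 3], 12149792, 12149792, 11035650⟩)],
    []⟩

/-- The certificate of a subgroup. -/
def nCert512_42 : NodeCert :=
  .pair ⟨12154161, 12125494,
    [(11035680, ⟨[], [6, 1, 2], 12149792, 12149792, 10176032⟩)],
    []⟩

/-- The certificate of a subgroup. -/
def nCert512_43 : NodeCert :=
  .pair ⟨12154161, 12153409,
    [(11035680, ⟨[], [6, 1, 0], 12149792, 12149792, 10176032⟩)],
    []⟩

/-- The certificate of a subgroup. -/
def nCert512_44 : NodeCert :=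
  .pair ⟨12154161, 12154114,
    [(11035680, ⟨[], [6], 12149792, 12149792, 10176032⟩)],
    []⟩

/-- The certificate of a subgroup. -/
def nCert512_45 : NodeCert :=
  .pair ⟨12154161, 9073969,
    [(11035680, ⟨[], [6, 1, 0, 2, 1, 3, 2, 4, 3], 10183729, 10183729, 9066259⟩)],
    []⟩

/-- The certificate of a subgroup. -/
def nCert512_46 : NodeCert :=
  .pair ⟨12154161, 9073969,
    [(11035680, ⟨[], [6, 1, 0, 2, 1, 3, 2, 4, 3], 9066242, 9066242, 12149809⟩)],
    []⟩

/-- The certificate of a subgroup. -/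
def nCert512_47 : NodeCert :=
  .pair ⟨12154161, 9073969,
    [(11035680, ⟨[], [6, 1, 0, 2, 1, 3, 2, 4, 3], 11028017, 11028017, 9073939⟩)],
    []⟩

/-- The certificate of a subgroup. -/
def nCert512_48 : NodeCert :=
  .pair ⟨12154161, 12142129,
    [(11035680, ⟨[], [6, 1, 0, 2, 1], 12142112, 12142112, 10176049⟩)],
    []⟩

/-- The certificate of a subgroup. -/
def nCert512_49 : NodeCert :=
  .pair ⟨12154161, 9073969,
    [(11035680, ⟨[], [6, 1, 0, 2, 1, 3, 2, 4, 3], 12142082, 12142082, 9061890⟩)],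
    []⟩

/-- The certificate of a subgroup. -/
def nCert512_50 : NodeCert :=
  .pair ⟨12154161, 9073969,
    [(11035680, ⟨[], [6, 1, 0, 2, 1, 3, 2, 4, 3], 12142082, 12142082, 9061890⟩)],
    []⟩

/-- The certificate of a subgroup. -/
def nCert512_51 : NodeCert :=
  .pair ⟨12154161, 9073969,
    [(11035680, ⟨[], [6, 1, 0, 2, 1, 3, 2, 4, 3], 9061907, 9061907, 11040049⟩)],
    []⟩

/-- The certificate of a subgroup. -/
def nCert512_52 : NodeCert :=
  .pair ⟨12154161, 9073969,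
    [(11035680, ⟨[], [6, 1, 0, 2, 1, 3, 2, 4, 3], 12154144, 12154144, 10176002⟩)],
    []⟩

/-- The certificate of a subgroup. -/
def nCert512_53 : NodeCert :=
  .pair ⟨12154161, 9073969,
    [(11035680, ⟨[], [6, 1, 0, 2, 1, 3, 2, 4, 3], 9069600, 9069600, 11035697⟩),
     (9069600, ⟨[6, 1, 0, 2, 3, 4, 5, 1, 2, 3], [6, 1, 0, 2, 1, 3, 2, 4, 3], 9069600, 11035667, 11035697⟩)],
    [(9069600, ⟨[], [6, 1, 0, 2, 3, 4, 5, 1, 2, 3], 9044550, 9044550, 12084499⟩)]⟩

/-- The certificate of a subgroup. -/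
def nCert512_54 : NodeCert :=
  .pair ⟨12154161, 9073969,
    [(11035680, ⟨[], [6, 1, 0, 2, 1, 3, 2, 4, 3], 9069600, 9069600, 11035697⟩),
     (9069600, ⟨[6, 1, 0, 2, 3, 4, 5, 1, 2, 3], [6, 1, 0, 2, 1, 3, 2, 4, 3], 9069600, 11035667, 11035697⟩),
     (11011110, ⟨[6, 1, 2, 5], [6, 1, 0, 2, 1, 3, 2, 4, 3], 9069600, 11027987, 11035697⟩),
     (11035200, ⟨[6, 1, 0, 5], [6, 1, 0, 2, 1, 3, 2, 4, 3], 9069600, 11027987, 11035697⟩)],
    [(9069600, ⟨[], [6, 1, 0, 2, 3, 4, 5, 1, 2, 3], 9044550, 9044550, 12084499⟩),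
     (11011110, ⟨[], [6, 1, 2, 5], 9069600, 9069600, 11027987⟩),
     (11035200, ⟨[], [6, 1, 0, 5], 9069600, 9069600, 11027987⟩)]⟩

/-- The certificate of a subgroup. -/
def nCert512_55 : NodeCert :=
  .pair ⟨12154161, 9073969,
    [(11035680, ⟨[], [6, 1, 0, 2, 1, 3, 2, 4, 3], 9069600, 9069600, 11035697⟩),
     (9069600, ⟨[6, 1, 0, 2, 3, 4, 5, 1, 2, 3], [6, 1, 0, 2, 1, 3, 2, 4, 3], 9069600, 11035667, 11035697⟩),
     (11035472, ⟨[6, 1, 0], [6, 1, 0, 2, 1, 3, 2, 4, 3], 9069600, 11027987, 11035697⟩)],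
    [(9069600, ⟨[], [6, 1, 0, 2, 3, 4, 5, 1, 2, 3], 9044550, 9044550, 12084499⟩),
     (11035472, ⟨[], [6, 1, 0], 9069600, 9069600, 11027987⟩)]⟩

/-- The certificate of a subgroup. -/
def nCert512_56 : NodeCert :=
  .pair ⟨12154161, 9073969,
    [(11035680, ⟨[], [6, 1, 0, 2, 1, 3, 2, 4, 3], 9069600, 9069600, 11035697⟩),
     (9069600, ⟨[6, 1, 0, 2, 3, 4, 5, 1, 2, 3], [6, 1, 0, 2, 1, 3, 2, 4, 3], 9069600, 11035667, 11035697⟩)],
    [(9069600, ⟨[], [6, 1, 0, 2, 3, 4, 5, 1, 2, 3], 9044550, 9044550, 12084499⟩)]⟩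

/-- The certificate of a subgroup. -/
def nCert512_57 : NodeCert :=
  .pair ⟨12154161, 9073969,
    [(11035680, ⟨[], [6, 1, 0, 2, 1, 3, 2, 4, 3], 9069600, 9069600, 11035697⟩),
     (9069600, ⟨[6, 1, 0, 2, 3, 4, 5, 1, 2, 3], [6, 1, 0, 2, 1, 3, 2, 4, 3], 9069600, 11035667, 11035697⟩)],
    [(9069600, ⟨[], [6, 1, 0, 2, 3, 4, 5, 1, 2, 3], 9044550, 9044550, 12084499⟩)]⟩

/-- The certificate of a subgroup. -/
def nCert512_58 : NodeCert :=
  .pair ⟨12154161, 12125494,
    [(11035680, ⟨[], [6, 1, 2], 9069600, 9069600, 11027987⟩),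
     (9069600, ⟨[6, 1, 0, 2, 3, 4, 5, 1, 2, 3], [6, 1, 2], 9069600, 11035667, 11027987⟩),
     (10183712, ⟨[6, 1, 0, 2, 1, 3, 2, 4, 3], [6, 1, 2], 9069600, 11035697, 11027987⟩)],
    [(9069600, ⟨[], [6, 1, 0, 2, 3, 4, 5, 1, 2, 3], 9044550, 9044550, 12084499⟩),
     (10183712, ⟨[], [6, 1, 0, 2, 1, 3, 2, 4, 3], 9069600, 9069600, 11035697⟩)]⟩

/-- The certificate of a subgroup. -/
def nCert512_59 : NodeCert :=
  .pair ⟨12154161, 9073969,
    [(11035680, ⟨[], [6, 1, 0, 2, 1, 3, 2, 4, 3], 9069600, 9069600, 11035697⟩),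
     (9069600, ⟨[6, 1, 0, 2, 3, 4, 5, 1, 2, 3], [6, 1, 0, 2, 1, 3, 2, 4, 3], 9069600, 11035667, 11035697⟩)],
    [(9069600, ⟨[], [6, 1, 0, 2, 3, 4, 5, 1, 2, 3], 9044550, 9044550, 12084499⟩)]⟩

/-- The certificate of a subgroup. -/
def nCert512_60 : NodeCert :=
  .pair ⟨12154161, 9073969,
    [(11035680, ⟨[], [6, 1, 0, 2, 1, 3, 2, 4, 3], 9069600, 9069600, 11035697⟩),
     (9069600, ⟨[6, 1, 0, 2, 3, 4, 5, 1, 2, 3], [6, 1, 0, 2, 1, 3, 2, 4, 3], 9069600, 11035667, 11035697⟩)],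
    [(9069600, ⟨[], [6, 1, 0, 2, 3, 4, 5, 1, 2, 3], 9044550, 9044550, 12084499⟩)]⟩

/-- The certificate of a subgroup. -/
def nCert512_61 : NodeCert :=
  .pair ⟨12154161, 9073969,
    [(11035680, ⟨[], [6, 1, 0, 2, 1, 3, 2, 4, 3], 9069600, 9069600, 11035697⟩),
     (9069600, ⟨[6, 1, 0, 2, 3, 4, 5, 1, 2, 3], [6, 1, 0, 2, 1, 3, 2, 4, 3], 9069600, 11035667, 11035697⟩)],
    [(9069600, ⟨[], [6, 1, 0, 2, 3, 4, 5, 1, 2, 3], 9044550, 9044550, 12084499⟩)]⟩

/-- The certificate of a subgroup. -/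
def nCert512_62 : NodeCert :=
  .pair ⟨12154161, 9073969,
    [(11035680, ⟨[], [6, 1, 0, 2, 1, 3, 2, 4, 3], 9069600, 9069600, 11035697⟩),
     (9069600, ⟨[6, 1, 0, 2, 3, 4, 5, 1, 2, 3], [6, 1, 0, 2, 1, 3, 2, 4, 3], 9069600, 11035667, 11035697⟩),
     (11011110, ⟨[6, 1, 2, 5], [6, 1, 0, 2, 1, 3, 2, 4, 3], 9069600, 11027987, 11035697⟩),
     (11035472, ⟨[6, 1, 0], [6, 1, 0, 2, 1, 3, 2, 4, 3], 9069600, 11027987, 11035697⟩)],
    [(9069600, ⟨[], [6, 1, 0, 2, 3, 4, 5, 1, 2, 3], 9045030, 9045030, 5794592⟩),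
     (11011110, ⟨[], [6, 1, 2, 5], 9069600, 9069600, 11027987⟩),
     (11035472, ⟨[], [6, 1, 0], 9069600, 9069600, 11027987⟩)]⟩

/-- The certificate of a subgroup. -/
def nCert512_63 : NodeCert :=
  .pair ⟨12154161, 9073969,
    [(11035680, ⟨[], [6, 1, 0, 2, 1, 3, 2, 4, 3], 9069600, 9069600, 11035697⟩),
     (9069600, ⟨[6, 1, 0, 2, 3, 4, 5, 1, 2, 3], [6, 1, 0, 2, 1, 3, 2, 4, 3], 9069600, 11035667, 11035697⟩),
     (11035200, ⟨[6, 1, 0, 5], [6, 1, 0, 2, 1, 3, 2, 4, 3], 9069600, 11027987, 11035697⟩)],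
    [(9069600, ⟨[], [6, 1, 0, 2, 3, 4, 5, 1, 2, 3], 9045302, 9045302, 12031264⟩),
     (11035200, ⟨[], [6, 1, 0, 5], 9069600, 9069600, 11027987⟩)]⟩

/-- The certificate of a subgroup. -/
def nCert512_64 : NodeCert :=
  .pair ⟨12154161, 9073969,
    [(11035680, ⟨[], [6, 1, 0, 2, 1, 3, 2, 4, 3], 9069600, 9069600, 11035697⟩),
     (9069600, ⟨[6, 1, 0, 2, 3, 4, 5, 1, 2, 3], [6, 1, 0, 2, 1, 3, 2, 4, 3], 9069600, 11035667, 11035697⟩)],
    [(9069600, ⟨[], [6, 1, 0, 2, 3, 4, 5, 1, 2, 3], 9049399, 9049399, 4815392⟩)]⟩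

/-- The certificate of a subgroup. -/
def nCert512_65 : NodeCert :=
  .pair ⟨9073969, 12154161,
    [(11035680, ⟨[6, 1, 0, 2, 1, 3, 2, 4, 3], [], 9069600, 11035697, 9069600⟩)],
    []⟩

/-- The certificate of a subgroup. -/
def nCert512_66 : NodeCert :=
  .pair ⟨12154161, 9073969,
    [(11035680, ⟨[], [6, 1, 0, 2, 1, 3, 2, 4, 3], 9069600, 9069600, 11035697⟩),
     (9069600, ⟨[6, 1, 0, 2, 3, 4, 5, 1, 2, 3], [6, 1, 0, 2, 1, 3, 2, 4, 3], 9069600, 11035667, 11035697⟩)],
    [(9069600, ⟨[], [6, 1, 0, 2, 3, 4, 5, 1, 2, 3], 10158662, 10158662, 12084529⟩)]⟩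

/-- The certificate of a subgroup. -/
def nCert512_67 : NodeCert :=
  .pair ⟨9073969, 12154161,
    [(11035680, ⟨[6, 1, 0, 2, 1, 3, 2, 4, 3], [], 9069600, 11035697, 9069600⟩),
     (10159142, ⟨[6, 1, 2, 5], [], 9069600, 11027987, 9069600⟩),
     (10183504, ⟨[6, 1, 0], [], 9069600, 11027987, 9069600⟩)],
    [(10159142, ⟨[6, 1, 0, 2, 1, 3, 2, 4, 3], [6, 1, 2, 5], 9069600, 11035697, 11027987⟩),
     (10183504, ⟨[6, 1, 0, 2, 1, 3, 2, 4, 3], [6, 1, 0], 9069600, 11035697, 11027987⟩)]⟩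

/-- The certificate of a subgroup. -/
def nCert512_68 : NodeCert :=
  .pair ⟨12154161, 9073969,
    [(11035680, ⟨[], [6, 1, 0, 2, 1, 3, 2, 4, 3], 9069600, 9069600, 11035697⟩),
     (9069600, ⟨[6, 1, 0, 2, 3, 4, 5, 1, 2, 3], [6, 1, 0, 2, 1, 3, 2, 4, 3], 9069600, 11035667, 11035697⟩)],
    [(9069600, ⟨[], [6, 1, 0, 2, 3, 4, 5, 1, 2, 3], 10166629, 10166629, 6596657⟩)]⟩

/-- The certificate of a subgroup. -/
def nCert512_69 : NodeCert :=
  .pair ⟨12154161, 9073969,
    [(11035680, ⟨[], [6, 1, 0, 2, 1, 3, 2, 4, 3], 9069600, 9069600, 11035697⟩),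
     (9069600, ⟨[6, 1, 0, 2, 3, 4, 5, 1, 2, 3], [6, 1, 0, 2, 1, 3, 2, 4, 3], 9069600, 11035667, 11035697⟩),
     (11011110, ⟨[6, 1, 2, 5], [6, 1, 0, 2, 1, 3, 2, 4, 3], 9069600, 11027987, 11035697⟩)],
    [(9069600, ⟨[], [6, 1, 0, 2, 3, 4, 5, 1, 2, 3], 9045030, 9045030, 5794592⟩),
     (11011110, ⟨[], [6, 1, 2, 5], 9069600, 9069600, 11027987⟩)]⟩

/-- The certificate of a subgroup. -/
def nCert512_70 : NodeCert :=
  .pair ⟨12154161, 9073969,
    [(11035680, ⟨[], [6, 1, 0, 2, 1, 3, 2, 4, 3], 9069600, 9069600, 11035697⟩),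
     (9069600, ⟨[6, 1, 0, 2, 3, 4, 5, 1, 2, 3], [6, 1, 0, 2, 1, 3, 2, 4, 3], 9069600, 11035667, 11035697⟩),
     (11011110, ⟨[6, 1, 2, 5], [6, 1, 0, 2, 1, 3, 2, 4, 3], 9069600, 11027987, 11035697⟩),
     (11015207, ⟨[6, 1, 2], [6, 1, 0, 2, 1, 3, 2, 4, 3], 9069600, 11027987, 11035697⟩)],
    [(9069600, ⟨[], [6, 1, 0, 2, 3, 4, 5, 1, 2, 3], 9045030, 9045030, 5794592⟩),
     (11011110, ⟨[], [6, 1, 2, 5], 9069600, 9069600, 11027987⟩),
     (11015207, ⟨[], [6, 1, 2], 9069600, 9069600, 11027987⟩)]⟩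

/-- The certificate of a subgroup. -/
def nCert512_71 : NodeCert :=
  .pair ⟨12154161, 9073969,
    [(11035680, ⟨[], [6, 1, 0, 2, 1, 3, 2, 4, 3], 9069600, 9069600, 11035697⟩),
     (9069600, ⟨[6, 1, 0, 2, 3, 4, 5, 1, 2, 3], [6, 1, 0, 2, 1, 3, 2, 4, 3], 9069600, 11035667, 11035697⟩),
     (11011110, ⟨[6, 1, 2, 5], [6, 1, 0, 2, 1, 3, 2, 4, 3], 9069600, 11027987, 11035697⟩)],
    [(9069600, ⟨[], [6, 1, 0, 2, 3, 4, 5, 1, 2, 3], 9045030, 9045030, 5794592⟩),
     (11011110, ⟨[], [6, 1, 2, 5], 9069600, 9069600, 11027987⟩)]⟩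

/-- The certificate of a subgroup. -/
def nCert512_72 : NodeCert :=
  .pair ⟨12154161, 9073969,
    [(11035680, ⟨[], [6, 1, 0, 2, 1, 3, 2, 4, 3], 9069600, 9069600, 11035697⟩),
     (9069600, ⟨[6, 1, 0, 2, 3, 4, 5, 1, 2, 3], [6, 1, 0, 2, 1, 3, 2, 4, 3], 9069600, 11035667, 11035697⟩)],
    [(9069600, ⟨[], [6, 1, 0, 2, 3, 4, 5, 1, 2, 3], 9045302, 9045302, 12031264⟩)]⟩

/-- The certificate of a subgroup. -/
def nCert512_73 : NodeCert :=
  .pair ⟨12154161, 9073969,
    [(11035680, ⟨[], [6, 1, 0, 2, 1, 3, 2, 4, 3], 9069600, 9069600, 11035697⟩),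
     (9069600, ⟨[6, 1, 0, 2, 3, 4, 5, 1, 2, 3], [6, 1, 0, 2, 1, 3, 2, 4, 3], 9069600, 11035667, 11035697⟩)],
    [(9069600, ⟨[], [6, 1, 0, 2, 3, 4, 5, 1, 2, 3], 9045302, 9045302, 12031264⟩)]⟩

/-- The certificate of a subgroup. -/
def nCert512_74 : NodeCert :=
  .pair ⟨12154161, 9073969,
    [(11035680, ⟨[], [6, 1, 0, 2, 1, 3, 2, 4, 3], 9069600, 9069600, 11035697⟩),
     (9069600, ⟨[6, 1, 0, 2, 3, 4, 5, 1, 2, 3], [6, 1, 0, 2, 1, 3, 2, 4, 3], 9069600, 11035667, 11035697⟩)],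
    [(9069600, ⟨[], [6, 1, 0, 2, 3, 4, 5, 1, 2, 3], 9045302, 9045302, 12031264⟩)]⟩

/-- The certificate of a subgroup. -/
def nCert512_75 : NodeCert :=
  .pair ⟨12154161, 9073969,
    [(11035680, ⟨[], [6, 1, 0, 2, 1, 3, 2, 4, 3], 9069600, 9069600, 11035697⟩),
     (9069600, ⟨[6, 1, 0, 2, 3, 4, 5, 1, 2, 3], [6, 1, 0, 2, 1, 3, 2, 4, 3], 9069600, 11035667, 11035697⟩)],
    [(9069600, ⟨[], [6, 1, 0, 2, 3, 4, 5, 1, 2, 3], 9045302, 9045302, 12031264⟩)]⟩

/-- The certificate of a subgroup. -/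
def nCert512_76 : NodeCert :=
  .pair ⟨12154161, 9073969,
    [(11035680, ⟨[], [6, 1, 0, 2, 1, 3, 2, 4, 3], 9069600, 9069600, 11035697⟩),
     (9069600, ⟨[6, 1, 0, 2, 3, 4, 5, 1, 2, 3], [6, 1, 0, 2, 1, 3, 2, 4, 3], 9069600, 11035667, 11035697⟩)],
    [(9069600, ⟨[], [6, 1, 0, 2, 3, 4, 5, 1, 2, 3], 9069617, 9069617, 9066259⟩)]⟩

/-- The certificate of a subgroup. -/
def nCert512_77 : NodeCert :=
  .pair ⟨12154161, 9073969,
    [(11035680, ⟨[], [6, 1, 0, 2, 1, 3, 2, 4, 3], 9069600, 9069600, 11035697⟩),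
     (9069600, ⟨[6, 1, 0, 2, 3, 4, 5, 1, 2, 3], [6, 1, 0, 2, 1, 3, 2, 4, 3], 9069600, 11035667, 11035697⟩)],
    [(9069600, ⟨[], [6, 1, 0, 2, 3, 4, 5, 1, 2, 3], 9069617, 9069617, 9066259⟩)]⟩

/-- The certificate of a subgroup. -/
def nCert512_78 : NodeCert :=
  .pair ⟨12154161, 9073969,
    [(11035680, ⟨[], [6, 1, 0, 2, 1, 3, 2, 4, 3], 9069600, 9069600, 11035697⟩),
     (9069600, ⟨[6, 1, 0, 2, 3, 4, 5, 1, 2, 3], [6, 1, 0, 2, 1, 3, 2, 4, 3], 9069600, 11035667, 11035697⟩)],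
    [(9069600, ⟨[], [6, 1, 0, 2, 3, 4, 5, 1, 2, 3], 9069617, 9069617, 9066259⟩)]⟩

/-- The certificate of a subgroup. -/
def nCert512_79 : NodeCert :=
  .pair ⟨12154161, 12142129,
    [(11035680, ⟨[], [6, 1, 0, 2, 1], 9069600, 9069600, 11027987⟩),
     (9069600, ⟨[6, 1, 0, 2, 3, 4, 5, 1, 2, 3], [6, 1, 0, 2, 1], 9069600, 11035667, 11027987⟩),
     (10183712, ⟨[6, 1, 0, 2, 1, 3, 2, 4, 3], [6, 1, 0, 2, 1], 9069600, 11035697, 11027987⟩)],
    [(9069600, ⟨[], [6, 1, 0, 2, 3, 4, 5, 1, 2, 3], 9069617, 9069617, 9066259⟩),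
     (10183712, ⟨[], [6, 1, 0, 2, 1, 3, 2, 4, 3], 9069600, 9069600, 11035697⟩)]⟩

/-- The certificate of a subgroup. -/
def nCert512_80 : NodeCert :=
  .pair ⟨12154161, 9073969,
    [(11035680, ⟨[], [6, 1, 0, 2, 1, 3, 2, 4, 3], 9069600, 9069600, 11035697⟩),
     (9069600, ⟨[6, 1, 0, 2, 3, 4, 5, 1, 2, 3], [6, 1, 0, 2, 1, 3, 2, 4, 3], 9069600, 11035667, 11035697⟩)],
    [(9069600, ⟨[], [6, 1, 0, 2, 3, 4, 5, 1, 2, 3], 9069617, 9069617, 9066259⟩)]⟩

/-- The certificate of a subgroup. -/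
def nCert512_81 : NodeCert :=
  .pair ⟨12154161, 12154114,
    [(11035680, ⟨[], [6], 4622850, 4622850, 4622897⟩)],
    []⟩

/-- The certificate of a subgroup. -/
def nCert512_82 : NodeCert :=
  .pair ⟨12154161, 12154114,
    [(11035680, ⟨[], [6], 4622850, 4622850, 4622897⟩)],
    []⟩

/-- The certificate of a subgroup. -/
def nCert512_83 : NodeCert :=
  .pair ⟨12154161, 12154131,
    [(11035680, ⟨[], [6, 1, 5, 1], 9061920, 9061920, 11040032⟩)],
    []⟩

/-- The certificate of a subgroup. -/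
def nCert512_84 : NodeCert :=
  .pair ⟨12154161, 12154114,
    [(11035680, ⟨[], [6], 4622897, 4622897, 4622850⟩)],
    []⟩

/-- The certificate of a subgroup. -/
def nCert512_85 : NodeCert :=
  .pair ⟨12154161, 12154131,
    [(11035680, ⟨[], [6, 1, 5, 1], 9061920, 9061920, 11040032⟩)],
    []⟩

/-- The certificate of a subgroup. -/
def nCert512_86 : NodeCert :=
  .pair ⟨12154161, 12154114,
    [(11035680, ⟨[], [6], 4622897, 4622897, 4622850⟩)],
    []⟩

/-- The certificate of a subgroup. -/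
def nCert512_87 : NodeCert :=
  .pair ⟨12154161, 9073969,
    [(11035680, ⟨[], [6, 1, 0, 2, 1, 3, 2, 4, 3], 11035697, 11035697, 9066272⟩)],
    []⟩

/-- The certificate of a subgroup. -/
def nCert512_88 : NodeCert :=
  .pair ⟨12154161, 9073969,
    [(11035680, ⟨[], [6, 1, 0, 2, 1, 3, 2, 4, 3], 11035697, 11035697, 9066272⟩)],
    []⟩

/-- The certificate of a subgroup. -/
def nCert512_89 : NodeCert :=
  .pair ⟨12154161, 9073969,
    [(11035680, ⟨[], [6, 1, 0, 2, 1, 3, 2, 4, 3], 11035697, 11035697, 9066272⟩)],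
    []⟩

/-- The certificate of a subgroup. -/
def nCert512_90 : NodeCert :=
  .pair ⟨12154161, 9073969,
    [(11035680, ⟨[], [6, 1, 0, 2, 1, 3, 2, 4, 3], 11035697, 11035697, 9066272⟩)],
    []⟩

/-- The certificate of a subgroup. -/
def nCert512_91 : NodeCert :=
  .pair ⟨12154161, 9073969,
    [(11035680, ⟨[], [6, 1, 0, 2, 1, 3, 2, 4, 3], 11035697, 11035697, 9066272⟩)],
    []⟩

/-- The certificate of a subgroup. -/
def nCert512_92 : NodeCert :=
  .pair ⟨12154161, 9073969,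
    [(11035680, ⟨[], [6, 1, 0, 2, 1, 3, 2, 4, 3], 9066242, 9066242, 12149809⟩)],
    []⟩

/-- The certificate of a subgroup. -/
def nCert512_93 : NodeCert :=
  .pair ⟨12154161, 9073969,
    [(11035680, ⟨[], [6, 1, 0, 2, 1, 3, 2, 4, 3], 9066242, 9066242, 12149809⟩)],
    []⟩

/-- The certificate of a subgroup. -/
def nCert512_94 : NodeCert :=
  .pair ⟨12154161, 9073969,
    [(11035680, ⟨[], [6, 1, 0, 2, 1, 3, 2, 4, 3], 9066259, 9066259, 10180401⟩)],
    []⟩

/-- The certificate of a subgroup. -/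
def nCert512_95 : NodeCert :=
  .pair ⟨12154161, 9073969,
    [(11035680, ⟨[], [6, 1, 0, 2, 1, 3, 2, 4, 3], 9066259, 9066259, 10180401⟩)],
    []⟩

/-- The certificate of a subgroup. -/
def nCert512_96 : NodeCert :=
  .pair ⟨12154161, 9073969,
    [(11035680, ⟨[], [6, 1, 0, 2, 1, 3, 2, 4, 3], 11040032, 11040032, 10176032⟩)],
    []⟩

/-- The certificate of a subgroup. -/
def nCert512_97 : NodeCert :=
  .pair ⟨12154161, 12142129,
    [(11035680, ⟨[], [6, 1, 0, 2, 1], 9066289, 9066289, 9073952⟩)],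
    []⟩

/-- The certificate of a subgroup. -/
def nCert512_98 : NodeCert :=
  .pair ⟨12154161, 9073969,
    [(11035680, ⟨[], [6, 1, 0, 2, 1, 3, 2, 4, 3], 11027987, 11027987, 11040032⟩)],
    []⟩

/-- The certificate of a subgroup. -/
def nCert512_99 : NodeCert :=
  .pair ⟨12154161, 9073969,
    [(11035680, ⟨[], [6, 1, 0, 2, 1, 3, 2, 4, 3], 10176049, 10176049, 9073952⟩)],
    []⟩

/-- The certificate of a subgroup. -/
def nCert512_100 : NodeCert :=
  .pair ⟨12154161, 9073969,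
    [(11035680, ⟨[], [6, 1, 0, 2, 1, 3, 2, 4, 3], 10183682, 10183682, 9069600⟩)],
    []⟩

/-- The certificate of a subgroup. -/
def nCert512_101 : NodeCert :=
  .pair ⟨12154161, 12142129,
    [(11035680, ⟨[], [6, 1, 0, 2, 1], 9061890, 9061890, 9061937⟩)],
    []⟩

/-- The certificate of a subgroup. -/
def nCert512_102 : NodeCert :=
  .pair ⟨12154161, 9073969,
    [(11035680, ⟨[], [6, 1, 0, 2, 1, 3, 2, 4, 3], 9061890, 9061890, 9061937⟩)],
    []⟩

/-- The certificate of a subgroup. -/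
def nCert512_103 : NodeCert :=
  .pair ⟨12154161, 9073969,
    [(11035680, ⟨[], [6, 1, 0, 2, 1, 3, 2, 4, 3], 9061890, 9061890, 9061937⟩)],
    []⟩

/-- The certificate of a subgroup. -/
def nCert512_104 : NodeCert :=
  .pair ⟨12154161, 9073969,
    [(11035680, ⟨[], [6, 1, 0, 2, 1, 3, 2, 4, 3], 9061890, 9061890, 9061937⟩)],
    []⟩

/-- The certificate of a subgroup. -/
def nCert512_105 : NodeCert :=
  .pair ⟨12154161, 9073969,
    [(11035680, ⟨[], [6, 1, 0, 2, 1, 3, 2, 4, 3], 9061890, 9061890, 9061937⟩)],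
    []⟩

/-- The certificate of a subgroup. -/
def nCert512_106 : NodeCert :=
  .pair ⟨12154161, 9073969,
    [(11035680, ⟨[], [6, 1, 0, 2, 1, 3, 2, 4, 3], 12149792, 12149792, 11035650⟩)],
    []⟩

/-- The certificate of a subgroup. -/
def nCert512_107 : NodeCert :=
  .pair ⟨12154161, 9073969,
    [(11035680, ⟨[], [6, 1, 0, 2, 1, 3, 2, 4, 3], 12149792, 12149792, 11035650⟩)],
    []⟩

/-- The certificate of a subgroup. -/
def nCert512_108 : NodeCert :=
  .pair ⟨12154161, 9073969,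
    [(11035680, ⟨[], [6, 1, 0, 2, 1, 3, 2, 4, 3], 12149792, 12149792, 11035650⟩)],
    []⟩

/-- The certificate of a subgroup. -/
def nCert512_109 : NodeCert :=
  .pair ⟨12154161, 12142129,
    [(11035680, ⟨[], [6, 1, 0, 2, 1], 12149792, 12149792, 10176032⟩)],
    []⟩

/-- The certificate of a subgroup. -/
def nCert512_110 : NodeCert :=
  .pair ⟨12154161, 12142129,
    [(11035680, ⟨[], [6, 1, 0, 2, 1], 12149792, 12149792, 10176032⟩)],
    []⟩

/-- The certificate of a subgroup. -/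
def nCert512_111 : NodeCert :=
  .pair ⟨12154161, 12142129,
    [(11035680, ⟨[], [6, 1, 0, 2, 1], 12149792, 12149792, 10176032⟩)],
    []⟩

/-- The certificate of a subgroup. -/
def nCert512_112 : NodeCert :=
  .pair ⟨12154161, 9073969,
    [(11035680, ⟨[], [6, 1, 0, 2, 1, 3, 2, 4, 3], 10183729, 10183729, 9066259⟩)],
    []⟩

/-- The certificate of a subgroup. -/
def nCert512_113 : NodeCert :=
  .pair ⟨12154161, 9073969,
    [(11035680, ⟨[], [6, 1, 0, 2, 1, 3, 2, 4, 3], 9066242, 9066242, 12149809⟩)],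
    []⟩

/-- The certificate of a subgroup. -/
def nCert512_114 : NodeCert :=
  .pair ⟨12154161, 12142129,
    [(11035680, ⟨[], [6, 1, 0, 2, 1], 12142112, 12142112, 10176049⟩)],
    []⟩

/-- The certificate of a subgroup. -/
def nCert512_115 : NodeCert :=
  .pair ⟨12154161, 9073969,
    [(11035680, ⟨[], [6, 1, 0, 2, 1, 3, 2, 4, 3], 9061907, 9061907, 11040049⟩)],
    []⟩

/-- The certificate of a subgroup. -/
def nCert512_116 : NodeCert :=
  .pair ⟨12154161, 9073969,
    [(11035680, ⟨[], [6, 1, 0, 2, 1, 3, 2, 4, 3], 9069600, 9069600, 11035697⟩),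
     (9069600, ⟨[6, 1, 0, 2, 3, 4, 5, 1, 2, 3], [6, 1, 0, 2, 1, 3, 2, 4, 3], 9069600, 11035667, 11035697⟩),
     (11011110, ⟨[6, 1, 2, 5], [6, 1, 0, 2, 1, 3, 2, 4, 3], 9069600, 11027987, 11035697⟩),
     (11035200, ⟨[6, 1, 0, 5], [6, 1, 0, 2, 1, 3, 2, 4, 3], 9069600, 11027987, 11035697⟩),
     (11035472, ⟨[6, 1, 0], [6, 1, 0, 2, 1, 3, 2, 4, 3], 9069600, 11027987, 11035697⟩)],
    [(9069600, ⟨[], [6, 1, 0, 2, 3, 4, 5, 1, 2, 3], 9044550, 9044550, 12084499⟩),
     (11011110, ⟨[], [6, 1, 2, 5], 9069600, 9069600, 11027987⟩),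
     (11035200, ⟨[], [6, 1, 0, 5], 9069600, 9069600, 11027987⟩),
     (11035472, ⟨[], [6, 1, 0], 9069600, 9069600, 11027987⟩)]⟩

/-- The certificate of a subgroup. -/
def nCert512_117 : NodeCert :=
  .pair ⟨12154161, 9073969,
    [(11035680, ⟨[], [6, 1, 0, 2, 1, 3, 2, 4, 3], 9069600, 9069600, 11035697⟩),
     (9069600, ⟨[6, 1, 0, 2, 3, 4, 5, 1, 2, 3], [6, 1, 0, 2, 1, 3, 2, 4, 3], 9069600, 11035667, 11035697⟩),
     (11015207, ⟨[6, 1, 2], [6, 1, 0, 2, 1, 3, 2, 4, 3], 9069600, 11027987, 11035697⟩)],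
    [(9069600, ⟨[], [6, 1, 0, 2, 3, 4, 5, 1, 2, 3], 9044550, 9044550, 12084499⟩),
     (11015207, ⟨[], [6, 1, 2], 9069600, 9069600, 11027987⟩)]⟩

/-- The certificate of a subgroup. -/
def nCert512_118 : NodeCert :=
  .pair ⟨12154161, 12125494,
    [(11035680, ⟨[], [6, 1, 2], 9069600, 9069600, 11027987⟩),
     (9069600, ⟨[6, 1, 0, 2, 3, 4, 5, 1, 2, 3], [6, 1, 2], 9069600, 11035667, 11027987⟩),
     (10183712, ⟨[6, 1, 0, 2, 1, 3, 2, 4, 3], [6, 1, 2], 9069600, 11035697, 11027987⟩)],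
    [(9069600, ⟨[], [6, 1, 0, 2, 3, 4, 5, 1, 2, 3], 9044550, 9044550, 12084499⟩),
     (10183712, ⟨[], [6, 1, 0, 2, 1, 3, 2, 4, 3], 9069600, 9069600, 11035697⟩)]⟩

/-- The certificate of a subgroup. -/
def nCert512_119 : NodeCert :=
  .pair ⟨12154161, 9073969,
    [(11035680, ⟨[], [6, 1, 0, 2, 1, 3, 2, 4, 3], 9069600, 9069600, 11035697⟩),
     (9069600, ⟨[6, 1, 0, 2, 3, 4, 5, 1, 2, 3], [6, 1, 0, 2, 1, 3, 2, 4, 3], 9069600, 11035667, 11035697⟩),
     (11035472, ⟨[6, 1, 0], [6, 1, 0, 2, 1, 3, 2, 4, 3], 9069600, 11027987, 11035697⟩)],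
    [(9069600, ⟨[], [6, 1, 0, 2, 3, 4, 5, 1, 2, 3], 9044550, 9044550, 12084499⟩),
     (11035472, ⟨[], [6, 1, 0], 9069600, 9069600, 11027987⟩)]⟩

/-- The certificate of a subgroup. -/
def nCert512_120 : NodeCert :=
  .two 116 6310530
    ⟨[
  9044550, 9048919, 9052260, 9056629, 9061890, 9066259, 9069600, 9073969,
  10158662, 10163031, 10166372, 10170741, 10176002, 10180371, 10183712, 10188081,
  11010630, 11014999, 11018340, 11022709, 11027970, 11032339, 11035680, 11040049,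
  12124742, 12129111, 12132452, 12136821, 12142082, 12146451, 12149792, 12154161],
    5, [
    (9073969, [6, 1, 0, 2, 1, 3, 2, 4, 3], [(9052260, 6596657), (11018340, 6596640), (11027970, 9061920), (9061890, 9061937), (9044550, 4622897), (11010630, 4622880), (10176002, 9061907), (12132452, 6596610), (12142082, 9061890), (10166372, 6596627), (12124742, 4622850), (10158662, 4622867), (12149792, 11035650), (10183712, 11035667), (9069600, 11035697), (11035680, 11035680)]),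
    (10188081, [6, 1, 0, 2, 3, 4, 5, 1, 2, 3], [(9052260, 12088339), (9061890, 11040019), (12142082, 11040002), (12132452, 12088322), (9044550, 12084499), (12124742, 12084482), (9069600, 11035667), (12149792, 11035650), (11018340, 12088352), (11027970, 11040032), (11010630, 12084512), (10183712, 11035697), (10158662, 12084529), (10176002, 11040049), (10166372, 12088369), (11035680, 11035680)]),
    (12154161, [], [(11010630, 11010630), (12124742, 12124742), (11018340, 11018340), (12132452, 12132452), (11027970, 11027970), (12142082, 12142082), (10176002, 10176002), (10158662, 10158662), (9052260, 9052260), (9044550, 9044550), (9061890, 9061890), (10166372, 10166372), (9069600, 9069600), (10183712, 10183712), (12149792, 12149792), (11035680, 11035680)])]⟩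
    [
    (11035680, []),
    (9069600, [12129591]),
    (9044550, [10188081, 12153681, 12129591]),
    (11010630, [10188081, 12153681]),
    (9044822, [9073969, 12153681, 12129591]),
    (11010902, [9073969, 12153681]),
    (11035952, [9073969, 10188081]),
    (9069872, [9073969, 10188081, 12129591]),
    (9045030, [12153681, 12129591]),
    (11011110, [12153681]),
    (11035200, [10188081]),
    (9069120, [10188081, 12129591]),
    (11035472, [9073969]),
    (9069392, [9073969, 12129591]),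
    (9045302, [9073969, 10188081, 12153681, 12129591]),
    (11011382, [9073969, 10188081, 12153681])]

/-- The certificate of a subgroup. -/
def nCert512_121 : NodeCert :=
  .pair ⟨12154161, 9073969,
    [(11035680, ⟨[], [6, 1, 0, 2, 1, 3, 2, 4, 3], 9069600, 9069600, 11035697⟩),
     (9069600, ⟨[6, 1, 0, 2, 3, 4, 5, 1, 2, 3], [6, 1, 0, 2, 1, 3, 2, 4, 3], 9069600, 11035667, 11035697⟩),
     (11035200, ⟨[6, 1, 0, 5], [6, 1, 0, 2, 1, 3, 2, 4, 3], 9069600, 11027987, 11035697⟩)],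
    [(9069600, ⟨[], [6, 1, 0, 2, 3, 4, 5, 1, 2, 3], 9045302, 9045302, 12031264⟩),
     (11035200, ⟨[], [6, 1, 0, 5], 9069600, 9069600, 11027987⟩)]⟩

/-- The certificate of a subgroup. -/
def nCert512_122 : NodeCert :=
  .pair ⟨12154161, 12153409,
    [(11035680, ⟨[], [6, 1, 0], 9069600, 9069600, 11027987⟩),
     (9069600, ⟨[6, 1, 0, 2, 3, 4, 5, 1, 2, 3], [6, 1, 0], 9069600, 11035667, 11027987⟩),
     (11011110, ⟨[6, 1, 2, 5], [6, 1, 0], 9045030, 11028000, 9061920⟩),
     (11015207, ⟨[6, 1, 2], [6, 1, 0], 11011110, 11035697, 9069587⟩),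
     (10183712, ⟨[6, 1, 0, 2, 1, 3, 2, 4, 3], [6, 1, 0], 9069600, 11035697, 11027987⟩)],
    [(9069600, ⟨[], [6, 1, 0, 2, 3, 4, 5, 1, 2, 3], 9045030, 9045030, 5794592⟩),
     (11011110, ⟨[], [6, 1, 2, 5], 9069600, 9069600, 11027987⟩),
     (11015207, ⟨[], [6, 1, 2], 9069600, 9069600, 11027987⟩),
     (10183712, ⟨[], [6, 1, 0, 2, 1, 3, 2, 4, 3], 9069600, 9069600, 11035697⟩)]⟩

/-- The certificate of a subgroup. -/
def nCert512_123 : NodeCert :=
  .two 122 11028000
    ⟨[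
  9069600, 9069617, 9069857, 9069872, 9073697, 9073712, 9073952, 9073969,
  10183712, 10183729, 10183969, 10183984, 10187809, 10187824, 10188064, 10188081,
  11035680, 11035697, 11035937, 11035952, 11039777, 11039792, 11040032, 11040049,
  12149792, 12149809, 12150049, 12150064, 12153889, 12153904, 12154144, 12154161],
    5, [
    (9073969, [6, 1, 0, 2, 1, 3, 2, 4, 3], [(11035952, 4692512), (9069872, 4692529), (9069617, 9066289), (11035697, 9066272), (9069857, 7649329), (11035937, 7649312), (12149809, 9066242), (10183729, 9066259), (12150064, 4692482), (10183984, 4692499), (10183969, 7649299), (12150049, 7649282), (10183712, 11035667), (12149792, 11035650), (9069600, 11035697), (11035680, 11035680)]),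
    (10188081, [6, 1, 0, 2, 3, 4, 5, 1, 2, 3], [(11035952, 4692512), (10183984, 4692529), (11035697, 9066272), (11035937, 7649312), (10183729, 9066289), (10183969, 7649329), (12149809, 9066242), (9069617, 9066259), (12150064, 4692482), (9069872, 4692499), (9069857, 7649299), (12150049, 7649282), (9069600, 11035667), (12149792, 11035650), (10183712, 11035697), (11035680, 11035680)]),
    (12154161, [], [(9069617, 9069617), (9069857, 9069857), (10183729, 10183729), (10183969, 10183969), (9069872, 9069872), (10183984, 10183984), (9069600, 9069600), (10183712, 10183712), (12149809, 12149809), (12150064, 12150064), (11035937, 11035937), (11035952, 11035952), (11035697, 11035697), (12150049, 12150049), (12149792, 12149792), (11035680, 11035680)])]⟩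
    [
    (11035680, []),
    (9069600, [10188081]),
    (9045030, [10188081, 12153141]),
    (11011110, [12153141]),
    (9049127, [12152884, 10188081]),
    (11015207, [12152884]),
    (11039777, [12152884, 12153141]),
    (9073697, [12152884, 10188081, 12153141]),
    (10159142, [9073969, 12153141]),
    (12125222, [9073969, 10188081, 12153141]),
    (12149792, [9073969, 10188081]),
    (10183712, [9073969]),
    (12153889, [12152884, 9073969, 10188081, 12153141]),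
    (10187809, [12152884, 9073969, 12153141]),
    (10163239, [12152884, 9073969]),
    (12129319, [12152884, 9073969, 10188081])]

/-- The certificate of a subgroup. -/
def nCert512_124 : NodeCert :=
  .pair ⟨12154161, 9073969,
    [(11035680, ⟨[], [6, 1, 0, 2, 1, 3, 2, 4, 3], 11035697, 11035697, 9066272⟩)],
    []⟩

/-- The certificate of a subgroup. -/
def nCert512_125 : NodeCert :=
  .pair ⟨12154161, 9073969,
    [(11035680, ⟨[], [6, 1, 0, 2, 1, 3, 2, 4, 3], 11035697, 11035697, 9066272⟩)],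
    []⟩

/-- The certificate of a subgroup. -/
def nCert512_126 : NodeCert :=
  .pair ⟨12154161, 9073969,
    [(11035680, ⟨[], [6, 1, 0, 2, 1, 3, 2, 4, 3], 10176049, 10176049, 9073952⟩)],
    []⟩

/-- The certificate of a subgroup. -/
def nCert512_127 : NodeCert :=
  .two 122 10520130
    ⟨[
  11035680, 11035697, 11035937, 11035952, 11039777, 11039792, 11040032, 11040049,
  11101217, 11101232, 11101472, 11101489, 11105312, 11105329, 11105569, 11105584,
  12084257, 12084272, 12084512, 12084529, 12088352, 12088369, 12088609, 12088624,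
  12149792, 12149809, 12150049, 12150064, 12153889, 12153904, 12154144, 12154161],
    5, [
    (12154161, [], [(12149809, 12149809), (11101489, 11101489), (11101217, 11101217), (12084272, 12084272), (12150064, 12150064), (11035937, 11035937), (11035952, 11035952), (12084257, 12084257), (11101232, 11101232), (12084512, 12084512), (11035697, 11035697), (12150049, 12150049), (12149792, 12149792), (11101472, 11101472), (12084529, 12084529), (11035680, 11035680)])]⟩
    [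
    (11035680, []),
    (9069600, [1668411]),
    (9045030, [11761041, 1668411]),
    (11011110, [11761041]),
    (9049127, [11695489, 1668411]),
    (11015207, [11695489]),
    (11039777, [11695489, 11761041]),
    (9073697, [11695489, 11761041, 1668411]),
    (10159142, [619834, 11761041]),
    (12125222, [619834, 11761041, 1668411]),
    (12149792, [619834, 1668411]),
    (10183712, [619834]),
    (12153889, [12154114, 9073969, 10188081, 12154131]),
    (10187809, [619834, 11695489, 11761041]),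
    (10163239, [619834, 11695489]),
    (12129319, [619834, 11695489, 1668411])]

/-- The certificate of a subgroup. -/
def nCert512_128 : NodeCert :=
  .two 122 10897440
    ⟨[
  11035680, 11035697, 11035937, 11035952, 11039777, 11039792, 11040032, 11040049,
  11101217, 11101232, 11101472, 11101489, 11105312, 11105329, 11105569, 11105584,
  12084257, 12084272, 12084512, 12084529, 12088352, 12088369, 12088609, 12088624,
  12149792, 12149809, 12150049, 12150064, 12153889, 12153904, 12154144, 12154161],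
    5, [
    (12154161, [], [(12149809, 12149809), (12088352, 12088352), (11105569, 11105569), (12088624, 12088624), (12150064, 12150064), (11035937, 11035937), (11035952, 11035952), (12088609, 12088609), (11105584, 11105584), (11105329, 11105329), (11035697, 11035697), (12150049, 12150049), (12149792, 12149792), (11105312, 11105312), (12088369, 12088369), (11035680, 11035680)])]⟩
    [
    (11035680, []),
    (9069600, [7976241]),
    (9045030, [7976241, 12153141]),
    (11011110, [12153141]),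
    (9049127, [12152884, 7976241]),
    (11015207, [12152884]),
    (11039777, [12152884, 12153141]),
    (9073697, [12152884, 7976241, 12153141]),
    (10159142, [6923569, 12153141]),
    (12125222, [6923569, 7976241, 12153141]),
    (12149792, [6923569, 7976241]),
    (10183712, [6923569]),
    (12153889, [12152884, 6923569, 7976241, 12153141]),
    (10187809, [12152884, 6923569, 12153141]),
    (10163239, [12152884, 6923569]),
    (12129319, [12152884, 6923569, 7976241])]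

/-- All certificates. -/
def nCerts512 : List NodeCert :=
  [
  nCert512_0, nCert512_1, nCert512_2, nCert512_3, nCert512_4, nCert512_5,
  nCert512_6, nCert512_7, nCert512_8, nCert512_9, nCert512_10, nCert512_11,
  nCert512_12, nCert512_13, nCert512_14, nCert512_15, nCert512_16, nCert512_17,
  nCert512_18, nCert512_19, nCert512_20, nCert512_21, nCert512_22, nCert512_23,
  nCert512_24, nCert512_25, nCert512_26, nCert512_27, nCert512_28, nCert512_29,
  nCert512_30, nCert512_31, nCert512_32, nCert512_33, nCert512_34, nCert512_35,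
  nCert512_36, nCert512_37, nCert512_38, nCert512_39, nCert512_40, nCert512_41,
  nCert512_42, nCert512_43, nCert512_44, nCert512_45, nCert512_46, nCert512_47,
  nCert512_48, nCert512_49, nCert512_50, nCert512_51, nCert512_52, nCert512_53,
  nCert512_54, nCert512_55, nCert512_56, nCert512_57, nCert512_58, nCert512_59,
  nCert512_60, nCert512_61, nCert512_62, nCert512_63, nCert512_64, nCert512_65,
  nCert512_66, nCert512_67, nCert512_68, nCert512_69, nCert512_70, nCert512_71,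
  nCert512_72, nCert512_73, nCert512_74, nCert512_75, nCert512_76, nCert512_77,
  nCert512_78, nCert512_79, nCert512_80, nCert512_81, nCert512_82, nCert512_83,
  nCert512_84, nCert512_85, nCert512_86, nCert512_87, nCert512_88, nCert512_89,
  nCert512_90, nCert512_91, nCert512_92, nCert512_93, nCert512_94, nCert512_95,
  nCert512_96, nCert512_97, nCert512_98, nCert512_99, nCert512_100, nCert512_101,
  nCert512_102, nCert512_103, nCert512_104, nCert512_105, nCert512_106, nCert512_107,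
  nCert512_108, nCert512_109, nCert512_110, nCert512_111, nCert512_112, nCert512_113,
  nCert512_114, nCert512_115, nCert512_116, nCert512_117, nCert512_118, nCert512_119,
  nCert512_120, nCert512_121, nCert512_122, nCert512_123, nCert512_124, nCert512_125,
  nCert512_126, nCert512_127, nCert512_128]

end Cfsg.Agent.Fus.SymSix
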