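import Cfsg.Agent.Lib.Fus.SymSix.Kill
import Cfsg.Agent.Lib.Fus.SymSix.Classes

/-!
# The choice of the values of the loops
-/

set_option autoImplicit false
set_option maxRecDepth 100000

namespace Cfsg.Agent.Fus.SymSix

open Cfsg.Agent.Spor.Cos (ev ev_append force force_eq)

/-- All checks of certified words. -/
noncomputable def certsOk (ta tb : CTree) (cs : List (List ℕ × Cert)) : Bool :=
  cs.all fun p => certOk ta tb p.1 p.2

/-- The check of the choice at one loop. -/
noncomputable def stageOk (ta tb : CTree) (fixd : List (List ℕ)) (loop : List ℕ) (gg : List (ℕ × ℕ))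
    (ks dead : List ℕ) (gauge : List (ℕ × ℕ × ℕ)) (canon : ℕ) (canonW : List ℕ) : Bool :=
  loopOk ta tb loop gg &&
    (ks.all fun c => (dead.any fun d => Nat.beq d c) || gauge.any fun p => Nat.beq p.1 c) &&
    (gauge.all fun p => gaugeOk ta p.2.1 && gaugeOk tb p.2.2 &&
      (force (pushC ta tb p.2.1 p.2.2 loop) fun x => !Nat.beq x noVal && Nat.beq (mulC p.1 x) canon) &&
      fixd.all fun w => Nat.beq (pushC ta tb p.2.1 p.2.2 w) oneC) &&
    (canonW.all fun s => Nat.blt s 6) && Nat.beq (wC canonW) canon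

namespace Pair

variable {K : Type*} [Group K] {I : ℕ → K} {a b : K} {ta tb : CTree} (P : Pair I a b ta tb)
include P

/-- Certified words are trivial. -/
theorem certs_sound {cs : List (List ℕ × Cert)} (h : certsOk ta tb cs = true) :
    ∀ r ∈ cs.map Prod.fst, ev (gW I a b) r = 1 := by
  intro r hr
  obtain ⟨p, hp, rfl⟩ := List.mem_map.1 hr
  exact P.cert_sound (List.all_eq_true.1 h p hp)

end Pair

namespace Loc

variable {G : Type*} [Group G] {z : G} {I : ℕ → G} (L : Loc z I) {a b : G} {ta tb : CTree}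
include L

/-- After a change of the involutions the loop has the chosen value and the earlier ones keep theirs. -/
theorem stage (P : Pair I a b ta tb) {cs : List (List ℕ × Cert)} (hcs : certsOk ta tb cs = true)
    {fixd : List (List ℕ)} (hfix : ∀ r ∈ fixd, ev (gW I a b) r = 1) {loop : List ℕ} {gg : List (ℕ × ℕ)}
    {ks dead : List ℕ} {gauge : List (ℕ × ℕ × ℕ)} {canon : ℕ} {canonW : List ℕ}
    (h : stageOk ta tb fixd loop gg ks dead gauge canon canonW = true)
    (hcov : ∀ c, Mem c → loopAt gg ks c = true)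
    (hdead : ∀ c ∈ dead, Killed ta tb (cs.map Prod.fst ++ fixd) loop c) :
    ∃ p ∈ gauge, Pair I (a * I p.2.1) (b * I p.2.2) ta tb ∧
      ∀ r ∈ fixd ++ [loop ++ canonW.reverse], ev (gW I (a * I p.2.1) (b * I p.2.2)) r = 1 := by
  simp only [stageOk, force_eq, Bool.and_eq_true, List.all_eq_true, Bool.or_eq_true, List.any_eq_true,
    Nat.beq_eq, Bool.not_eq_true', Nat.blt_eq] at h
  obtain ⟨⟨⟨⟨hlo, hks⟩, hga⟩, hcw⟩, hcc⟩ := h
  obtain ⟨c, hc, hcm, hce⟩ := L.loop_option P hlo hcov
  rcases hks c hc with ⟨d, hd, rfl⟩ | ⟨p, hp, rfl⟩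
  · exact absurd hce (L.not_killed P (fun r hr => by
      rcases List.mem_append.1 hr with hr | hr
      · exact P.certs_sound hcs r hr
      · exact hfix r hr) (hdead d hd))
  obtain ⟨⟨⟨hga1, hga2⟩, hx, hxc⟩, hw⟩ := hga p hp
  have hm1 : Mem p.2.1 := by
    have := hga1
    simp only [gaugeOk, force_eq, Bool.and_eq_true] at this
    exact this.1.1
  have hm2 : Mem p.2.2 := by
    have := hga2
    simp only [gaugeOk, force_eq, Bool.and_eq_true] at this
    exact this.1.1
  refine ⟨p, hp, ⟨P.hom, L.swap_gauge P.swA hga1, L.swap_gauge P.swB hga2⟩, fun r hr => ?_⟩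
  have hne : pushC ta tb p.2.1 p.2.2 loop ≠ noVal := fun e => by rw [e] at hx; simp at hx
  rcases List.mem_append.1 hr with hr | hr
  · obtain ⟨-, e⟩ := P.ev_push hm1 hm2 r (by rw [hw r hr]; exact mem_one.ne_noVal)
    rw [e, hfix r hr, hw r hr, P.map_one, one_mul]
  · rw [List.mem_singleton.1 hr]
    obtain ⟨hm, e⟩ := P.ev_push hm1 hm2 loop hne
    refine L.loop_rel ⟨P.hom, L.swap_gauge P.swA hga1, L.swap_gauge P.swB hga2⟩ (c := canon) ?_
      (by simp only [List.all_eq_true, Nat.blt_eq]; exact hcw) hcc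
    rw [e, hce, ← P.hom _ _ hcm hm, hxc]

end Loc

end Cfsg.Agent.Fus.SymSix
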