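import Cfsg.Agent.Lib.Fus.SymSix.Swap
import Cfsg.Agent.Lib.Fus.SymSix.WitData

/-!
# Conjugation by an odd permutation
-/

set_option autoImplicit false
set_option maxRecDepth 100000

namespace Cfsg.Agent.Fus.SymSix

/-- The outer automorphism given by an odd permutation. -/
def nuC (c : ℕ) : ℕ := mulC (mulC oddC c) oddC

theorem odd_spec : (∀ i < 6, nib oddC i < 12) ∧ (∀ x < 12, app oddC x < 12 ∧ app oddC (app oddC x) = x) := by
  decide +kernel

theorem nib_nu {c : ℕ} {i : ℕ} (hi : i < 6) : nib (nuC c) i = app oddC (app c (nib oddC i)) := by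
  rw [nuC, nib_mulC _ _ hi, app_mulC oddC c (odd_spec.1 i hi)]

theorem Mem.nu_mul {a b : ℕ} (_ha : Mem a) (hb : Mem b) : nuC (mulC a b) = mulC (nuC a) (nuC b) := by
  refine code_ext (mulC_lt _ _) (mulC_lt _ _) fun i hi => ?_
  have h1 := odd_spec.1 i hi
  have h2 := hb.app_lt12 h1
  rw [nib_nu hi, app_mulC a b h1, nib_mulC _ _ hi, nib_nu hi]
  show _ = app (mulC (mulC oddC a) oddC) _
  rw [app_mulC _ _ (odd_spec.2 _ h2).1, (odd_spec.2 _ h2).2, app_mulC oddC a h2]

theorem nu_gens : Nat.beq (nuC oneC) oneC = true ∧ (gensH.all fun g => inH (nuC g) && Nat.beq (nuC (nuC g)) g) = true ∧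
    nuC zC = zC := by
  decide +kernel

theorem Mem.nu {c : ℕ} (h : Mem c) : Mem (nuC c) ∧ nuC (nuC c) = c := by
  refine h.gen_induction (P := fun c => Mem (nuC c) ∧ nuC (nuC c) = c) ?_ ?_
  · rw [Nat.eq_of_beq_eq_true nu_gens.1, Nat.eq_of_beq_eq_true nu_gens.1]
    exact ⟨mem_one, rfl⟩
  · intro s hs c hc ⟨h1, h2⟩
    have hl : gensH.length = 6 := by decide +kernel
    have hg : gensH.getD s oneC ∈ gensH := by
      rw [List.getD_eq_getElem _ _ (by omega)]; exact List.getElem_mem _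
    have := List.all_eq_true.1 nu_gens.2.1 _ hg
    simp only [Bool.and_eq_true, Nat.beq_eq] at this
    obtain ⟨hgm, hgg⟩ := this
    replace hgm : Mem (nuC (gensH.getD s oneC)) := hgm
    rw [(gen_mem s).nu_mul hc, hgm.nu_mul h1, hgg, h2]
    exact ⟨hgm.mul h1, rfl⟩

theorem nu_z : nuC zC = zC := nu_gens.2.2

/-- A transported map agrees with another one. -/
noncomputable def nuOk (t t' : CTree) : Bool :=
  t'.toList.all fun e => inH e.1 && force' (mapC t (nuC e.1)) (mapC t' e.1)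
where
  /-- agreement after transport -/
  force' (v w : ℕ) : Bool := !Nat.beq v noVal && inH w && Nat.beq (nuC w) v

namespace Loc

variable {G : Type*} [Group G] {z : G} {I : ℕ → G} (L : Loc z I)
include L

theorem outer : Loc z (fun c => I (nuC c)) where
  hom a b ha hb := by rw [ha.nu_mul hb, L.hom _ _ ha.nu.1 hb.nu.1]
  inj a b ha hb h := by rw [← ha.nu.2, L.inj _ _ ha.nu.1 hb.nu.1 h, hb.nu.2]
  range x := by
    rw [L.range x]
    exact ⟨fun ⟨c, hc, e⟩ => ⟨nuC c, hc.nu.1, by rw [hc.nu.2, e]⟩, fun ⟨c, hc, e⟩ => ⟨nuC c, hc.nu.1, e⟩⟩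
  map_z := by rw [nu_z, L.map_z]

omit L in
theorem acts_outer {g : G} {t t' : CTree} (ha : Acts I g t) (h : nuOk t t' = true) :
    Acts (fun c => I (nuC c)) g t' := by
  intro x hx
  have h8 : t'.find x ≠ noVal := fun e => hx (by rw [mapC, Cfsg.Agent.Spor.Cos.force_eq, e]; rfl)
  have := List.all_eq_true.1 h _ ((CTree.find_mem t' x).resolve_left h8)
  simp only [nuOk.force', Bool.and_eq_true, Bool.not_eq_true', Nat.beq_eq, ← Bool.not_eq_true] at this
  obtain ⟨hxm, ⟨hv, hwm⟩, he⟩ := this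
  refine ⟨hxm, hwm, ?_⟩
  show g * I (nuC x) * g⁻¹ = I (nuC (mapC t' x))
  rw [(ha _ hv).2.2, he]

end Loc

end Cfsg.Agent.Fus.SymSix
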