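import Cfsg.Agent.Lib.Fus.SymSix.Classes
import Cfsg.Agent.Lib.Fus.SymSix.FusionData

/-!
# The central involution is no square
-/

set_option autoImplicit false
set_option maxRecDepth 100000
set_option Elab.async false

namespace Cfsg.Agent.Fus.SymSix

/-- The check at one number. -/
def rootAt (c : ℕ) : Bool := !Nat.beq (mulC c c) zC

theorem root_part0 : (((halvesList.drop 0).take 60).all fun p => flipList.all fun f => rootAt (p + f)) = true := by
  decide +kernel

theorem root_part1 : (((halvesList.drop 60).take 60).all fun p => flipList.all fun f => rootAt (p + f)) = true := by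
  decide +kernel

theorem root_part2 : (((halvesList.drop 120).take 60).all fun p => flipList.all fun f => rootAt (p + f)) = true := by
  decide +kernel

theorem root_part3 : (((halvesList.drop 180).take 60).all fun p => flipList.all fun f => rootAt (p + f)) = true := by
  decide +kernel

theorem root_part4 : (((halvesList.drop 240).take 60).all fun p => flipList.all fun f => rootAt (p + f)) = true := by
  decide +kernel

theorem root_part5 : (((halvesList.drop 300).take 60).all fun p => flipList.all fun f => rootAt (p + f)) = true := by
  decide +kernel

theorem root_part6 : (((halvesList.drop 360).take 60).all fun p => flipList.all fun f => rootAt (p + f)) = true := by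
  decide +kernel

theorem root_part7 : (((halvesList.drop 420).take 60).all fun p => flipList.all fun f => rootAt (p + f)) = true := by
  decide +kernel

theorem root_part8 : (((halvesList.drop 480).take 60).all fun p => flipList.all fun f => rootAt (p + f)) = true := by
  decide +kernel

theorem root_part9 : (((halvesList.drop 540).take 60).all fun p => flipList.all fun f => rootAt (p + f)) = true := by
  decide +kernel

theorem root_part10 : (((halvesList.drop 600).take 60).all fun p => flipList.all fun f => rootAt (p + f)) = true := by
  decide +kernel

theorem root_part11 : (((halvesList.drop 660).take 60).all fun p => flipList.all fun f => rootAt (p + f)) = true := by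
  decide +kernel

theorem no_root {c : ℕ} (hc : Mem c) : mulC c c ≠ zC := fun h => by
  have := all_elems (p := rootAt) (fun j hj => by interval_cases j; exacts [root_part0, root_part1, root_part2, root_part3, root_part4, root_part5, root_part6, root_part7, root_part8, root_part9, root_part10, root_part11]) c hc
  simp [rootAt, h] at this

theorem roots_ok : (rootList.all fun e => inH e.2 && Nat.beq (mulC e.2 e.2) (repC e.1)) = true ∧
    rootList.map Prod.fst = [2, 4, 8] := by decide +kernel

namespace Loc

variable {G : Type*} [Group G] {z : G} {I : ℕ → G} (L : Loc z I)
include L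

/-- The classes of squares are never fused. -/
theorem square_not_fused {c : ℕ} (hc : c ∈ [2, 4, 8]) : ¬ IsConj (I (repC c)) z := by
  intro h
  obtain ⟨g, hg⟩ := isConj_iff.1 h
  rw [← roots_ok.2, List.mem_map] at hc
  obtain ⟨e, he, rfl⟩ := hc
  have := List.all_eq_true.1 roots_ok.1 e he
  simp only [Bool.and_eq_true, Nat.beq_eq] at this
  obtain ⟨hm, hsq⟩ := this
  replace hm : Mem e.2 := hm
  set y := g * I e.2 * g⁻¹ with hy
  have hyy : y * y = z := by
    calc y * y = g * (I e.2 * I e.2) * g⁻¹ := by rw [hy]; group
      _ = z := by rw [← L.hom _ _ hm hm, hsq, hg]
  have hcomm : y * z = z * y :=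
    calc y * z = y * (y * y) := by rw [hyy]
      _ = y * y * y := (mul_assoc _ _ _).symm
      _ = z * y := by rw [hyy]
  obtain ⟨d, hd, hde⟩ := (L.range _).1 hcomm
  exact no_root hd (L.inj _ _ (hd.mul hd) mem_z (by rw [L.hom _ _ hd hd, hde, hyy, L.map_z]))

end Loc

end Cfsg.Agent.Fus.SymSix
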