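import Cfsg.Agent.Lib.Fus.SymSix.Node
import Cfsg.Agent.Lib.Fus.SymSix.Transfer

/-!
# Two classes of fused involutions force the centralizer into the subgroup
-/

set_option autoImplicit false
set_option maxRecDepth 100000

namespace Cfsg.Agent.Fus.SymSix

open Cfsg.Agent.Spor.Cos (force force_eq ev ev_mem)

/-- The data separating two involutions: words moving them to the central one, and the images of one element. -/
structure Sep where
  /-- the first word -/
  t₁ : List ℕ
  /-- the second word -/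
  t₂ : List ℕ
  /-- the element -/
  v : ℕ
  /-- its first image -/
  A : ℕ
  /-- its second image -/
  B : ℕ

/-- The check that no element centralizing the subgroup moves the first involution to the second. -/
noncomputable def sepOk (wEq : List ℕ → List ℕ → Bool) (n : CNode) (p q : ℕ) (s : Sep) : Bool :=
  n.inV s.v && conjOk wEq s.t₁ p zC && conjOk wEq s.t₂ q zC && conjOk wEq s.t₁ s.v s.A &&
    conjOk wEq s.t₂ s.v s.B &&
    (!Nat.beq (clsF s.A) (clsF s.B) || !Nat.beq (clsF (mulC zC s.A)) (clsF (mulC zC s.B)))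

/-- The data separating two classes. -/
structure PairCert where
  /-- the first involution -/
  d1 : ℕ
  /-- the second involution -/
  d2 : ℕ
  /-- for each element the data for its product with the first involution and the second involution -/
  other : List (ℕ × Sep)
  /-- for each element the data for the first involution and its product with it -/
  self : List (ℕ × Sep)

/-- The checks for two classes. -/
noncomputable def pairOk (m : ℕ) (wEq : List ℕ → List ℕ → Bool) (n : CNode) (c : PairCert) : Bool :=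
  inH c.d1 && inH c.d2 && fz m c.d1 && fz m c.d2 && (n.V.all fun v => commC c.d1 v && commC c.d2 v) &&
    n.V.all fun v => force (mulC c.d1 v) fun p => !fz m p ||
      ((c.other.any fun e => Nat.beq e.1 v && sepOk wEq n p c.d2 e.2) &&
        (Nat.beq v oneC || c.self.any fun e => Nat.beq e.1 v && sepOk wEq n c.d1 p e.2))

/-- Conjugation keeps the class, also of elements that are no involutions. -/
theorem clsF_cj {h x : ℕ} (hh : Mem h) (hx : Mem x) : clsF (cjC h x) = clsF x := by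
  rcases Nat.lt_or_ge (clsF x) noVal with h1 | h1
  · exact cls_conj hh h1
  rcases Nat.lt_or_ge (clsF (cjC h x)) noVal with h2 | h2
  · have e : cjC (invC h) (cjC h x) = x := by
      have hm := hh.inv
      refine toPerm_inj (Mem.cj hm (Mem.cj hh hx)) hx ?_
      simp only [cjC, force_eq]
      rw [toPerm_mul (hm.mul ((hh.mul hx).mul hh.inv)) hm.inv, toPerm_mul hm ((hh.mul hx).mul hh.inv),
        toPerm_mul (hh.mul hx) hh.inv, toPerm_mul hh hx]
      have e1 : toPerm (invC h) * toPerm h = 1 := by rw [← toPerm_mul hm hh, hh.inv_mul, toPerm_one]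
      have e2 : toPerm (invC h) * toPerm (invC (invC h)) = 1 := by
        rw [← toPerm_mul hm hm.inv]
        have e3 : toPerm (invC (invC h)) * toPerm (invC h) = 1 := by
          rw [← toPerm_mul hm.inv hm, hm.inv_mul, toPerm_one]
        rw [toPerm_mul hm hm.inv]
        exact mul_eq_one_comm.1 e3
      calc toPerm (invC h) * (toPerm h * toPerm x * toPerm (invC h)) * toPerm (invC (invC h))
          = toPerm (invC h) * toPerm h * toPerm x * (toPerm (invC h) * toPerm (invC (invC h))) := by group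
        _ = _ := by rw [e1, e2, one_mul, mul_one]
    have := cls_conj hh.inv h2
    rw [e] at this
    omega
  have bound : ∀ y, clsF y ≤ noVal := fun y => by
    rcases CTree.find_mem clsTree y with h | h
    · exact le_of_eq h
    · obtain ⟨e, he, hee⟩ := List.any_eq_true.1 (List.all_eq_true.1 clsTree_ok _ h)
      obtain rfl : e.1 = y := Nat.eq_of_beq_eq_true hee
      exact le_of_lt ((invTab_spec he).2.1 ▸ (invTab_spec he).2.2)
  have := bound x; have := bound (cjC h x)
  omega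

namespace Emb

variable {G : Type*} [Group G] [Finite G] {z : G} {I : ℕ → G} {a b : G} {ta tb : CTree} {m : ℕ} {M : Subgroup G}
variable (E : Emb z I a b ta tb m M) {wEq : List ℕ → List ℕ → Bool} (W : WordEq I a b wEq)
include E

omit [Finite G] in
include W in
theorem no_conj {n : CNode} {p q : ℕ} {s : Sep} (h : sepOk wEq n p q s = true) {g : G}
    (hg : g * I p * g⁻¹ = I q) (hcm : ∀ v ∈ n.V, g * I v = I v * g) : False := by
  simp only [sepOk, Bool.and_eq_true, Bool.or_eq_true, Bool.not_eq_true', CNode.inV_iff] at h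
  obtain ⟨⟨⟨⟨⟨hv, h1⟩, h2⟩, h3⟩, h4⟩, hne⟩ := h
  obtain ⟨-, -, e1⟩ := W.conj_eq E.pair h1
  obtain ⟨-, -, e2⟩ := W.conj_eq E.pair h2
  obtain ⟨-, hA, e3⟩ := W.conj_eq E.pair h3
  obtain ⟨-, hB, e4⟩ := W.conj_eq E.pair h4
  rw [E.loc.map_z] at e1 e2
  set T₁ := ev (gW I a b) s.t₁
  set T₂ := ev (gW I a b) s.t₂
  obtain ⟨k, hk, hke⟩ := (E.loc.range (T₂ * g * T₁⁻¹)).1 (by
    conv_lhs => rw [← e1]
    conv_rhs => rw [← e2, ← hg]
    group)
  have hAB : cjC k s.A = s.B := by
    refine E.loc.inj _ _ (Mem.cj hk hA) hB ?_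
    rw [E.loc.map_cj hk hA, ← e3, ← e4, hke]
    calc T₂ * g * T₁⁻¹ * (T₁ * I s.v * T₁⁻¹) * (T₂ * g * T₁⁻¹)⁻¹ = T₂ * (g * I s.v) * g⁻¹ * T₂⁻¹ := by group
      _ = T₂ * (I s.v * g) * g⁻¹ * T₂⁻¹ := by rw [hcm _ hv]
      _ = T₂ * I s.v * T₂⁻¹ := by group
  have hzAB : cjC k (mulC zC s.A) = mulC zC s.B := by
    refine E.loc.inj _ _ (Mem.cj hk (mem_z.mul hA)) (mem_z.mul hB) ?_
    rw [E.loc.map_cj hk (mem_z.mul hA), E.loc.hom _ _ mem_z hA, E.loc.hom _ _ mem_z hB, E.loc.map_z, ← hAB,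
      E.loc.map_cj hk hA, ← mul_assoc (I k), E.loc.comm_z hk]
    group
  rcases hne with hb | hb
  · rw [← hAB, clsF_cj hk hA, Nat.beq_refl] at hb
    exact Bool.noConfusion hb
  · rw [← hzAB, clsF_cj hk (mem_z.mul hA), Nat.beq_refl] at hb
    exact Bool.noConfusion hb

omit [Finite G] in
theorem fused_mem {x : G} (h : IsConj x z) : x * x = 1 := E.loc.mul_self_of_conj h

/-- In the dihedral group with a fused element of `M` the second one is conjugate to a translate. -/
theorem dihedral {n : CNode} (hn : ∀ v ∈ n.V, Mem v)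
    (hext : ∀ c ∈ M, c * c = 1 → (∀ v ∈ n.V, c * I v = I v * c) → (∀ v ∈ n.V, c ≠ I v) →
      ∀ y : G, (∀ v ∈ n.V, y * I v = I v * y) → IsConj y z → y * c = c * y → y ∈ M)
    (h1 : oneC ∈ n.V)
    {d : G} (hdM : d ∈ M) (hd : IsConj d z) (hdV : ∀ v ∈ n.V, d * I v = I v * d) :
    ∀ (k : ℕ) (y : G), orderOf (d * y) = k → y ∉ M → IsConj y z → (∀ v ∈ n.V, y * I v = I v * y) →
      (∃ v ∈ n.V, (Even k → v ≠ oneC) ∧
        ∃ g : G, (∀ w ∈ n.V, g * I w = I w * g) ∧ g * y * g⁻¹ = d * I v) ∨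
      ∃ y' : G, y' ∉ M ∧ IsConj y' z ∧ (∀ v ∈ n.V, y' * I v = I v * y') ∧ orderOf (d * y') < k ∧
        Even (orderOf (d * y')) ∧ ∃ g : G, (∀ w ∈ n.V, g * I w = I w * g) ∧ g * d * g⁻¹ = y' := by
  intro k y hk hyM hy hyV
  have hd2 := E.fused_mem hd
  have hy2 := E.fused_mem hy
  set r := d * y
  have hrV : ∀ v ∈ n.V, Commute r (I v) := fun v hv => (show Commute d (I v) from hdV v hv).mul_left (hyV v hv)
  have hri : r⁻¹ = y * d := by
    rw [mul_inv_rev, inv_eq_of_mul_eq_one_left hd2, inv_eq_of_mul_eq_one_left hy2]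
  have hflip : ∀ j : ℕ, d * r ^ j = (r⁻¹) ^ j * d := by
    intro j
    have e : d * r * d⁻¹ = r⁻¹ := by rw [hri, inv_eq_of_mul_eq_one_left hd2]; simp only [r]; rw [← mul_assoc, hd2, one_mul]
    have := conj_pow (i := j) (a := d) (b := r)
    rw [e] at this
    rw [this, inv_mul_cancel_right]
  have hconj : ∀ t : ℕ, (r ^ t)⁻¹ * y * (r ^ t)⁻¹⁻¹ = d * r ^ (2 * t + 1) := fun t => by
    have e : y = d * r := by simp only [r]; rw [← mul_assoc, hd2, one_mul]
    have h2 : (r ^ t)⁻¹ * d = d * r ^ t := by rw [hflip t, inv_pow]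
    rw [inv_inv]
    calc (r ^ t)⁻¹ * y * r ^ t = (r ^ t)⁻¹ * d * (r * r ^ t) := by rw [e]; group
      _ = d * (r ^ t * r * r ^ t) := by rw [h2]; group
      _ = _ := by rw [← pow_succ, ← pow_add, show t + 1 + t = 2 * t + 1 by omega]
  rcases Nat.even_or_odd k with ⟨s, hs⟩ | ⟨s, hs⟩
  · -- even order
    have hkpos : 0 < k := hk ▸ orderOf_pos r
    set c := r ^ s
    have hc1 : c ≠ 1 := fun h => by
      have := Nat.le_of_dvd (by omega) (hk ▸ orderOf_dvd_of_pow_eq_one h)
      omega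
    have hcc : c * c = 1 := by rw [← pow_add, ← hs, ← hk, pow_orderOf_eq_one]
    have hcinv : c⁻¹ = c := inv_eq_of_mul_eq_one_left hcc
    have hdc : d * c = c * d := by
      rw [hflip, inv_pow]
      show c⁻¹ * d = c * d
      rw [hcinv]
    have hyc : y * c = c * y := by
      have e : y = d * r := by simp only [r]; rw [← mul_assoc, hd2, one_mul]
      rw [e]
      calc d * r * c = d * (c * r) := by rw [mul_assoc, (Commute.self_pow r s).eq]
        _ = c * (d * r) := by rw [← mul_assoc, hdc, mul_assoc]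
    have hcV : ∀ v ∈ n.V, c * I v = I v * c := fun v hv => ((hrV v hv).pow_left s).eq
    have hcM : c ∈ M := E.cent_le hdM hd hdc.symm
    obtain ⟨v, hv, hcv⟩ : ∃ v ∈ n.V, c = I v := by
      by_contra hno
      push Not at hno
      exact hyM (hext c hcM hcc hcV hno y hyV hy hyc)
    rcases Nat.even_or_odd s with ⟨t, ht⟩ | ⟨t, ht⟩
    · right
      refine ⟨y * d * y⁻¹, fun h => hyM (E.fus hdM hd h), (isConj_iff.2 ⟨y, rfl⟩ : IsConj d _).symm.trans hd,
        fun w hw => ?_, ?_, ?_, y, hyV, rfl⟩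
      · exact (((show Commute y (I w) from hyV w hw).mul_left (hdV w hw)).mul_left
          (show Commute y (I w) from hyV w hw).inv_left).eq
      · have e : d * (y * d * y⁻¹) = r ^ 2 := by
          rw [inv_eq_of_mul_eq_one_left hy2, pow_two]; simp only [r]; group
        rw [e, orderOf_pow, hk]
        have : Nat.gcd k 2 = 2 := Nat.gcd_eq_right ⟨s, by omega⟩
        rw [this]
        omega
      · have e : d * (y * d * y⁻¹) = r ^ 2 := by
          rw [inv_eq_of_mul_eq_one_left hy2, pow_two]; simp only [r]; group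
        rw [e, orderOf_pow, hk, Nat.gcd_eq_right ⟨s, by omega⟩]
        exact ⟨t, by omega⟩
    · left
      refine ⟨v, hv, fun _ he => hc1 (by rw [hcv, he, E.loc.map_one]), (r ^ t)⁻¹, fun w hw => (((hrV w hw).pow_left t).inv_left).eq, ?_⟩
      rw [← hcv, hconj, show 2 * t + 1 = s by omega]
  · -- odd order
    left
    refine ⟨oneC, h1, fun he => absurd he (Nat.not_even_iff_odd.2 ⟨s, hs⟩), (r ^ s)⁻¹, fun w hw => (((hrV w hw).pow_left s).inv_left).eq, ?_⟩
    rw [hconj, show 2 * s + 1 = k by omega, ← hk, pow_orderOf_eq_one, E.loc.map_one]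

variable {Ns : List CNode}

/-- An involution enlarging a subgroup of the list forces elements into `M`. -/
theorem enlarge (hN : NodesGood m Ns) {n : CNode} (hn : n ∈ Ns)
    (hbig : ∀ k ∈ Ns, n.V.toFinset.card < k.V.toFinset.card → GoodNode I M k)
    {c : G} (hcM : c ∈ M) (hcc : c * c = 1) (hcV : ∀ v ∈ n.V, c * I v = I v * c) (hne : ∀ v ∈ n.V, c ≠ I v)
    {y : G} (hyV : ∀ v ∈ n.V, y * I v = I v * y) (hyc : y * c = c * y) : y ∈ M := by
  classical
  obtain ⟨h1, -, hb⟩ := hN.base n hn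
  have L := E.loc
  by_cases hfus : ∃ v ∈ n.V, IsConj (c * I v) z
  · obtain ⟨v, hv, hf⟩ := hfus
    refine E.cent_le (mul_mem hcM (E.hC v (hb v hv).1)) hf ?_
    rw [← mul_assoc, hyc, mul_assoc, hyV v hv, mul_assoc]
  push Not at hfus
  set gs : List G := c :: n.V.map I
  set U := Subgroup.closure {x | x ∈ gs}
  have hUM : U ≤ M := (Subgroup.closure_le M).2 fun x hx => by
    rcases List.mem_cons.1 hx with rfl | hx
    · exact hcM
    · obtain ⟨v, hv, rfl⟩ := List.mem_map.1 hx
      exact E.hC v (hb v hv).1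
  have hVI : ∀ v ∈ n.V, ∀ w ∈ n.V, I v * I w = I (mulC v w) := fun v hv w hw =>
    (L.hom _ _ (hb v hv).1 (hb w hw).1).symm
  have hform : ∀ x ∈ U, (∃ v ∈ n.V, x = I v) ∨ ∃ v ∈ n.V, x = c * I v := by
    intro x hx
    induction hx using Subgroup.closure_induction with
    | mem w hw =>
      rcases List.mem_cons.1 hw with rfl | hw
      · exact Or.inr ⟨oneC, h1, by rw [L.map_one, mul_one]⟩
      · obtain ⟨v, hv, rfl⟩ := List.mem_map.1 hw
        exact Or.inl ⟨v, hv, rfl⟩
    | one => exact Or.inl ⟨oneC, h1, L.map_one.symm⟩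
    | mul u v _ _ iu iv =>
      rcases iu with ⟨p, hp, rfl⟩ | ⟨p, hp, rfl⟩ <;> rcases iv with ⟨q, hq, rfl⟩ | ⟨q, hq, rfl⟩
      · exact Or.inl ⟨_, ((hb p hp).2.2.2 q hq).1, hVI p hp q hq⟩
      · refine Or.inr ⟨_, ((hb p hp).2.2.2 q hq).1, ?_⟩
        rw [← hVI p hp q hq, ← mul_assoc, ← hcV p hp, mul_assoc]
      · exact Or.inr ⟨_, ((hb p hp).2.2.2 q hq).1, by rw [← hVI p hp q hq, mul_assoc]⟩
      · refine Or.inl ⟨_, ((hb p hp).2.2.2 q hq).1, ?_⟩
        rw [← hVI p hp q hq]
        calc c * I p * (c * I q) = c * (I p * c) * I q := by group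
          _ = I p * I q := by rw [← hcV p hp, ← mul_assoc, hcc, one_mul]
    | inv u _ iu =>
      rcases iu with ⟨p, hp, rfl⟩ | ⟨p, hp, rfl⟩
      · refine Or.inl ⟨p, hp, inv_eq_of_mul_eq_one_left ?_⟩
        rw [hVI p hp p hp, (hb p hp).2.1, L.map_one]
      · refine Or.inr ⟨p, hp, inv_eq_of_mul_eq_one_left ?_⟩
        calc c * I p * (c * I p) = c * (I p * c) * I p := by group
          _ = 1 := by rw [← hcV p hp, ← mul_assoc, hcc, one_mul, hVI p hp p hp, (hb p hp).2.1, L.map_one]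
  have hcomm : ∀ x ∈ U, ∀ v ∈ n.V, x * I v = I v * x := by
    intro x hx v hv
    rcases hform x hx with ⟨p, hp, rfl⟩ | ⟨p, hp, rfl⟩
    · rw [hVI p hp v hv, hVI v hv p hp, ((hb p hp).2.2.2 v hv).2]
    · rw [mul_assoc, hVI p hp v hv, ((hb p hp).2.2.2 v hv).2, ← hVI v hv p hp, ← mul_assoc, hcV v hv, mul_assoc]
  have hcommU : ∀ x ∈ U, ∀ w ∈ U, x * w = w * x := by
    intro x hx w hw
    have hcx : c * x = x * c := by
      rcases hform x hx with ⟨p, hp, rfl⟩ | ⟨p, hp, rfl⟩
      · exact hcV p hp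
      · rw [mul_assoc c (I p) c, ← hcV p hp]
    rcases hform w hw with ⟨q, hq, rfl⟩ | ⟨q, hq, rfl⟩
    · exact hcomm x hx q hq
    · rw [← mul_assoc, ← hcx, mul_assoc, hcomm x hx q hq, mul_assoc]
  have hsq : ∀ x ∈ U, x * x = 1 := by
    intro x hx
    rcases hform x hx with ⟨p, hp, rfl⟩ | ⟨p, hp, rfl⟩
    · rw [hVI p hp p hp, (hb p hp).2.1, L.map_one]
    · calc c * I p * (c * I p) = c * (I p * c) * I p := by group
        _ = 1 := by rw [← hcV p hp, ← mul_assoc, hcc, one_mul, hVI p hp p hp, (hb p hp).2.1, L.map_one]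
  have h2 : IsPGroup 2 U := fun x => ⟨1, Subtype.ext (by
    show (x : G) ^ 2 ^ 1 = 1
    rw [pow_one, pow_two]; exact hsq x x.2)⟩
  obtain ⟨g, hg, hgz⟩ := E.two_into U hUM h2
  set cj : G →* G := (MulAut.conj g).toMonoidHom
  have hmap : ∀ x, cj x = g * x * g⁻¹ := fun x => rfl
  have hUeq : U.map cj = Subgroup.closure {x | x ∈ gs.map cj} := by
    rw [MonoidHom.map_closure]
    congr 1
    ext x
    simp [List.mem_map]
  have hpure : PureSub z (U.map cj) := by
    rintro _ ⟨x, hx, rfl⟩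
    refine ⟨by rw [← map_mul, hsq x hx, map_one], ?_, ?_⟩
    · rintro _ ⟨w, hw, rfl⟩
      rw [← map_mul, hcommU x hx w hw, map_mul]
    · intro hne' hcz
      rw [hmap] at hne' hcz
      have hxz : IsConj x z := (isConj_iff.2 ⟨g, rfl⟩ : IsConj x _).trans hcz
      rcases hform x hx with ⟨p, hp, rfl⟩ | ⟨p, hp, rfl⟩
      · exact (unf_iff L E.hm (hb p hp).1).1 (hb p hp).2.2.1 (fun h => hne' (by rw [h]; group)) hxz
      · exact hfus p hp hxz
  have hbot : U.map cj ≠ ⊥ := fun h => by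
    have : cj c ∈ U.map cj := Subgroup.mem_map_of_mem _ (Subgroup.subset_closure (List.mem_cons_self ..))
    rw [h, Subgroup.mem_bot, hmap, conj_eq_one_iff] at this
    exact hne _ h1 (by rw [this, L.map_one])
  obtain ⟨k, hk, h, hh, hiff⟩ := covered L E.hm hN (gs.map cj) hUeq (by
    rintro _ ⟨x, hx, rfl⟩
    exact hgz x hx) hpure hbot
  obtain ⟨-, -, hkb⟩ := hN.base k hk
  have hinU : ∀ x ∈ U, ∃ w ∈ k.V, I w = I h * (g * x * g⁻¹) * (I h)⁻¹ := fun x hx =>
    (hiff _).1 (Subgroup.mem_map_of_mem cj hx)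
  -- the new subgroup is larger
  have hcard : n.V.toFinset.card < k.V.toFinset.card := by
    set S : Finset G := insert c (n.V.toFinset.image I)
    have hS : S.card = n.V.toFinset.card + 1 := by
      rw [Finset.card_insert_of_notMem (by
        simp only [Finset.mem_image, List.mem_toFinset, not_exists, not_and]
        exact fun v hv e => hne v hv e.symm), Finset.card_image_of_injOn fun v hv w hw e =>
          L.inj v w (hb v (List.mem_toFinset.1 hv)).1 (hb w (List.mem_toFinset.1 hw)).1 e]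
    have hle : S.card ≤ (k.V.toFinset.image I).card := by
      refine Finset.card_le_card_of_injOn (fun x => I h * (g * x * g⁻¹) * (I h)⁻¹) (fun x hx => ?_)
        fun x _ x' _ e => ?_
      · have hxU : x ∈ U := by
          simp only [S, Finset.mem_coe, Finset.mem_insert, Finset.mem_image, List.mem_toFinset] at hx
          refine Subgroup.subset_closure ?_
          rcases hx with rfl | ⟨v, hv, rfl⟩
          · exact List.mem_cons_self ..
          · exact List.mem_cons_of_mem _ (List.mem_map_of_mem hv)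
        obtain ⟨w, hw, e⟩ := hinU x hxU
        exact Finset.mem_coe.2 (Finset.mem_image.2 ⟨w, List.mem_toFinset.2 hw, e⟩)
      · simpa using e
    have := Finset.card_image_le (f := I) (s := k.V.toFinset)
    omega
  have hmem : I h * (g * y * g⁻¹) * (I h)⁻¹ ∈ M := hbig k hk hcard _ fun w hw => by
    have hwU : (I h)⁻¹ * I w * I h ∈ U.map cj := (hiff _).2 ⟨w, hw, by group⟩
    obtain ⟨x, hx, hxe⟩ := hwU
    rw [hmap] at hxe
    have hw' : I w = I h * (g * x * g⁻¹) * (I h)⁻¹ := by rw [hxe]; group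
    have hyx : y * x = x * y := by
      rcases hform x hx with ⟨p, hp, rfl⟩ | ⟨p, hp, rfl⟩
      · exact hyV p hp
      · rw [← mul_assoc, hyc, mul_assoc, hyV p hp, mul_assoc]
    rw [hw']
    calc _ = I h * (g * (y * x) * g⁻¹) * (I h)⁻¹ := by group
      _ = _ := by rw [hyx]; group
  have := mul_mem (mul_mem (inv_mem hg) (mul_mem (mul_mem (inv_mem (E.hC h hh)) hmem) (E.hC h hh))) hg
  simpa [mul_assoc] using this

include W in
/-- Two separated classes make the subgroup good. -/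
theorem good_of_pair (hN : NodesGood m Ns) {n : CNode} (hn : n ∈ Ns)
    (hbig : ∀ k ∈ Ns, n.V.toFinset.card < k.V.toFinset.card → GoodNode I M k)
    {c : PairCert} (hok : pairOk m wEq n c = true) : GoodNode I M n := by
  intro g₀ hg₀
  by_contra hout
  obtain ⟨h1, -, hb⟩ := hN.base n hn
  have L := E.loc
  simp only [pairOk, force_eq, Bool.and_eq_true, List.all_eq_true, Bool.or_eq_true,
    Bool.not_eq_true', List.any_eq_true, commC, Nat.beq_eq] at hok
  obtain ⟨⟨⟨⟨⟨hd1, hd2⟩, hf1⟩, hf2⟩, hdc⟩, hall⟩ := hok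
  replace hd1 : Mem c.d1 := hd1
  replace hd2 : Mem c.d2 := hd2
  have hF1 := (L.fused_mask E.hm hd1).1 hf1
  have hF2 := (L.fused_mask E.hm hd2).1 hf2
  have hV1 : ∀ v ∈ n.V, I c.d1 * I v = I v * I c.d1 := fun v hv => (L.comm_iff hd1 (hb v hv).1).2 (hdc v hv).1
  have hV2 : ∀ v ∈ n.V, I c.d2 * I v = I v * I c.d2 := fun v hv => (L.comm_iff hd2 (hb v hv).1).2 (hdc v hv).2
  have hext : ∀ e ∈ M, e * e = 1 → (∀ v ∈ n.V, e * I v = I v * e) → (∀ v ∈ n.V, e ≠ I v) →
      ∀ y : G, (∀ v ∈ n.V, y * I v = I v * y) → IsConj y z → y * e = e * y → y ∈ M :=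
    fun e he hee heV hene y hyV _ hye => E.enlarge hN hn hbig he hee heV hene hyV hye
  have hmemV : ∀ v ∈ n.V, Mem v := fun v hv => (hb v hv).1
  -- a translate conjugate in the centralizer of the subgroup is fused
  have hsep : ∀ v ∈ n.V, ∀ g : G, (∀ w ∈ n.V, g * I w = I w * g) → g * (I c.d1 * I v) * g⁻¹ = I c.d2 → False := by
    intro v hv g hg he
    rw [← L.hom _ _ hd1 (hb v hv).1] at he
    have hf : IsConj (I (mulC c.d1 v)) z := (isConj_iff.2 ⟨g, he⟩ : IsConj _ (I c.d2)).trans hF2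
    have h := (hall v hv).resolve_left (by rw [(L.fused_mask E.hm (hd1.mul (hb v hv).1)).2 hf]; simp)
    obtain ⟨e, -, -, hs⟩ := h.1
    exact E.no_conj W hs he hg
  have hself : ∀ v ∈ n.V, v ≠ oneC → ∀ g : G, (∀ w ∈ n.V, g * I w = I w * g) →
      g * I c.d1 * g⁻¹ = I c.d1 * I v → False := by
    intro v hv hne g hg he
    rw [← L.hom _ _ hd1 (hb v hv).1] at he
    have hf : IsConj (I (mulC c.d1 v)) z := (isConj_iff.2 ⟨g, he⟩ : IsConj (I c.d1) _).symm.trans hF1
    have h := (hall v hv).resolve_left (by rw [(L.fused_mask E.hm (hd1.mul (hb v hv).1)).2 hf]; simp)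
    obtain ⟨e, -, -, hs⟩ := h.2.resolve_left hne
    exact E.no_conj W hs he hg
  -- every fused element outside is conjugate to a translate of the first involution
  have hone : ∀ (k : ℕ) (y : G), orderOf (I c.d1 * y) = k → y ∉ M → IsConj y z →
      (∀ v ∈ n.V, y * I v = I v * y) →
      ∃ v ∈ n.V, (Even k → v ≠ oneC) ∧
        ∃ g : G, (∀ w ∈ n.V, g * I w = I w * g) ∧ g * y * g⁻¹ = I c.d1 * I v := by
    intro k
    induction k using Nat.strong_induction_on with
    | _ k ih =>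
      intro y hk hyM hy hyV
      rcases E.dihedral hmemV hext h1 (E.hC _ hd1) hF1 hV1 k y hk hyM hy hyV with
        h | ⟨y', hy'M, hy', hy'V, hlt, hev, g, hg, hgd⟩
      · exact h
      obtain ⟨v, hv, hne, g', hg', hgy⟩ := ih _ hlt y' rfl hy'M hy' hy'V
      refine (hself v hv (hne hev) (g' * g) (fun w hw => ?_) ?_).elim
      · rw [mul_assoc, hg w hw, ← mul_assoc, hg' w hw, mul_assoc]
      · rw [← hgy, ← hgd]; group
  set y₀ := g₀ * I c.d1 * g₀⁻¹
  have hy₀M : y₀ ∉ M := fun h => hout (E.fus (E.hC _ hd1) hF1 h)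
  have hy₀ : IsConj y₀ z := (isConj_iff.2 ⟨g₀, rfl⟩ : IsConj (I c.d1) _).symm.trans hF1
  have hy₀V : ∀ v ∈ n.V, y₀ * I v = I v * y₀ := fun v hv =>
    (((show Commute g₀ (I v) from hg₀ v hv).mul_left (hV1 v hv)).mul_left
      (show Commute g₀ (I v) from hg₀ v hv).inv_left).eq
  rcases E.dihedral hmemV hext h1 (E.hC _ hd2) hF2 hV2 _ y₀ rfl hy₀M hy₀ hy₀V with
    ⟨v, hv, -, g, hg, he⟩ | ⟨y', hy'M, hy', hy'V, -, -, g, hg, hgd⟩
  · refine hsep v hv (g * g₀) (fun w hw => ?_) ?_
    · rw [mul_assoc, hg₀ w hw, ← mul_assoc, hg w hw, mul_assoc]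
    · have hgg : g * g₀ * I v = I v * (g * g₀) := by
        rw [mul_assoc, hg₀ v hv, ← mul_assoc, hg v hv, mul_assoc]
      have hvv : I v * I v = 1 := by
        rw [← L.hom _ _ (hb v hv).1 (hb v hv).1, (hb v hv).2.1, L.map_one]
      calc g * g₀ * (I c.d1 * I v) * (g * g₀)⁻¹
          = g * y₀ * g⁻¹ * (g * g₀ * I v * (g * g₀)⁻¹) := by simp only [y₀]; group
        _ = I c.d2 := by rw [he, hgg, mul_inv_cancel_right, mul_assoc, hvv, mul_one]
  · obtain ⟨v, hv, -, g', hg', he⟩ := hone _ y' rfl hy'M hy' hy'V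
    refine hsep v hv (g' * g)⁻¹ (fun w hw => ?_) ?_
    · exact ((((show Commute g' (I w) from hg' w hw).mul_left (show Commute g (I w) from hg w hw))).inv_left).eq
    · rw [← he, ← hgd]; group

end Emb

end Cfsg.Agent.Fus.SymSix
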