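import Cfsg.Agent.Lib.Fus.SymSix.Two
import Cfsg.Agent.Lib.Fus.SymSix.AFive
import Cfsg.Agent.Lib.Fus.SmallSimple
import Cfsg.Agent.Lib.Invol.V4Simple

/-!
# A subgroup whose centralizer has four groups as Sylow subgroups modulo it
-/

set_option autoImplicit false
set_option maxRecDepth 100000
set_option maxHeartbeats 1000000

namespace Cfsg.Agent.Fus.SymSix

open Cfsg.Agent.Spor.Cos (force force_eq ev)

/-- The data of such a subgroup. -/
structure SixtyCert where
  /-- the Sylow subgroup -/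
  s : SylCert
  /-- a fused involution outside -/
  c1 : ℕ
  /-- the image of it under the turning element -/
  q : ℕ
  /-- a word for the turning element -/
  t : List ℕ

/-- The checks of such a subgroup. -/
noncomputable def sixtyOk (m : ℕ) (wEq : List ℕ → List ℕ → Bool) (n : CNode) (c : SixtyCert) : Bool :=
  sylOk m wEq n c.s && (c.s.P.any fun p => Nat.beq p c.c1) && Nat.beq (mulC c.c1 c.c1) oneC &&
    !n.inV zC && !n.inV c.c1 && !n.inV (mulC zC c.c1) &&
    (c.s.P.all fun p => Nat.beq (mulC p p) oneC &&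
      (n.inV p || n.inV (mulC zC p) || n.inV (mulC c.c1 p) || n.inV (mulC (mulC zC c.c1) p))) &&
    (c.s.P.all fun p => c.s.P.all fun p' => commC p p') &&
    ((centList n.V).all fun x => c.s.P.any fun p => Nat.beq p x) &&
    conjOk wEq c.t zC c.c1 && conjOk wEq c.t c.c1 c.q && n.inV (mulC (mulC zC c.c1) c.q) &&
    n.V.all fun v => conjOk wEq c.t v v

/-- The product of the squares of some elements. -/
def sqProd : List ℕ → ℕ
  | [] => oneC
  | u :: us => mulC (mulC u u) (sqProd us)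

/-- The checks of a good subgroup generated by squares of elements fixing the four group. -/
noncomputable def sqSpanOk (n k : CNode) (c : SixtyCert) (h : ℕ) (us : List (ℕ × List ℕ)) : Bool :=
  inH h && (k.V.all fun v => us.any fun e => Nat.beq e.1 v && Nat.beq (sqProd e.2) (cjC h v)) &&
    us.all fun e => e.2.all fun u => inH u && (n.V.all fun v => n.inV (cjC u v) && n.inV (cjC (invC u) v)) &&
      n.inV (mulC (cjC u c.c1) c.c1)

/-- A group of order sixty with the standard numbering of a four group and a turning element. -/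
structure SixtyMap {G : Type*} [Group G] (z : G) (I : ℕ → G) (a b : G) (n : CNode) (c : SixtyCert)
    (π : centV I n →* alternatingGroup (Fin 5)) : Prop where
  /-- onto -/
  surj : Function.Surjective π
  /-- the kernel -/
  ker : ∀ g, π g = 1 ↔ ∃ v ∈ n.V, I v = (g : G)
  /-- the central involution -/
  mapz : ∀ g : centV I n, (g : G) = z → π g = dOne
  /-- the second involution -/
  mapc : ∀ g : centV I n, (g : G) = I c.c1 → π g = dTwo
  /-- the turning element -/
  mapt : ∀ g : centV I n, (g : G) = ev (gW I a b) c.t → π g = rThree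

namespace Emb

variable {G : Type*} [Group G] [Finite G] {z : G} {I : ℕ → G} {a b : G} {ta tb : CTree} {m : ℕ} {M : Subgroup G}
variable (E : Emb z I a b ta tb m M) {Ns : List CNode} {wEq : List ℕ → List ℕ → Bool} (W : WordEq I a b wEq)
include E W

/-- The centralizer is inside, or is of order sixty modulo the subgroup. -/
theorem sixty_or_le (hN : NodesGood m Ns) {n : CNode} (hn : n ∈ Ns) {c : SixtyCert}
    (hok : sixtyOk m wEq n c = true) :
    GoodNode I M n ∨ ∃ π : centV I n →* alternatingGroup (Fin 5), SixtyMap z I a b n c π := by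
  classical
  haveI : Fact (Nat.Prime 2) := ⟨Nat.prime_two⟩
  have L := E.loc
  obtain ⟨h1, -, hb⟩ := hN.base n hn
  have hmem : ∀ v ∈ n.V, Mem v := fun v hv => (hb v hv).1
  simp only [sixtyOk, Bool.and_eq_true, List.all_eq_true, Bool.or_eq_true, CNode.inV_iff, List.any_eq_true,
    Nat.beq_eq, exists_eq_right, commC, Bool.not_eq_true'] at hok
  obtain ⟨⟨⟨⟨⟨⟨⟨⟨⟨⟨⟨⟨hsyl, hc1P⟩, hc1sq⟩, hnz⟩, hnc⟩, hnzc⟩, hshape⟩, hPc⟩, hcent⟩, ht1⟩, ht2⟩, hq⟩, htV⟩ := hok
  have Sp := sylSpec L E.pair E.hm W hmem hsyl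
  obtain ⟨-, -, et1⟩ := W.conj_eq E.pair ht1
  obtain ⟨hc1m, hqm, et2⟩ := W.conj_eq E.pair ht2
  rw [L.map_z] at et1
  set r := ev (gW I a b) c.t
  have hrT : r ∈ centV I n := mem_centV.2 fun v hv =>
    mul_inv_eq_iff_eq_mul.1 (W.conj_eq E.pair (htV v hv)).2.2
  have hrM : r ∈ M := Cfsg.Agent.Spor.Cos.ev_mem _ fun s _ => E.hW s
  set T := centV I n
  obtain ⟨Q, hQ⟩ := Sp.sylow
  have hVc : ∀ v ∈ n.V, ∀ g ∈ T, g * I v = I v * g := fun v hv g hg => mem_centV.1 hg v hv
  have hVT : ∀ v ∈ n.V, I v ∈ T := fun v hv => mem_centV.2 fun w hw =>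
    (L.comm_iff (hmem v hv) (hmem w hw)).2 ((hb v hv).2.2.2 w hw).2
  have hvv : ∀ v ∈ n.V, I v * I v = 1 := fun v hv => by
    rw [← L.hom _ _ (hmem v hv) (hmem v hv), (hb v hv).2.1, L.map_one]
  have hzT : z ∈ T := mem_centV.2 fun v hv => (L.comm_z (hmem v hv)).symm
  have hPT : ∀ p ∈ c.s.P, I p ∈ T := fun p hp => by
    obtain ⟨w, hw⟩ : ∃ w : T, (w : G) = I p := by
      refine ⟨⟨I p, mem_centV.2 fun v hv => ?_⟩, rfl⟩
      exact (L.comm_iff (Sp.mem p hp) (hmem v hv)).2 (hPc p hp v (Sp.vmem v hv))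
    exact hw ▸ w.2
  -- the quotient
  let VS : Subgroup T :=
    { carrier := {x | ∃ v ∈ n.V, I v = (x : G)}
      one_mem' := ⟨oneC, h1, L.map_one⟩
      mul_mem' := by
        rintro x y ⟨v, hv, hx⟩ ⟨w, hw, hy⟩
        exact ⟨_, ((hb v hv).2.2.2 w hw).1, by rw [Subgroup.coe_mul, L.hom _ _ (hmem v hv) (hmem w hw), hx, hy]⟩
      inv_mem' := by
        rintro x ⟨v, hv, hx⟩
        exact ⟨v, hv, by rw [Subgroup.coe_inv, ← hx, inv_eq_of_mul_eq_one_left (hvv v hv)]⟩ }
  have hVS : ∀ x : T, x ∈ VS ↔ ∃ v ∈ n.V, I v = (x : G) := fun x => Iff.rfl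
  haveI hnorm : VS.Normal := ⟨fun x hx g => by
    obtain ⟨v, hv, hxv⟩ := hx
    refine ⟨v, hv, ?_⟩
    show I v = (g : G) * x * (g : G)⁻¹
    rw [← hxv, hVc v hv g g.2, mul_inv_cancel_right]⟩
  set zT : T := ⟨z, hzT⟩
  set cT : T := ⟨I c.c1, hPT _ hc1P⟩
  set rT : T := ⟨r, hrT⟩
  let mk := QuotientGroup.mk' VS
  have hmk : ∀ x, mk x = 1 ↔ ∃ v ∈ n.V, I v = (x : G) := fun x => (QuotientGroup.eq_one_iff x).trans (hVS x)
  have hcl : ∀ p ∈ c.s.P, ∀ x : T, (x : G) = I p → mk x = 1 ∨ mk x = mk zT ∨ mk x = mk cT ∨ mk x = mk zT * mk cT := by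
    intro p hp x hx
    have hpm := Sp.mem p hp
    have key : ∀ (u : ℕ) (uT : T), Mem u → mulC u u = oneC → (uT : G) = I u → mulC u p ∈ n.V → mk x = mk uT := by
      intro u uT hu husq huT hin
      have h2 : mk (uT * x) = 1 := (hmk _).2 ⟨_, hin, by rw [Subgroup.coe_mul, huT, hx, L.hom _ _ hu hpm]⟩
      have h3 : mk (uT * uT) = 1 := (hmk _).2 ⟨oneC, h1, by
        rw [Subgroup.coe_mul, huT, ← L.hom _ _ hu hu, husq]⟩
      rw [map_mul] at h2 h3
      exact mul_left_cancel (h2.trans h3.symm)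
    rcases (hshape p hp).2 with ((h | h) | h) | h
    · exact Or.inl ((hmk x).2 ⟨p, h, hx.symm⟩)
    · exact Or.inr (Or.inl (key zC zT mem_z (by decide +kernel) L.map_z.symm h))
    · exact Or.inr (Or.inr (Or.inl (key c.c1 cT hc1m hc1sq rfl h)))
    · refine Or.inr (Or.inr (Or.inr ?_))
      rw [← map_mul]
      refine key _ (zT * cT) (mem_z.mul hc1m) ?_ ?_ h
      · refine L.inj _ _ ((mem_z.mul hc1m).mul (mem_z.mul hc1m)) mem_one ?_
        rw [L.hom _ _ (mem_z.mul hc1m) (mem_z.mul hc1m), L.hom _ _ mem_z hc1m, L.map_z, L.map_one]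
        calc z * I c.c1 * (z * I c.c1) = z * (I c.c1 * z) * I c.c1 := by group
          _ = z * z * (I c.c1 * I c.c1) := by rw [L.comm_z hc1m]; group
          _ = 1 := by rw [L.mul_self_z, one_mul, ← L.hom _ _ hc1m hc1m, hc1sq, L.map_one]
      · show z * I c.c1 = _
        rw [L.hom _ _ mem_z hc1m, L.map_z]
  have hz1 : mk zT ≠ 1 := fun h => by
    obtain ⟨v, hv, e⟩ := (hmk _).1 h
    rw [← L.inj _ _ (hmem v hv) mem_z (e.trans L.map_z.symm), CNode.inV_iff.2 hv] at hnz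
    exact Bool.noConfusion hnz
  have hc1 : mk cT ≠ 1 := fun h => by
    obtain ⟨v, hv, e⟩ := (hmk _).1 h
    rw [← L.inj _ _ (hmem v hv) hc1m e, CNode.inV_iff.2 hv] at hnc
    exact Bool.noConfusion hnc
  have hzc : mk zT * mk cT ≠ 1 := fun h => by
    rw [← map_mul] at h
    obtain ⟨v, hv, e⟩ := (hmk _).1 h
    have e' : I v = I (mulC zC c.c1) := by
      rw [L.hom _ _ mem_z hc1m, L.map_z]; exact e
    rw [← L.inj _ _ (hmem v hv) (mem_z.mul hc1m) e', CNode.inV_iff.2 hv] at hnzc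
    exact Bool.noConfusion hnzc
  have hzsq : mk zT * mk zT = 1 := by
    rw [← map_mul]; exact (hmk _).2 ⟨oneC, h1, L.map_one.trans L.mul_self_z.symm⟩
  have hcsq : mk cT * mk cT = 1 := by
    rw [← map_mul]
    exact (hmk _).2 ⟨oneC, h1, by rw [Subgroup.coe_mul, ← L.hom _ _ hc1m hc1m, hc1sq]⟩
  have hcomm : mk zT * mk cT = mk cT * mk zT := by
    rw [← map_mul, ← map_mul]
    congr 1
    exact Subtype.ext (L.comm_z hc1m).symm
  -- turning
  have hr1 : mk rT * mk zT * (mk rT)⁻¹ = mk cT := by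
    rw [← map_inv, ← map_mul, ← map_mul]
    congr 1
    exact Subtype.ext et1
  have hr2 : mk rT * mk cT * (mk rT)⁻¹ = mk zT * mk cT := by
    rw [← map_inv, ← map_mul, ← map_mul, ← map_mul]
    refine QuotientGroup.eq.2 ((hVS _).2 ⟨_, hq, ?_⟩)
    show I (mulC (mulC zC c.c1) c.q) = (r * I c.c1 * r⁻¹)⁻¹ * (z * I c.c1)
    rw [et2, L.hom _ _ (mem_z.mul hc1m) hqm, L.hom _ _ mem_z hc1m, L.map_z]
    have hqP : I c.q * I c.q = 1 := by
      rw [← et2]
      calc r * I c.c1 * r⁻¹ * (r * I c.c1 * r⁻¹) = r * (I c.c1 * I c.c1) * r⁻¹ := by group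
        _ = 1 := by rw [← L.hom _ _ hc1m hc1m, hc1sq, L.map_one, mul_one, mul_inv_cancel]
    rw [inv_eq_of_mul_eq_one_left hqP]
    have hv' : I (mulC (mulC zC c.c1) c.q) * (z * I c.c1) = z * I c.c1 * I (mulC (mulC zC c.c1) c.q) := by
      have hz' := hVc _ hq z hzT
      have hc' := hVc _ hq _ (hPT _ hc1P)
      calc _ = I (mulC (mulC zC c.c1) c.q) * z * I c.c1 := by group
        _ = z * (I (mulC (mulC zC c.c1) c.q) * I c.c1) := by rw [← hz']; group
        _ = _ := by rw [← hc']; group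
    rw [L.hom _ _ (mem_z.mul hc1m) hqm, L.hom _ _ mem_z hc1m, L.map_z] at hv'
    have hww : (z * I c.c1) * (z * I c.c1) = 1 := by
      calc z * I c.c1 * (z * I c.c1) = z * (I c.c1 * z) * I c.c1 := by group
        _ = z * z * (I c.c1 * I c.c1) := by rw [L.comm_z hc1m]; group
        _ = 1 := by rw [L.mul_self_z, one_mul, ← L.hom _ _ hc1m hc1m, hc1sq, L.map_one]
    calc z * I c.c1 * I c.q = z * I c.c1 * I c.q * ((z * I c.c1) * (z * I c.c1)) := by rw [hww, mul_one]
      _ = z * I c.c1 * I c.q * (z * I c.c1) * (z * I c.c1) := by group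
      _ = z * I c.c1 * (z * I c.c1 * I c.q) * (z * I c.c1) := by rw [hv']
      _ = (z * I c.c1 * (z * I c.c1)) * I c.q * (z * I c.c1) := by group
      _ = _ := by rw [hww, one_mul]
  -- the centralizer of the involution
  have hcen : ∀ x : T, mk x * mk zT = mk zT * mk x → ∃ p ∈ c.s.P, I p = (x : G) := by
    intro x hx
    let C' : Subgroup T := (Subgroup.centralizer ({mk zT} : Set (T ⧸ VS))).comap mk
    have hC' : ∀ y, y ∈ C' ↔ mk y * mk zT = mk zT * mk y := fun y => Subgroup.mem_centralizer_singleton_iff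
    have h2 : IsPGroup 2 C' := by
      intro y
      obtain ⟨v, hv, e⟩ : ∃ v ∈ n.V, (y : G) * z * (y : G)⁻¹ = z * I v := by
        have h := (hmk ((zT : T)⁻¹ * ((y : T) * zT * (y : T)⁻¹))).1 (by
          rw [map_mul, map_mul, map_mul, map_inv, map_inv, (hC' y).1 y.2, mul_inv_cancel_right, inv_mul_cancel])
        obtain ⟨v, hv, e⟩ := h
        refine ⟨v, hv, ?_⟩
        rw [e]; show _ = z * (z⁻¹ * (((y : T) : G) * z * ((y : T) : G)⁻¹))
        group
      have hyv := hVc v hv _ (y : T).2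
      have e2 : ((y : T) : G) ^ 2 * z * (((y : T) : G) ^ 2)⁻¹ = z := by
        rw [pow_two]
        calc ((y : T) : G) * ((y : T) : G) * z * (((y : T) : G) * ((y : T) : G))⁻¹
            = ((y : T) : G) * (((y : T) : G) * z * ((y : T) : G)⁻¹) * ((y : T) : G)⁻¹ := by group
          _ = ((y : T) : G) * (z * I v) * ((y : T) : G)⁻¹ := by rw [e]
          _ = ((y : T) : G) * z * ((y : T) : G)⁻¹ * (((y : T) : G) * I v * ((y : T) : G)⁻¹) := by group
          _ = z := by rw [e, hyv, mul_inv_cancel_right, mul_assoc, hvv v hv, mul_one]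
      obtain ⟨d, hd, hde⟩ := (L.range _).1 (mul_inv_eq_iff_eq_mul.1 e2)
      have hdP := hcent d (mem_centList.2 ⟨mem_iff_elems.1 hd, List.all_eq_true.2 fun w hw => by
        simp only [commC, Nat.beq_eq]
        refine (L.comm_iff hd (hmem w hw)).1 ?_
        rw [hde]
        exact hVc w hw _ (pow_mem (y : T).2 2)⟩)
      refine ⟨2, Subtype.ext (Subtype.ext ?_)⟩
      show ((y : T) : G) ^ 2 ^ 2 = 1
      rw [show (2 : ℕ) ^ 2 = 2 * 2 from rfl, pow_mul, pow_two (((y : T) : G) ^ 2), ← hde, ← L.hom _ _ hd hd,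
        (hshape d hdP).1, L.map_one]
    have hQC : (Q : Subgroup T) ≤ C' := by
      intro y hy
      obtain ⟨p, hp, hpe⟩ := (hQ y).1 hy
      refine (hC' y).2 ?_
      rw [← map_mul, ← map_mul]
      congr 1
      refine Subtype.ext ?_
      show (y : G) * z = z * y
      rw [← hpe]
      exact L.comm_z (Sp.mem p hp)
    have := Q.3 h2 hQC
    exact (hQ x).1 (show x ∈ (Q : Subgroup T) from this ▸ (hC' x).2 hx)
  have hone : ∀ u : T ⧸ VS, orderOf u = 2 → _root_.IsConj (mk zT) u := by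
    intro u hu
    obtain ⟨g, rfl⟩ := QuotientGroup.mk'_surjective VS u
    have hgg : mk (g * g) = 1 := by rw [map_mul, ← pow_two, ← hu, pow_orderOf_eq_one]
    obtain ⟨v, hv, e⟩ := (hmk _).1 hgg
    obtain ⟨k, hk, p, hp, hke⟩ := Sp.into (g : G) g.2 ⟨2, by
      show (g : G) ^ 2 ^ 2 = 1
      rw [show (2 : ℕ) ^ 2 = 2 * 2 from rfl, pow_mul, pow_two (g : G),
        show (g : G) * g = I v from e.symm, pow_two, hvv v hv]⟩
    refine _root_.IsConj.trans ?_ (_root_.isConj_iff.2 ⟨(mk ⟨k, hk⟩)⁻¹, ?_⟩ : _root_.IsConj (mk (⟨k, hk⟩ * g * ⟨k, hk⟩⁻¹)) (mk g))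
    swap
    · rw [map_mul, map_mul, map_inv]; group
    have hne : mk (⟨k, hk⟩ * g * ⟨k, hk⟩⁻¹) ≠ 1 := fun h => by
      rw [map_mul, map_mul, map_inv, conj_eq_one_iff] at h
      rw [h, orderOf_one] at hu
      omega
    rcases hcl p hp ((⟨k, hk⟩ : T) * g * (⟨k, hk⟩ : T)⁻¹) (hke : _) with h | h | h | h
    · exact absurd h hne
    · rw [h]
    · rw [h]; exact _root_.isConj_iff.2 ⟨mk rT, hr1⟩
    · rw [h]; exact _root_.isConj_iff.2 ⟨mk rT * mk rT, by
        rw [← hr2, ← hr1]; group⟩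
  have hexp : ∀ u ∈ Subgroup.centralizer ({mk zT} : Set (T ⧸ VS)),
      u = 1 ∨ u = mk zT ∨ u = mk cT ∨ u = mk zT * mk cT := by
    intro u hu
    obtain ⟨x, rfl⟩ := QuotientGroup.mk'_surjective VS u
    obtain ⟨p, hp, hpe⟩ := hcen x (Subgroup.mem_centralizer_singleton_iff.1 hu)
    exact hcl p hp x hpe.symm
  have hexp2 : ∀ u ∈ Subgroup.centralizer ({mk zT} : Set (T ⧸ VS)), u * u = 1 := by
    intro u hu
    rcases hexp u hu with rfl | rfl | rfl | rfl
    · exact one_mul 1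
    · exact hzsq
    · exact hcsq
    · calc mk zT * mk cT * (mk zT * mk cT) = mk zT * (mk cT * mk zT) * mk cT := by group
        _ = mk zT * mk zT * (mk cT * mk cT) := by rw [← hcomm]; group
        _ = 1 := by rw [hzsq, hcsq, one_mul]
  have hzord : orderOf (mk zT) = 2 := orderOf_eq_prime (by rw [pow_two, hzsq]) hz1
  have h4 : Nat.card (Subgroup.centralizer ({mk zT} : Set (T ⧸ VS))) = 4 := by
    have hzc1 : mk zT ≠ mk cT := fun h => hzc (by rw [h, hcsq])
    have e : ((Subgroup.centralizer ({mk zT} : Set (T ⧸ VS))) : Set (T ⧸ VS)) =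
        ↑({1, mk zT, mk cT, mk zT * mk cT} : Finset (T ⧸ VS)) := by
      ext u
      simp only [Finset.coe_insert, Finset.coe_singleton, Set.mem_insert_iff, Set.mem_singleton_iff, SetLike.mem_coe]
      refine ⟨hexp u, fun h => Subgroup.mem_centralizer_singleton_iff.2 ?_⟩
      rcases h with rfl | rfl | rfl | rfl
      · simp
      · rfl
      · exact hcomm.symm
      · rw [mul_assoc, ← hcomm]
    have : Nat.card (Subgroup.centralizer ({mk zT} : Set (T ⧸ VS))) =
        ({1, mk zT, mk cT, mk zT * mk cT} : Finset (T ⧸ VS)).card := by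
      rw [← Set.ncard_coe_finset, ← e]; rfl
    rw [this]
    refine Finset.card_eq_of_equiv_fin (n := 4) ?_ |>.trans rfl
    exact (Finset.equivFinOfCardEq (by
      rw [Finset.card_insert_of_notMem (by simp [Ne.symm hz1, Ne.symm hc1, Ne.symm hzc]),
        Finset.card_insert_of_notMem (by simp [hzc1, hc1]),
        Finset.card_insert_of_notMem (by simp [hz1]), Finset.card_singleton]))
  rcases Cfsg.Agent.Invol.V4Order.order_eq (mk zT) hzord h4 hexp2 hone with h12 | h60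
  · -- all inside
    left
    intro g hg
    let MT : Subgroup (T ⧸ VS) := (M.subgroupOf T).map mk
    have hMT : ∀ x : T, (x : G) ∈ M → mk x ∈ MT := fun x hx => Subgroup.mem_map_of_mem mk hx
    have hzM : mk zT ∈ MT := hMT _ E.z_mem
    have hcM : mk cT ∈ MT := hMT _ (E.hC _ hc1m)
    have hrMT : mk rT ∈ MT := hMT _ hrM
    have h4d : 4 ∣ Nat.card MT := by
      rw [← h4]
      refine Subgroup.card_dvd_of_le fun u hu => ?_
      rcases hexp u hu with rfl | rfl | rfl | rfl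
      exacts [one_mem _, hzM, hcM, mul_mem hzM hcM]
    have h3d : 3 ∣ Nat.card MT := by
      by_contra h3
      have hd : Nat.card MT ∣ 4 :=
        (Nat.Coprime.dvd_of_dvd_mul_right ((Nat.prime_three.coprime_iff_not_dvd.2 h3).symm)
          (by rw [show (4 : ℕ) * 3 = Nat.card (T ⧸ VS) by rw [h12]]; exact Subgroup.card_subgroup_dvd_card MT))
      have heq : Subgroup.centralizer ({mk zT} : Set (T ⧸ VS)) = MT := by
        refine Subgroup.eq_of_le_of_card_ge (fun u hu => ?_) (by rw [h4]; exact Nat.le_of_dvd (by norm_num) hd)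
        rcases hexp u hu with rfl | rfl | rfl | rfl
        exacts [one_mem _, hzM, hcM, mul_mem hzM hcM]
      rw [← heq, Subgroup.mem_centralizer_singleton_iff] at hrMT
      refine hzc ?_
      have e : mk cT = mk zT := by rw [← hr1, hrMT, mul_inv_cancel_right]
      rw [e, hzsq]
    have htop : MT = ⊤ := by
      refine Subgroup.eq_top_of_le_card _ ?_
      rw [h12]
      exact Nat.le_of_dvd Nat.card_pos ((show Nat.Coprime 4 3 by norm_num).mul_dvd_of_dvd_of_dvd h4d h3d)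
    obtain ⟨x, hx, hxe⟩ := Subgroup.mem_map.1 (show mk ⟨g, mem_centV.2 hg⟩ ∈ MT by rw [htop]; trivial)
    obtain ⟨v, hv, e⟩ := (hmk (x⁻¹ * ⟨g, mem_centV.2 hg⟩)).1 (by rw [map_mul, map_inv, hxe, inv_mul_cancel])
    have : g = (x : G) * I v := by rw [e]; show g = (x : G) * ((x : G)⁻¹ * g); group
    rw [this]
    exact mul_mem hx (E.hC v (hmem v hv))
  · right
    haveI := Cfsg.Agent.Invol.V4Order.simple_of_sixty hzord h4 hexp2 hone h60
    obtain ⟨θ⟩ := Cfsg.Agent.Fus.alternating_five_of_card h60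
    have hd : ∀ {u : T ⧸ VS}, u ≠ 1 → θ u ≠ 1 := fun hu h => hu ((map_eq_one_iff θ θ.injective).1 h)
    obtain ⟨σ, hσ1, hσ2, hσ3⟩ := std_conj (θ (mk zT)) (hd hz1) (by rw [← map_mul θ, hzsq, map_one]) (θ (mk cT)) (hd hc1)
      (by rw [← map_mul θ, hcsq, map_one]) (fun h => hzc (by rw [θ.injective h, hzsq]))
      (by rw [← map_mul θ, ← map_mul θ, hcomm]) (θ (mk rT))
      (by rw [← map_inv θ, ← map_mul θ, ← map_mul θ, hr1]) (by rw [← map_inv θ, ← map_mul θ, ← map_mul θ, ← map_mul θ, hr2])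
    let κ : alternatingGroup (Fin 5) →* alternatingGroup (Fin 5) :=
      MonoidHom.mk' (fun x => ⟨σ * x.1 * σ⁻¹, (alternatingGroup.normal).conj_mem _ x.2 σ⟩) fun x y =>
        Subtype.ext (by show σ * (x.1 * y.1) * σ⁻¹ = _ * _; group)
    have hκinj : Function.Injective κ := fun x y h => Subtype.ext ((MulAut.conj σ).injective (congrArg Subtype.val h))
    refine ⟨κ.comp (θ.toMonoidHom.comp mk), ?_, fun g => ?_, fun g hg => ?_, fun g hg => ?_, fun g hg => ?_⟩
    · exact (Finite.surjective_of_injective hκinj).comp (θ.surjective.comp (QuotientGroup.mk'_surjective VS))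
    · show κ (θ (mk g)) = 1 ↔ _
      rw [map_eq_one_iff κ hκinj, map_eq_one_iff θ θ.injective]
      exact hmk g
    · obtain rfl : g = zT := Subtype.ext hg
      exact Subtype.ext hσ1
    · obtain rfl : g = cT := Subtype.ext hg
      exact Subtype.ext hσ2
    · obtain rfl : g = rT := Subtype.ext hg
      exact Subtype.ext hσ3

omit W in
/-- Squares of elements fixing the four group fix every odd element. -/
theorem sq_fixes {n : CNode} {c : SixtyCert} (hnm : ∀ v ∈ n.V, Mem v) (hc1 : Mem c.c1)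
    (hc1T : I c.c1 ∈ centV I n) {π : centV I n →* alternatingGroup (Fin 5)} (hπ : SixtyMap z I a b n c π)
    (hvv : ∀ v ∈ n.V, I v * I v = 1) (hc1sq : mulC c.c1 c.c1 = oneC) {u : ℕ} (hu : Mem u)
    (hnV : ∀ v ∈ n.V, cjC u v ∈ n.V ∧ cjC (invC u) v ∈ n.V) (hucl : mulC (cjC u c.c1) c.c1 ∈ n.V) :
    ∀ x ∈ centV I n, x ^ 15 = 1 → I (mulC u u) * x = x * I (mulC u u) := by
  classical
  have L := E.loc
  set n' := I u
  have hcon : ∀ g ∈ centV I n, n' * g * n'⁻¹ ∈ centV I n ∧ n'⁻¹ * g * n' ∈ centV I n := by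
    intro g hg
    refine ⟨mem_centV.2 fun v hv => ?_, mem_centV.2 fun v hv => ?_⟩
    · have h := mem_centV.1 hg _ (hnV v hv).2
      rw [L.map_cj hu.inv (hnm v hv), L.map_inv hu, inv_inv] at h
      calc n' * g * n'⁻¹ * I v = n' * (g * (n'⁻¹ * I v * n')) * n'⁻¹ := by group
        _ = n' * (n'⁻¹ * I v * n' * g) * n'⁻¹ := by rw [h]
        _ = _ := by group
    · have h := mem_centV.1 hg _ (hnV v hv).1
      rw [L.map_cj hu (hnm v hv)] at h
      calc n'⁻¹ * g * n' * I v = n'⁻¹ * (g * (n' * I v * n'⁻¹)) * n' := by group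
        _ = n'⁻¹ * (n' * I v * n'⁻¹ * g) * n' := by rw [h]
        _ = _ := by group
  let ν : ↥(centV I n) →* ↥(centV I n) := MonoidHom.mk' (fun g => ⟨n' * g * n'⁻¹, (hcon g g.2).1⟩) fun g g' =>
    Subtype.ext (by show n' * ((g : G) * g') * n'⁻¹ = _ * _; group)
  have hker : ∀ g, π g = 1 → π (ν g) = 1 := by
    intro g hg
    obtain ⟨v, hv, e⟩ := (hπ.ker g).1 hg
    refine (hπ.ker _).2 ⟨_, (hnV v hv).1, ?_⟩
    rw [L.map_cj hu (hnm v hv), e]
    rfl
  -- the induced automorphism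
  have hrep := hπ.surj
  choose lift hlift using hrep
  have hwd : ∀ g, π (ν (lift (π g))) = π (ν g) := by
    intro g
    have h : π ((lift (π g))⁻¹ * g) = 1 := by rw [map_mul, map_inv, hlift, inv_mul_cancel]
    have h2 := hker _ h
    rw [map_mul, map_mul, map_inv, map_inv] at h2
    exact inv_mul_eq_one.1 h2
  let α₀ : alternatingGroup (Fin 5) →* alternatingGroup (Fin 5) := MonoidHom.mk' (fun x => π (ν (lift x))) fun x y => by
    rw [← map_mul π, ← map_mul ν, ← hwd (lift x * lift y), map_mul π, hlift, hlift]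
  have hα₀ : Function.Surjective α₀ := by
    intro x
    obtain ⟨g, rfl⟩ := hπ.surj x
    refine ⟨π ⟨n'⁻¹ * g * n', (hcon g g.2).2⟩, ?_⟩
    show π (ν (lift _)) = _
    rw [hwd]
    congr 1
    refine Subtype.ext ?_
    show n' * (n'⁻¹ * (g : G) * n') * n'⁻¹ = g
    group
  let α := MulEquiv.ofBijective α₀ ⟨Finite.injective_iff_surjective.2 hα₀, hα₀⟩
  have hα : ∀ g, α (π g) = π (ν g) := hwd
  have h1 : α dOne = dOne := by
    have hzT : z ∈ centV I n := mem_centV.2 fun v hv => (L.comm_z (hnm v hv)).symm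
    rw [← hπ.mapz ⟨z, hzT⟩ rfl, hα]
    congr 1
    refine Subtype.ext ?_
    show n' * z * n'⁻¹ = z
    rw [L.comm_z hu, mul_inv_cancel_right]
  have h2 : α dTwo = dTwo := by
    rw [← hπ.mapc ⟨I c.c1, hc1T⟩ rfl, hα]
    refine mul_inv_eq_one.1 ?_
    rw [← map_inv, ← map_mul, hπ.ker]
    refine ⟨_, hucl, ?_⟩
    rw [L.hom _ _ (Mem.cj hu hc1) hc1, L.map_cj hu hc1]
    have hcc : I c.c1 * I c.c1 = 1 := by rw [← L.hom _ _ hc1 hc1, hc1sq, L.map_one]
    show n' * I c.c1 * n'⁻¹ * I c.c1 = n' * I c.c1 * n'⁻¹ * (I c.c1)⁻¹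
    rw [inv_eq_of_mul_eq_one_left hcc]
  intro x hx hx15
  have hnn : n' * n' = I (mulC u u) := (L.hom _ _ hu hu).symm
  set y := n' * (n' * x * n'⁻¹) * n'⁻¹
  have hy : π ⟨y, (hcon _ (hcon x hx).1).1⟩ = π ⟨x, hx⟩ := by
    show π (ν (ν ⟨x, hx⟩)) = _
    rw [← hα, ← hα, sq_trivial α h1 h2]
  have hd : π ((⟨x, hx⟩ : ↥(centV I n))⁻¹ * ⟨y, (hcon _ (hcon x hx).1).1⟩) = 1 := by rw [map_mul, map_inv, hy, inv_mul_cancel]
  obtain ⟨v, hv, e⟩ := (hπ.ker _).1 hd
  change I v = x⁻¹ * y at e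
  have hyx : y = x * I v := by rw [e]; group
  have hy15 : y ^ 15 = 1 := by simp only [y]; rw [conj_pow, conj_pow, hx15]; group
  have hv1 : I v = 1 := by
    have hc : Commute x (I v) := mem_centV.1 hx v hv
    have := hy15
    rw [hyx, hc.mul_pow, hx15, one_mul, show 15 = 2 * 7 + 1 from rfl, pow_succ, pow_mul, pow_two, hvv v hv, one_pow,
      one_mul] at this
    exact this
  rw [hv1, mul_one] at hyx
  rw [← hnn]
  calc n' * n' * x = y * (n' * n') := by simp only [y]; group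
    _ = x * (n' * n') := by rw [hyx]

/-- Such a subgroup is good once one spanned by those squares is. -/
theorem good_of_sixty (hN : NodesGood m Ns) {n k : CNode} (hn : n ∈ Ns) (hk : k ∈ Ns) (hgk : GoodNode I M k)
    {c : SixtyCert} {h : ℕ} {us : List (ℕ × List ℕ)} (hok : sixtyOk m wEq n c = true)
    (hsp : sqSpanOk n k c h us = true) : GoodNode I M n := by
  have L := E.loc
  obtain ⟨h1, -, hb⟩ := hN.base n hn
  have hnm : ∀ v ∈ n.V, Mem v := fun v hv => (hb v hv).1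
  have hvv : ∀ v ∈ n.V, I v * I v = 1 := fun v hv => by
    rw [← L.hom _ _ (hnm v hv) (hnm v hv), (hb v hv).2.1, L.map_one]
  obtain ⟨hsyl, hc1P, hPc, hcsq⟩ : sylOk m wEq n c.s = true ∧ c.c1 ∈ c.s.P ∧
      (∀ p ∈ c.s.P, ∀ p' ∈ c.s.P, mulC p p' = mulC p' p) ∧ mulC c.c1 c.c1 = oneC := by
    simp only [sixtyOk, Bool.and_eq_true, List.all_eq_true, List.any_eq_true, Nat.beq_eq, exists_eq_right,
      commC] at hok
    exact ⟨hok.1.1.1.1.1.1.1.1.1.1.1.1, hok.1.1.1.1.1.1.1.1.1.1.1.2, hok.1.1.1.1.1.2, hok.1.1.1.1.1.1.1.1.1.1.2⟩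
  have Sp := sylSpec L E.pair E.hm W hnm hsyl
  have hc1 := Sp.mem _ hc1P
  have hc1T : I c.c1 ∈ centV I n := mem_centV.2 fun v hv =>
    (L.comm_iff hc1 (hnm v hv)).2 (hPc _ hc1P v (Sp.vmem v hv))
  rcases E.sixty_or_le W hN hn hok with hg | ⟨π, hπ⟩
  · exact hg
  obtain ⟨-, -, hkb⟩ := hN.base k hk
  simp only [sqSpanOk, Bool.and_eq_true, List.all_eq_true, List.any_eq_true, Nat.beq_eq, CNode.inV_iff] at hsp
  obtain ⟨⟨hh, hcov⟩, hus⟩ := hsp
  have hodd : ∀ x ∈ centV I n, x ^ 15 = 1 → x ∈ M := by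
    intro x hx hx15
    refine E.moved_good (fun v hv => (hkb v hv).1) hgk hh x fun v hv => ?_
    obtain ⟨e, he, -, he2⟩ := hcov v hv
    rw [← he2]
    have : ∀ l : List ℕ, (∀ u ∈ l, u ∈ e.2) → Mem (sqProd l) ∧ x * I (sqProd l) = I (sqProd l) * x := by
      intro l
      induction l with
      | nil => exact fun _ => ⟨mem_one, by rw [show I (sqProd []) = 1 from L.map_one, mul_one, one_mul]⟩
      | cons u l ih =>
        intro hl
        obtain ⟨hlm, hle⟩ := ih fun w hw => hl w (List.mem_cons_of_mem _ hw)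
        obtain ⟨⟨hum, hun⟩, huc⟩ := hus e he u (hl u (List.mem_cons_self ..))
        replace hum : Mem u := hum
        refine ⟨(hum.mul hum).mul hlm, ?_⟩
        have h2 : Commute x (I (mulC u u)) :=
          (E.sq_fixes hnm hc1 hc1T hπ hvv hcsq hum hun huc x hx hx15).symm
        show x * I (mulC (mulC u u) (sqProd l)) = I (mulC (mulC u u) (sqProd l)) * x
        rw [L.hom _ _ (hum.mul hum) hlm]
        exact (h2.mul_right hle).eq
    exact (this e.2 fun u hu => hu).2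
  intro g hg
  have hgT : g ∈ centV I n := mem_centV.2 hg
  obtain ⟨b', hb', hab⟩ := two_odd (π ⟨g, hgT⟩)
  have hlift : ∀ y : alternatingGroup (Fin 5), y ^ 15 = 1 → ∃ x : centV I n, π x = y ∧ (x : G) ∈ M := by
    intro y hy
    obtain ⟨x₀, hx₀⟩ := hπ.surj y
    refine ⟨x₀ ^ 16, by rw [map_pow, hx₀, show 16 = 15 + 1 from rfl, pow_succ, hy, one_mul], ?_⟩
    refine hodd _ (x₀ ^ 16).2 ?_
    have h1' : π (x₀ ^ 15) = 1 := by rw [map_pow, hx₀, hy]
    obtain ⟨v, hv, e⟩ := (hπ.ker _).1 h1'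
    rw [Subgroup.coe_pow] at e
    show ((x₀ ^ 16 : centV I n) : G) ^ 15 = 1
    rw [Subgroup.coe_pow, ← pow_mul, show 16 * 15 = 15 * 2 * 8 from rfl, pow_mul, pow_mul, ← e, pow_two, hvv v hv,
      one_pow]
  obtain ⟨x₁, hx₁, hM₁⟩ := hlift b' hb'
  obtain ⟨x₂, hx₂, hM₂⟩ := hlift _ hab
  have hd : π ((x₁ * x₂)⁻¹ * ⟨g, hgT⟩) = 1 := by
    rw [map_mul, map_inv, map_mul, hx₁, hx₂, mul_inv_cancel_left, inv_mul_cancel]
  obtain ⟨v, hv, e⟩ := (hπ.ker _).1 hd
  have : g = (x₁ : G) * x₂ * I v := by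
    rw [e]; show g = (x₁ : G) * x₂ * (((x₁ : G) * x₂)⁻¹ * g); group
  rw [this]
  exact mul_mem (mul_mem hM₁ hM₂) (E.hC v (hnm v hv))

end Emb

end Cfsg.Agent.Fus.SymSix
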