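import Cfsg.Agent.Lib.Fus.SymSix.KillRun512_0_0
import Cfsg.Agent.Lib.Fus.SymSix.KillRun512_0_1
import Cfsg.Agent.Lib.Fus.SymSix.KillRun512_0_2
import Cfsg.Agent.Lib.Fus.SymSix.KillRun712_0_0
import Cfsg.Agent.Lib.Fus.SymSix.KillRun712_1_0
import Cfsg.Agent.Lib.Fus.SymSix.KillRun712_1_1
import Cfsg.Agent.Lib.Fus.SymSix.KillRun712_2_0
import Cfsg.Agent.Lib.Fus.SymSix.KillRun712_2_1
import Cfsg.Agent.Lib.Fus.SymSix.KillRun712_2_2
import Cfsg.Agent.Lib.Fus.SymSix.KillRun712_2_3
import Cfsg.Agent.Lib.Fus.SymSix.KillRun712_2_4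
import Cfsg.Agent.Lib.Fus.SymSix.KillRun712_2_5
import Cfsg.Agent.Lib.Fus.SymSix.LoopRun512_0
import Cfsg.Agent.Lib.Fus.SymSix.LoopRun712_0
import Cfsg.Agent.Lib.Fus.SymSix.LoopRun712_1
import Cfsg.Agent.Lib.Fus.SymSix.LoopRun712_2
import Cfsg.Agent.Lib.Fus.SymSix.Options

/-!
# The presentations hold in every group of the two patterns
-/

set_option autoImplicit false
set_option maxRecDepth 100000
set_option Elab.async false

namespace Cfsg.Agent.Fus.SymSix

open Cfsg.Agent.Spor.Cos (ev)

/-- The impossible options. -/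
def dead512_0 : List ℕ := deadList512_0_0 ++ deadList512_0_1 ++ deadList512_0_2

theorem killed512_0 : ∀ c ∈ dead512_0, Killed swapTree512_9_3 swapTree512_9_3 (baseC512.map Prod.fst ++ fixed512.take 0) loop512_0 c := by
  intro c hc
  simp only [dead512_0, List.mem_append, or_assoc] at hc
  rcases hc with hc | hc | hc
  · exact killed512_0_0 c hc
  · exact killed512_0_1 c hc
  · exact killed512_0_2 c hc

theorem stageOk512_0 : stageOk swapTree512_9_3 swapTree512_9_3 (fixed512.take 0) loop512_0 loopAct512_0 loopOpts512_0 dead512_0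
    gauge512_0 canon512_0 canonW512_0 = true := by decide +kernel

/-- The impossible options. -/
def dead712_0 : List ℕ := deadList712_0_0

theorem killed712_0 : ∀ c ∈ dead712_0, Killed swapTree712_9_0 swapTree712_6_1 (baseC712.map Prod.fst ++ fixed712.take 0) loop712_0 c := by
  intro c hc
  simp only [dead712_0, List.mem_append, or_assoc] at hc
  exact killed712_0_0 c hc

theorem stageOk712_0 : stageOk swapTree712_9_0 swapTree712_6_1 (fixed712.take 0) loop712_0 loopAct712_0 loopOpts712_0 dead712_0
    gauge712_0 canon712_0 canonW712_0 = true := by decide +kernel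

/-- The impossible options. -/
def dead712_1 : List ℕ := deadList712_1_0 ++ deadList712_1_1

theorem killed712_1 : ∀ c ∈ dead712_1, Killed swapTree712_9_0 swapTree712_6_1 (baseC712.map Prod.fst ++ fixed712.take 1) loop712_1 c := by
  intro c hc
  simp only [dead712_1, List.mem_append, or_assoc] at hc
  rcases hc with hc | hc
  · exact killed712_1_0 c hc
  · exact killed712_1_1 c hc

theorem stageOk712_1 : stageOk swapTree712_9_0 swapTree712_6_1 (fixed712.take 1) loop712_1 loopAct712_1 loopOpts712_1 dead712_1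
    gauge712_1 canon712_1 canonW712_1 = true := by decide +kernel

/-- The impossible options. -/
def dead712_2 : List ℕ := deadList712_2_0 ++ deadList712_2_1 ++ deadList712_2_2 ++ deadList712_2_3 ++ deadList712_2_4 ++ deadList712_2_5

theorem killed712_2 : ∀ c ∈ dead712_2, Killed swapTree712_9_0 swapTree712_6_1 (baseC712.map Prod.fst ++ fixed712.take 2) loop712_2 c := by
  intro c hc
  simp only [dead712_2, List.mem_append, or_assoc] at hc
  rcases hc with hc | hc | hc | hc | hc | hc
  · exact killed712_2_0 c hc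
  · exact killed712_2_1 c hc
  · exact killed712_2_2 c hc
  · exact killed712_2_3 c hc
  · exact killed712_2_4 c hc
  · exact killed712_2_5 c hc

theorem stageOk712_2 : stageOk swapTree712_9_0 swapTree712_6_1 (fixed712.take 2) loop712_2 loopAct712_2 loopOpts712_2 dead712_2
    gauge712_2 canon712_2 canonW712_2 = true := by decide +kernel

theorem certs512 : certsOk swapTree512_9_3 swapTree512_9_3 baseC512 = true := by decide +kernel

theorem certs712 : certsOk swapTree712_9_0 swapTree712_6_1 baseC712 = true := by decide +kernel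

theorem gauge512_same : (gauge512_0.all fun p => Nat.beq p.2.1 p.2.2) = true := by decide +kernel

namespace Loc

variable {G : Type*} [Group G] {z : G} {I : ℕ → G} (L : Loc z I)
include L

/-- The presentation in the first pattern. -/
theorem exists_rels512 {a : G} (ha : Swap I a swapTree512_9_3) :
    ∃ a', Pair I a' a' swapTree512_9_3 swapTree512_9_3 ∧
      ∀ r ∈ baseC512.map Prod.fst ++ fixed512 ++ [[6, 7]], ev (gW I a' a') r = 1 := by
  obtain ⟨p, hp, P', hr⟩ := L.stage ⟨L.hom, ha, ha⟩ certs512 (fun r hr => absurd hr (by simp)) stageOk512_0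
    loopCover512_0 killed512_0
  rw [← Nat.eq_of_beq_eq_true (List.all_eq_true.1 gauge512_same p hp)] at P' hr
  refine ⟨_, P', fun r hr' => ?_⟩
  simp only [List.mem_append, List.mem_singleton] at hr'
  rcases hr' with (hr' | hr') | rfl
  · exact P'.certs_sound certs512 r hr'
  · exact hr r hr'
  · show gW I _ _ 6 * (gW I _ _ 7 * 1) = 1
    simp [gW, P'.swA.sq]

/-- The presentation in the second pattern. -/
theorem exists_rels712 {a b : G} (ha : Swap I a swapTree712_9_0) (hb : Swap I b swapTree712_6_1) :
    ∃ a' b', Pair I a' b' swapTree712_9_0 swapTree712_6_1 ∧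
      ∀ r ∈ baseC712.map Prod.fst ++ fixed712, ev (gW I a' b') r = 1 := by
  obtain ⟨p0, -, P0, h0⟩ := L.stage ⟨L.hom, ha, hb⟩ certs712 (fun r hr => absurd hr (by simp)) stageOk712_0
    loopCover712_0 killed712_0
  obtain ⟨p1, -, P1, h1⟩ := L.stage P0 certs712 h0 stageOk712_1 loopCover712_1 killed712_1
  obtain ⟨p2, -, P2, h2⟩ := L.stage P1 certs712 h1 stageOk712_2 loopCover712_2 killed712_2
  refine ⟨_, _, P2, fun r hr => ?_⟩
  rcases List.mem_append.1 hr with hr | hr
  · exact P2.certs_sound certs712 r hr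
  · exact h2 r hr

end Loc

end Cfsg.Agent.Fus.SymSix
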