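import Mathlib

/-! Generated data for the centralizer of six transpositions. -/

set_option autoImplicit false
set_option maxRecDepth 100000

namespace Cfsg.Agent.Fus.SymSix

/-- The conjugating element to the forty-second subgroup. -/
def hThirteen : ℕ := 11028000

/-- Fused involutions normalizing that subgroup. -/
def dThirteen : List ℕ := [292922, 3765681, 11893041]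

/-- The generators of the point stabilizer, as lists. -/
def stabGens : List (List ℕ) := [[11, 10, 2, 3, 4, 5, 9, 8, 7, 6, 1, 0],
  [0, 1, 10, 11, 4, 5, 6, 7, 8, 9, 2, 3],
  [0, 1, 2, 3, 4, 5, 8, 9, 6, 7, 10, 11],
  [1, 6, 2, 3, 4, 5, 0, 7, 8, 9, 10, 11]]

/-- Words for the three-cycles fixing two points. -/
def stabWords : List (List ℕ) := [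
  [2, 0, 3, 3, 2, 3, 2, 3, 2, 3, 3, 2, 3, 3, 3, 3, 0, 2],
  [0, 3, 0],
  [2, 1, 0, 1, 0, 3, 2, 0, 1, 0, 1, 0, 3, 0, 1, 0, 1, 0, 2, 3, 3, 0, 1, 0, 1, 2],
  [0, 3, 3, 2, 0, 1, 0, 1, 0, 3, 0, 1, 0, 1, 0, 2, 3, 3, 3, 3, 0],
  [0, 3, 2, 0, 1, 0, 1, 0, 3, 0, 1, 0, 1, 0, 2, 3, 3, 0],
  [1, 0, 1, 0, 3, 3, 2, 3, 2, 3, 2, 3, 3, 2, 3, 3, 3, 3, 0, 1, 0, 1],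
  [2, 3, 0, 3, 1, 0, 1, 0, 3, 2, 3, 2, 3, 3, 0, 1, 0, 1, 3, 3, 0, 3, 3, 2],
  [2, 1, 0, 1, 0, 3, 0, 1, 0, 1, 2],
  [0, 3, 2, 3, 0, 1, 0, 1, 0, 3, 0, 1, 0, 1, 0, 3, 3, 2, 3, 3, 0],
  [2, 0, 3, 0, 1, 0, 1, 0, 3, 0, 1, 0, 1, 0, 3, 3, 0, 2],
  [0, 3, 3, 2, 3, 0, 1, 0, 1, 0, 3, 0, 1, 0, 1, 0, 3, 3, 2, 3, 3, 3, 3, 0],
  [2, 3, 0, 1, 0, 1, 0, 3, 2, 3, 2, 3, 3, 0, 1, 0, 1, 0, 3, 3, 2],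
  [2, 0, 3, 2, 3, 2, 3, 3, 0, 2],
  [0, 3, 3, 2, 3, 2, 3, 3, 3, 3, 0],
  [0, 3, 2, 3, 3, 0, 1, 0, 1, 0, 3, 0, 1, 0, 1, 0, 3, 3, 3, 3, 2, 3, 3, 0],
  [0, 3, 2, 3, 2, 3, 3, 0],
  [0, 3, 3, 2, 3, 2, 3, 2, 3, 3, 2, 3, 3, 3, 3, 0],
  [2, 0, 3, 3, 0, 1, 0, 1, 0, 3, 0, 1, 0, 1, 0, 3, 3, 3, 3, 0, 2],
  [0, 3, 2, 3, 2, 3, 2, 3, 3, 2, 3, 3, 0],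
  [2, 0, 3, 0, 2],
  [2, 3, 2, 3, 2, 0, 1, 0, 1, 0, 3, 0, 1, 0, 1, 0, 2, 3, 3, 2, 3, 3, 2],
  [3, 2, 0, 1, 0, 1, 0, 3, 2, 3, 2, 3, 3, 0, 1, 0, 1, 0, 2, 3, 3],
  [1, 0, 1, 0, 3, 2, 0, 1, 0, 1, 0, 3, 0, 1, 0, 1, 0, 2, 3, 3, 0, 1, 0, 1],
  [2, 0, 3, 3, 2, 0, 1, 0, 1, 0, 3, 0, 1, 0, 1, 0, 2, 3, 3, 3, 3, 0, 2],
  [3, 2, 3, 0, 1, 0, 1, 0, 3, 0, 1, 0, 1, 0, 3, 3, 2, 3, 3],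
  [3, 2, 3, 2, 0, 1, 0, 1, 0, 3, 0, 1, 0, 1, 0, 2, 3, 3, 2, 3, 3],
  [1, 0, 1, 0, 3, 2, 3, 2, 3, 3, 0, 1, 0, 1],
  [1, 0, 1, 0, 3, 2, 3, 2, 3, 2, 3, 3, 2, 3, 3, 0, 1, 0, 1],
  [3, 0, 1, 0, 1, 0, 3, 2, 3, 2, 3, 3, 0, 1, 0, 1, 0, 3, 3],
  [2, 3, 2, 3, 0, 1, 0, 1, 0, 3, 0, 1, 0, 1, 0, 3, 3, 2, 3, 3, 2],
  [1, 0, 1, 0, 3, 0, 1, 0, 1, 0, 3, 0, 1, 0, 1, 0, 3, 3, 0, 1, 0, 1],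
  [0, 3, 3, 0, 1, 0, 1, 0, 3, 0, 1, 0, 1, 0, 3, 3, 3, 3, 0],
  [2, 0, 3, 2, 0, 1, 0, 1, 0, 3, 0, 1, 0, 1, 0, 2, 3, 3, 0, 2],
  [2, 1, 0, 1, 0, 3, 2, 3, 2, 3, 3, 0, 1, 0, 1, 2],
  [0, 3, 0, 1, 0, 1, 0, 3, 0, 1, 0, 1, 0, 3, 3, 0],
  [2, 1, 0, 1, 0, 3, 3, 2, 3, 2, 3, 2, 3, 3, 2, 3, 3, 3, 3, 0, 1, 0, 1, 2],
  [3, 0, 3, 1, 0, 1, 0, 3, 2, 3, 2, 3, 3, 0, 1, 0, 1, 3, 3, 0, 3, 3],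
  [1, 0, 1, 0, 3, 3, 2, 3, 2, 3, 3, 3, 3, 0, 1, 0, 1],
  [3, 2, 0, 3, 1, 0, 1, 0, 3, 2, 3, 2, 3, 3, 0, 1, 0, 1, 3, 3, 0, 2, 3, 3],
  [1, 0, 1, 0, 3, 0, 1, 0, 1],
  [2, 1, 0, 3, 3, 2, 0, 1, 0, 1, 0, 3, 0, 1, 0, 1, 0, 2, 3, 3, 3, 3, 0, 1, 2],
  [0, 1, 0, 3, 2, 3, 2, 3, 2, 3, 3, 2, 3, 3, 0, 1, 0],
  [1, 0, 3, 3, 0, 1, 0, 1, 0, 3, 0, 1, 0, 1, 0, 3, 3, 3, 3, 0, 1],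
  [2, 0, 1, 0, 3, 1, 0, 1, 0, 3, 2, 3, 2, 3, 3, 0, 1, 0, 1, 3, 3, 0, 1, 0, 2],
  [0, 3, 0, 1, 0, 3, 3, 0, 1, 0, 1, 0, 3, 0, 1, 0, 1, 0, 3, 3, 3, 3, 0, 1, 0, 3, 3, 0],
  [3, 1, 0, 3, 1, 0, 1, 0, 3, 2, 3, 2, 3, 3, 0, 1, 0, 1, 3, 3, 0, 1, 3, 3],
  [1, 0, 3, 3, 2, 3, 0, 1, 0, 1, 0, 3, 0, 1, 0, 1, 0, 3, 3, 2, 3, 3, 3, 3, 0, 1],
  [1, 0, 3, 3, 2, 3, 2, 3, 3, 3, 3, 0, 1],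
  [1, 0, 3, 0, 1, 0, 3, 2, 3, 2, 3, 3, 0, 1, 0, 3, 3, 0, 1],
  [0, 3, 0, 1, 0, 3, 3, 2, 3, 2, 3, 3, 3, 3, 0, 1, 0, 3, 3, 0],
  [0, 1, 0, 3, 3, 2, 3, 2, 3, 3, 3, 3, 0, 1, 0],
  [2, 1, 0, 3, 3, 0, 1, 0, 1, 0, 3, 0, 1, 0, 1, 0, 3, 3, 3, 3, 0, 1, 2],
  [1, 0, 3, 3, 2, 0, 1, 0, 1, 0, 3, 0, 1, 0, 1, 0, 2, 3, 3, 3, 3, 0, 1],
  [0, 1, 0, 3, 1, 0, 1, 0, 3, 2, 3, 2, 3, 3, 0, 1, 0, 1, 3, 3, 0, 1, 0],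
  [0, 3, 3, 1, 0, 3, 1, 0, 1, 0, 3, 2, 3, 2, 3, 3, 0, 1, 0, 1, 3, 3, 0, 1, 3, 3, 3, 3, 0],
  [0, 1, 0, 3, 3, 0, 1, 0, 1, 0, 3, 0, 1, 0, 1, 0, 3, 3, 3, 3, 0, 1, 0],
  [1, 0, 3, 2, 3, 2, 3, 2, 3, 3, 2, 3, 3, 0, 1],
  [2, 3, 1, 0, 3, 1, 0, 1, 0, 3, 2, 3, 2, 3, 3, 0, 1, 0, 1, 3, 3, 0, 1, 3, 3, 2],
  [2, 1, 0, 3, 0, 1, 0, 3, 2, 3, 2, 3, 3, 0, 1, 0, 3, 3, 0, 1, 2],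
  [2, 0, 3, 0, 1, 0, 3, 3, 2, 3, 2, 3, 3, 3, 3, 0, 1, 0, 3, 3, 0, 2],
  [1, 0, 3, 1, 0, 3, 0, 1, 0, 1, 0, 3, 0, 1, 0, 1, 0, 3, 3, 0, 1, 3, 3, 0, 1],
  [1, 0, 3, 2, 0, 1, 0, 3, 2, 3, 2, 3, 3, 0, 1, 0, 2, 3, 3, 0, 1],
  [0, 1, 0, 3, 2, 1, 0, 1, 0, 3, 2, 3, 2, 3, 3, 0, 1, 0, 1, 2, 3, 3, 0, 1, 0],
  [0, 3, 1, 0, 3, 1, 0, 1, 0, 3, 0, 1, 0, 1, 3, 3, 0, 1, 3, 3, 0],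
  [0, 3, 2, 3, 0, 1, 0, 3, 2, 3, 2, 3, 2, 3, 3, 2, 3, 3, 0, 1, 0, 3, 3, 2, 3, 3, 0],
  [0, 3, 1, 0, 3, 3, 0, 1, 0, 1, 0, 3, 0, 1, 0, 1, 0, 3, 3, 3, 3, 0, 1, 3, 3, 0],
  [0, 3, 0, 1, 0, 3, 2, 3, 2, 3, 2, 3, 3, 2, 3, 3, 0, 1, 0, 3, 3, 0],
  [0, 1, 0, 3, 1, 0, 1, 0, 3, 3, 2, 3, 2, 3, 3, 3, 3, 0, 1, 0, 1, 3, 3, 0, 1, 0],
  [2, 0, 3, 0, 1, 0, 3, 2, 3, 2, 3, 2, 3, 3, 2, 3, 3, 0, 1, 0, 3, 3, 0, 2],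
  [1, 0, 3, 0, 1, 0, 3, 0, 1, 0, 3, 3, 0, 1],
  [2, 0, 1, 0, 3, 3, 2, 3, 2, 3, 2, 3, 3, 2, 3, 3, 3, 3, 0, 1, 0, 2],
  [1, 0, 3, 3, 2, 3, 2, 3, 2, 3, 3, 2, 3, 3, 3, 3, 0, 1],
  [0, 1, 0, 3, 3, 2, 3, 2, 3, 2, 3, 3, 2, 3, 3, 3, 3, 0, 1, 0],
  [2, 1, 0, 3, 3, 2, 3, 2, 3, 2, 3, 3, 2, 3, 3, 3, 3, 0, 1, 2],
  [1, 0, 3, 2, 3, 0, 1, 0, 3, 2, 3, 2, 3, 3, 0, 1, 0, 3, 3, 2, 3, 3, 0, 1],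
  [0, 3, 2, 0, 1, 0, 3, 3, 2, 3, 2, 3, 2, 3, 3, 2, 3, 3, 3, 3, 0, 1, 0, 2, 3, 3, 0],
  [0, 1, 0, 3, 0, 1, 0],
  [0, 1, 0, 3, 2, 0, 1, 0, 1, 0, 3, 0, 1, 0, 1, 0, 2, 3, 3, 0, 1, 0],
  [0, 1, 0, 3, 2, 3, 2, 3, 3, 0, 1, 0],
  [0, 1, 0, 3, 0, 1, 0, 1, 0, 3, 0, 1, 0, 1, 0, 3, 3, 0, 1, 0],
  [0, 3, 3, 1, 0, 3, 0, 1, 0, 1, 0, 3, 0, 1, 0, 1, 0, 3, 3, 0, 1, 3, 3, 3, 3, 0],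
  [0, 3, 1, 0, 3, 0, 1, 0, 1, 0, 3, 0, 1, 0, 1, 0, 3, 3, 0, 1, 3, 3, 0],
  [2, 1, 0, 3, 0, 1, 2],
  [2, 1, 0, 3, 2, 0, 1, 0, 1, 0, 3, 0, 1, 0, 1, 0, 2, 3, 3, 0, 1, 2],
  [2, 1, 0, 3, 0, 1, 0, 1, 0, 3, 0, 1, 0, 1, 0, 3, 3, 0, 1, 2],
  [2, 1, 0, 3, 2, 3, 2, 3, 3, 0, 1, 2],
  [0, 3, 3, 2, 0, 1, 0, 3, 2, 3, 2, 3, 3, 0, 1, 0, 2, 3, 3, 3, 3, 0],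
  [0, 3, 2, 0, 1, 0, 3, 2, 3, 2, 3, 3, 0, 1, 0, 2, 3, 3, 0],
  [2, 0, 1, 0, 3, 0, 1, 0, 2],
  [2, 0, 1, 0, 3, 2, 3, 2, 3, 3, 0, 1, 0, 2],
  [2, 0, 1, 0, 3, 0, 1, 0, 1, 0, 3, 0, 1, 0, 1, 0, 3, 3, 0, 1, 0, 2],
  [2, 0, 1, 0, 3, 2, 0, 1, 0, 1, 0, 3, 0, 1, 0, 1, 0, 2, 3, 3, 0, 1, 0, 2],
  [0, 1, 0, 3, 3, 1, 0, 1, 0, 3, 2, 3, 2, 3, 3, 0, 1, 0, 1, 3, 3, 3, 3, 0, 1, 0],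
  [2, 0, 3, 1, 0, 3, 0, 1, 0, 1, 0, 3, 0, 1, 0, 1, 0, 3, 3, 0, 1, 3, 3, 0, 2],
  [1, 0, 3, 0, 1],
  [1, 0, 3, 0, 1, 0, 1, 0, 3, 0, 1, 0, 1, 0, 3, 3, 0, 1],
  [1, 0, 3, 2, 3, 2, 3, 3, 0, 1],
  [1, 0, 3, 2, 0, 1, 0, 1, 0, 3, 0, 1, 0, 1, 0, 2, 3, 3, 0, 1],
  [2, 0, 3, 3, 2, 0, 1, 0, 3, 2, 3, 2, 3, 3, 0, 1, 0, 2, 3, 3, 3, 3, 0, 2],
  [2, 0, 3, 2, 0, 1, 0, 3, 2, 3, 2, 3, 3, 0, 1, 0, 2, 3, 3, 0, 2],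
  [0, 3, 3, 0, 1, 0, 3, 0, 1, 0, 3, 3, 3, 3, 0],
  [0, 3, 3, 0, 1, 0, 3, 0, 1, 0, 1, 0, 3, 0, 1, 0, 1, 0, 3, 3, 0, 1, 0, 3, 3, 3, 3, 0],
  [0, 3, 3, 0, 1, 0, 3, 2, 3, 2, 3, 3, 0, 1, 0, 3, 3, 3, 3, 0],
  [0, 1, 0, 3, 3, 2, 1, 0, 1, 0, 3, 2, 3, 2, 3, 3, 0, 1, 0, 1, 2, 3, 3, 3, 3, 0, 1, 0],
  [2, 0, 3, 3, 0, 1, 0, 3, 2, 3, 2, 3, 3, 0, 1, 0, 3, 3, 3, 3, 0, 2],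
  [0, 3, 2, 3, 0, 1, 0, 3, 2, 3, 2, 3, 3, 0, 1, 0, 3, 3, 2, 3, 3, 0],
  [0, 3, 0, 1, 0, 3, 0, 1, 0, 3, 3, 0],
  [0, 3, 0, 1, 0, 3, 0, 1, 0, 1, 0, 3, 0, 1, 0, 1, 0, 3, 3, 0, 1, 0, 3, 3, 0],
  [0, 3, 0, 1, 0, 3, 2, 3, 2, 3, 3, 0, 1, 0, 3, 3, 0],
  [1, 0, 1, 0, 3, 1, 0, 1, 0, 3, 2, 3, 2, 3, 3, 0, 1, 0, 1, 3, 3, 0, 1, 0, 1],
  [2, 0, 3, 0, 1, 0, 3, 2, 3, 2, 3, 3, 0, 1, 0, 3, 3, 0, 2],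
  [1, 0, 3, 3, 0, 1, 0, 3, 0, 1, 0, 3, 3, 3, 3, 0, 1],
  [1, 0, 3, 2, 3, 1, 0, 1, 0, 3, 2, 3, 2, 3, 3, 0, 1, 0, 1, 3, 3, 2, 3, 3, 0, 1],
  [2, 3, 3, 2, 0, 1, 0, 3, 2, 3, 2, 3, 3, 0, 1, 0, 2, 3, 3, 3, 3, 2],
  [1, 0, 3, 3, 1, 0, 1, 0, 3, 2, 3, 2, 3, 3, 0, 1, 0, 1, 3, 3, 3, 3, 0, 1],
  [3, 3, 2, 0, 1, 0, 3, 2, 3, 2, 3, 3, 0, 1, 0, 2, 3, 3, 3, 3],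
  [3, 3, 1, 0, 3, 0, 1, 0, 1, 0, 3, 0, 1, 0, 1, 0, 3, 3, 0, 1, 3, 3, 3, 3],
  [3, 3, 0, 3, 3, 0, 1, 0, 3, 0, 1, 0, 1, 0, 3, 0, 1, 0, 1, 0, 3, 3, 0, 1, 0, 3, 3, 3, 3, 0, 3, 3, 3, 3],
  [3, 3, 0, 3, 0, 1, 0, 3, 0, 1, 0, 1, 0, 3, 0, 1, 0, 1, 0, 3, 3, 0, 1, 0, 3, 3, 0, 3, 3, 3, 3],
  [3, 3, 0, 1, 0, 3, 0, 1, 0, 3, 3, 3, 3],
  [2, 3, 3, 0, 1, 0, 3, 3, 2, 3, 2, 3, 3, 3, 3, 0, 1, 0, 3, 3, 3, 3, 2],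
  [1, 0, 3, 1, 0, 1, 0, 3, 2, 3, 2, 3, 3, 0, 1, 0, 1, 3, 3, 0, 1],
  [3, 3, 0, 1, 0, 3, 3, 2, 3, 2, 3, 3, 3, 3, 0, 1, 0, 3, 3, 3, 3],
  [2, 1, 0, 3, 1, 0, 1, 0, 3, 2, 3, 2, 3, 3, 0, 1, 0, 1, 3, 3, 0, 1, 2],
  [3, 3, 1, 0, 3, 1, 0, 3, 0, 1, 0, 1, 0, 3, 0, 1, 0, 1, 0, 3, 3, 0, 1, 3, 3, 0, 1, 3, 3, 3, 3],
  [3, 3, 0, 3, 1, 0, 3, 3, 0, 1, 0, 1, 0, 3, 0, 1, 0, 1, 0, 3, 3, 3, 3, 0, 1, 3, 3, 0, 3, 3, 3, 3],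
  [2, 3, 3, 0, 1, 0, 3, 2, 3, 2, 3, 3, 0, 1, 0, 3, 3, 3, 3, 2],
  [3, 1, 0, 3, 1, 0, 1, 0, 3, 0, 1, 0, 1, 3, 3, 0, 1, 3, 3],
  [3, 2, 0, 1, 0, 1, 0, 3, 0, 1, 0, 1, 0, 2, 3, 3],
  [3, 2, 3, 2, 3, 3],
  [3, 0, 1, 0, 1, 0, 3, 0, 1, 0, 1, 0, 3, 3],
  [3, 0, 3, 3, 1, 0, 1, 0, 3, 0, 1, 0, 1, 3, 3, 3, 3, 0, 3, 3],
  [3, 0, 3, 1, 0, 1, 0, 3, 0, 1, 0, 1, 3, 3, 0, 3, 3],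
  [1, 0, 3, 3, 2, 1, 0, 1, 0, 3, 2, 3, 2, 3, 3, 0, 1, 0, 1, 2, 3, 3, 3, 3, 0, 1],
  [1, 0, 3, 2, 1, 0, 1, 0, 3, 2, 3, 2, 3, 3, 0, 1, 0, 1, 2, 3, 3, 0, 1],
  [2, 3, 2, 3, 3, 2, 0, 1, 0, 1, 0, 3, 0, 1, 0, 1, 0, 2, 3, 3, 3, 3, 2, 3, 3, 2],
  [3, 2, 3, 3, 0, 1, 0, 1, 0, 3, 0, 1, 0, 1, 0, 3, 3, 3, 3, 2, 3, 3],
  [2, 0, 1, 0, 1, 0, 3, 2, 3, 2, 3, 3, 0, 1, 0, 1, 0, 2],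
  [0, 3, 3, 2, 1, 0, 1, 0, 3, 2, 3, 2, 3, 3, 0, 1, 0, 1, 2, 3, 3, 3, 3, 0],
  [0, 3, 2, 1, 0, 1, 0, 3, 2, 3, 2, 3, 3, 0, 1, 0, 1, 2, 3, 3, 0],
  [3, 3, 0, 1, 0, 3, 2, 3, 2, 3, 3, 0, 1, 0, 3, 3, 3, 3],
  [2, 3, 1, 0, 3, 1, 0, 1, 0, 3, 0, 1, 0, 1, 3, 3, 0, 1, 3, 3, 2],
  [2, 3, 2, 3, 2, 3, 3, 2],
  [2, 3, 0, 1, 0, 1, 0, 3, 0, 1, 0, 1, 0, 3, 3, 2],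
  [2, 3, 2, 0, 1, 0, 1, 0, 3, 0, 1, 0, 1, 0, 2, 3, 3, 2],
  [3, 3, 1, 0, 1, 0, 3, 2, 3, 2, 3, 3, 0, 1, 0, 1, 3, 3, 3, 3],
  [2, 3, 0, 3, 1, 0, 1, 0, 3, 0, 1, 0, 1, 3, 3, 0, 3, 3, 2],
  [3, 3, 0, 1, 0, 3, 0, 1, 0, 1, 0, 3, 0, 1, 0, 1, 0, 3, 3, 0, 1, 0, 3, 3, 3, 3],
  [3, 3, 1, 0, 3, 3, 0, 1, 0, 1, 0, 3, 0, 1, 0, 1, 0, 3, 3, 3, 3, 0, 1, 3, 3, 3, 3],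
  [2, 3, 2, 3, 3, 0, 1, 0, 1, 0, 3, 0, 1, 0, 1, 0, 3, 3, 3, 3, 2, 3, 3, 2],
  [0, 1, 0, 1, 0, 3, 2, 3, 2, 3, 3, 0, 1, 0, 1, 0],
  [3, 2, 3, 3, 2, 0, 1, 0, 1, 0, 3, 0, 1, 0, 1, 0, 2, 3, 3, 3, 3, 2, 3, 3],
  [2, 0, 3, 3, 2, 1, 0, 1, 0, 3, 2, 3, 2, 3, 3, 0, 1, 0, 1, 2, 3, 3, 3, 3, 0, 2],
  [3, 3, 0, 3, 3, 0, 1, 0, 1, 0, 3, 0, 1, 0, 1, 0, 3, 3, 3, 3, 0, 3, 3, 3, 3],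
  [3, 3, 0, 3, 3, 1, 0, 3, 0, 1, 0, 1, 0, 3, 0, 1, 0, 1, 0, 3, 3, 0, 1, 3, 3, 3, 3, 0, 3, 3, 3, 3],
  [3, 3, 2, 0, 1, 0, 3, 1, 0, 1, 0, 3, 2, 3, 2, 3, 3, 0, 1, 0, 1, 3, 3, 0, 1, 0, 2, 3, 3, 3, 3],
  [2, 3, 3, 2, 1, 0, 1, 0, 3, 2, 3, 2, 3, 3, 0, 1, 0, 1, 2, 3, 3, 3, 3, 2],
  [0, 3, 3, 1, 0, 1, 0, 3, 2, 3, 2, 3, 3, 0, 1, 0, 1, 3, 3, 3, 3, 0],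
  [3, 3, 2, 1, 0, 1, 0, 3, 2, 3, 2, 3, 3, 0, 1, 0, 1, 2, 3, 3, 3, 3],
  [3, 3, 0, 3, 0, 1, 0, 1, 0, 3, 0, 1, 0, 1, 0, 3, 3, 0, 3, 3, 3, 3],
  [0, 3, 2, 3, 1, 0, 1, 0, 3, 2, 3, 2, 3, 3, 0, 1, 0, 1, 3, 3, 2, 3, 3, 0],
  [3, 3, 0, 3, 1, 0, 3, 0, 1, 0, 1, 0, 3, 0, 1, 0, 1, 0, 3, 3, 0, 1, 3, 3, 0, 3, 3, 3, 3],
  [0, 3, 1, 0, 3, 1, 0, 3, 0, 1, 0, 1, 0, 3, 0, 1, 0, 1, 0, 3, 3, 0, 1, 3, 3, 0, 1, 3, 3, 0],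
  [2, 3, 3, 1, 0, 1, 0, 3, 3, 2, 3, 2, 3, 3, 3, 3, 0, 1, 0, 1, 3, 3, 3, 3, 2],
  [0, 3, 1, 0, 1, 0, 3, 2, 3, 2, 3, 3, 0, 1, 0, 1, 3, 3, 0],
  [3, 3, 1, 0, 1, 0, 3, 3, 2, 3, 2, 3, 3, 3, 3, 0, 1, 0, 1, 3, 3, 3, 3],
  [2, 0, 3, 1, 0, 1, 0, 3, 2, 3, 2, 3, 3, 0, 1, 0, 1, 3, 3, 0, 2],
  [3, 3, 1, 0, 1, 0, 3, 0, 1, 0, 1, 3, 3, 3, 3],
  [1, 0, 3, 3, 1, 0, 1, 0, 3, 0, 1, 0, 1, 3, 3, 3, 3, 0, 1],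
  [1, 0, 3, 1, 0, 1, 0, 3, 0, 1, 0, 1, 3, 3, 0, 1],
  [3],
  [2, 0, 1, 0, 1, 0, 3, 0, 1, 0, 1, 0, 2],
  [2, 3, 2],
  [0, 1, 0, 1, 0, 3, 0, 1, 0, 1, 0],
  [0, 3, 3, 1, 0, 1, 0, 3, 0, 1, 0, 1, 3, 3, 3, 3, 0],
  [0, 3, 1, 0, 1, 0, 3, 0, 1, 0, 1, 3, 3, 0],
  [3, 2, 3, 0, 1, 0, 3, 2, 3, 2, 3, 3, 0, 1, 0, 3, 3, 2, 3, 3],
  [3, 2, 0, 1, 0, 3, 3, 2, 3, 2, 3, 2, 3, 3, 2, 3, 3, 3, 3, 0, 1, 0, 2, 3, 3],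
  [2, 3, 2, 0, 1, 0, 3, 2, 3, 2, 3, 3, 0, 1, 0, 2, 3, 3, 2],
  [2, 3, 1, 0, 3, 0, 1, 0, 1, 0, 3, 0, 1, 0, 1, 0, 3, 3, 0, 1, 3, 3, 2],
  [3, 2, 0, 1, 0, 3, 2, 3, 2, 3, 3, 0, 1, 0, 2, 3, 3],
  [3, 1, 0, 3, 0, 1, 0, 1, 0, 3, 0, 1, 0, 1, 0, 3, 3, 0, 1, 3, 3],
  [3, 0, 3, 3, 0, 1, 0, 3, 0, 1, 0, 1, 0, 3, 0, 1, 0, 1, 0, 3, 3, 0, 1, 0, 3, 3, 3, 3, 0, 3, 3],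
  [3, 0, 3, 0, 1, 0, 3, 0, 1, 0, 1, 0, 3, 0, 1, 0, 1, 0, 3, 3, 0, 1, 0, 3, 3, 0, 3, 3],
  [3, 2, 3, 0, 1, 0, 3, 2, 3, 2, 3, 2, 3, 3, 2, 3, 3, 0, 1, 0, 3, 3, 2, 3, 3],
  [3, 0, 1, 0, 3, 0, 1, 0, 3, 3],
  [2, 3, 0, 1, 0, 3, 3, 2, 3, 2, 3, 3, 3, 3, 0, 1, 0, 3, 3, 2],
  [3, 3, 1, 0, 3, 1, 0, 1, 0, 3, 2, 3, 2, 3, 3, 0, 1, 0, 1, 3, 3, 0, 1, 3, 3, 3, 3],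
  [3, 0, 1, 0, 3, 3, 2, 3, 2, 3, 3, 3, 3, 0, 1, 0, 3, 3],
  [3, 0, 1, 0, 3, 3, 0, 1, 0, 1, 0, 3, 0, 1, 0, 1, 0, 3, 3, 3, 3, 0, 1, 0, 3, 3],
  [3, 1, 0, 3, 1, 0, 3, 0, 1, 0, 1, 0, 3, 0, 1, 0, 1, 0, 3, 3, 0, 1, 3, 3, 0, 1, 3, 3],
  [3, 0, 3, 1, 0, 3, 3, 0, 1, 0, 1, 0, 3, 0, 1, 0, 1, 0, 3, 3, 3, 3, 0, 1, 3, 3, 0, 3, 3],
  [2, 3, 3, 2, 3, 2, 3, 2, 3, 3, 2, 3, 3, 3, 3, 2],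
  [2, 3, 0, 1, 0, 3, 2, 3, 2, 3, 3, 0, 1, 0, 3, 3, 2],
  [2, 3, 0, 1, 0, 3, 2, 3, 2, 3, 2, 3, 3, 2, 3, 3, 0, 1, 0, 3, 3, 2],
  [2, 3, 3, 2, 3, 2, 0, 1, 0, 1, 0, 3, 0, 1, 0, 1, 0, 2, 3, 3, 2, 3, 3, 3, 3, 2],
  [3, 2, 3, 2, 3, 2, 3, 3, 2, 3, 3],
  [2, 3, 3, 2, 3, 0, 1, 0, 1, 0, 3, 0, 1, 0, 1, 0, 3, 3, 2, 3, 3, 3, 3, 2],
  [2, 3, 1, 0, 1, 0, 3, 2, 3, 2, 3, 3, 0, 1, 0, 1, 3, 3, 2],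
  [2, 3, 1, 0, 1, 0, 3, 2, 3, 2, 3, 2, 3, 3, 2, 3, 3, 0, 1, 0, 1, 3, 3, 2],
  [0, 1, 0, 1, 0, 3, 3, 2, 3, 2, 3, 2, 3, 3, 2, 3, 3, 3, 3, 0, 1, 0, 1, 0],
  [3, 0, 1, 0, 3, 2, 0, 1, 0, 1, 0, 3, 0, 1, 0, 1, 0, 2, 3, 3, 0, 1, 0, 3, 3],
  [1, 0, 3, 1, 0, 1, 0, 3, 3, 2, 3, 2, 3, 3, 3, 3, 0, 1, 0, 1, 3, 3, 0, 1],
  [3, 3, 2, 0, 1, 0, 1, 0, 3, 0, 1, 0, 1, 0, 2, 3, 3, 3, 3],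
  [2, 3, 3, 0, 1, 0, 1, 0, 3, 0, 1, 0, 1, 0, 3, 3, 3, 3, 2],
  [0, 1, 0, 1, 0, 3, 3, 2, 3, 2, 3, 3, 3, 3, 0, 1, 0, 1, 0],
  [0, 3, 3, 1, 0, 1, 0, 3, 3, 2, 3, 2, 3, 3, 3, 3, 0, 1, 0, 1, 3, 3, 3, 3, 0],
  [0, 3, 1, 0, 1, 0, 3, 3, 2, 3, 2, 3, 3, 3, 3, 0, 1, 0, 1, 3, 3, 0],
  [3, 3, 2, 3, 2, 3, 2, 3, 3, 2, 3, 3, 3, 3],
  [3, 0, 1, 0, 3, 2, 3, 2, 3, 3, 0, 1, 0, 3, 3],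
  [3, 0, 1, 0, 3, 2, 3, 2, 3, 2, 3, 3, 2, 3, 3, 0, 1, 0, 3, 3],
  [3, 3, 2, 3, 2, 3, 3, 3, 3],
  [3, 3, 2, 3, 0, 1, 0, 1, 0, 3, 0, 1, 0, 1, 0, 3, 3, 2, 3, 3, 3, 3],
  [3, 3, 2, 3, 2, 0, 1, 0, 1, 0, 3, 0, 1, 0, 1, 0, 2, 3, 3, 2, 3, 3, 3, 3],
  [3, 1, 0, 1, 0, 3, 2, 3, 2, 3, 3, 0, 1, 0, 1, 3, 3],
  [3, 1, 0, 1, 0, 3, 2, 3, 2, 3, 2, 3, 3, 2, 3, 3, 0, 1, 0, 1, 3, 3],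
  [3, 2, 3, 3, 2, 3, 0, 1, 0, 1, 0, 3, 0, 1, 0, 1, 0, 3, 3, 2, 3, 3, 3, 3, 2, 3, 3],
  [3, 0, 1, 0, 3, 0, 1, 0, 1, 0, 3, 0, 1, 0, 1, 0, 3, 3, 0, 1, 0, 3, 3],
  [3, 1, 0, 3, 3, 0, 1, 0, 1, 0, 3, 0, 1, 0, 1, 0, 3, 3, 3, 3, 0, 1, 3, 3],
  [3, 3, 0, 1, 0, 1, 0, 3, 0, 1, 0, 1, 0, 3, 3, 3, 3],
  [3, 3, 0, 1, 0, 1, 0, 3, 2, 3, 2, 3, 3, 0, 1, 0, 1, 0, 3, 3, 3, 3],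
  [2, 3, 3, 2, 0, 1, 0, 1, 0, 3, 0, 1, 0, 1, 0, 2, 3, 3, 3, 3, 2],
  [3, 1, 0, 1, 0, 3, 0, 1, 0, 1, 0, 3, 0, 1, 0, 1, 0, 3, 3, 0, 1, 0, 1, 3, 3],
  [3, 0, 3, 3, 0, 1, 0, 1, 0, 3, 0, 1, 0, 1, 0, 3, 3, 3, 3, 0, 3, 3],
  [3, 2, 3, 1, 0, 1, 0, 3, 2, 3, 2, 3, 3, 0, 1, 0, 1, 3, 3, 2, 3, 3],
  [3, 0, 3, 3, 1, 0, 3, 0, 1, 0, 1, 0, 3, 0, 1, 0, 1, 0, 3, 3, 0, 1, 3, 3, 3, 3, 0, 3, 3],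
  [3, 2, 0, 1, 0, 3, 1, 0, 1, 0, 3, 2, 3, 2, 3, 3, 0, 1, 0, 1, 3, 3, 0, 1, 0, 2, 3, 3],
  [3, 3, 0, 3, 3, 1, 0, 1, 0, 3, 0, 1, 0, 1, 3, 3, 3, 3, 0, 3, 3, 3, 3],
  [2, 3, 0, 3, 0, 1, 0, 1, 0, 3, 0, 1, 0, 1, 0, 3, 3, 0, 3, 3, 2],
  [3, 2, 1, 0, 1, 0, 3, 2, 3, 2, 3, 3, 0, 1, 0, 1, 2, 3, 3],
  [3, 0, 3, 0, 1, 0, 1, 0, 3, 0, 1, 0, 1, 0, 3, 3, 0, 3, 3],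
  [3, 2, 1, 0, 1, 0, 3, 3, 2, 3, 2, 3, 2, 3, 3, 2, 3, 3, 3, 3, 0, 1, 0, 1, 2, 3, 3],
  [3, 2, 3, 1, 0, 1, 0, 3, 2, 3, 2, 3, 2, 3, 3, 2, 3, 3, 0, 1, 0, 1, 3, 3, 2, 3, 3],
  [3, 0, 3, 1, 0, 3, 0, 1, 0, 1, 0, 3, 0, 1, 0, 1, 0, 3, 3, 0, 1, 3, 3, 0, 3, 3],
  [3, 0, 3, 0, 1, 0, 3, 3, 0, 1, 0, 1, 0, 3, 0, 1, 0, 1, 0, 3, 3, 3, 3, 0, 1, 0, 3, 3, 0, 3, 3],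
  [3, 3, 0, 3, 1, 0, 1, 0, 3, 0, 1, 0, 1, 3, 3, 0, 3, 3, 3, 3],
  [3, 3, 0, 3, 1, 0, 1, 0, 3, 2, 3, 2, 3, 3, 0, 1, 0, 1, 3, 3, 0, 3, 3, 3, 3],
  [3, 1, 0, 1, 0, 3, 3, 2, 3, 2, 3, 3, 3, 3, 0, 1, 0, 1, 3, 3],
  [3, 3, 2, 0, 3, 1, 0, 1, 0, 3, 2, 3, 2, 3, 3, 0, 1, 0, 1, 3, 3, 0, 2, 3, 3, 3, 3],
  [3, 1, 0, 1, 0, 3, 0, 1, 0, 1, 3, 3]]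

/-- Their positions. -/
def stabIdx : List (List ℕ) := [
  [0, 0, 0, 0, 0, 0, 0, 0, 0, 0, 0, 0],
  [0, 0, 168, 169, 0, 0, 170, 171, 172, 173, 174, 175],
  [0, 176, 0, 177, 0, 0, 178, 179, 180, 181, 182, 183],
  [0, 184, 185, 0, 0, 0, 186, 187, 188, 189, 190, 191],
  [0, 0, 0, 0, 0, 0, 0, 0, 0, 0, 0, 0],
  [0, 0, 0, 0, 0, 0, 0, 0, 0, 0, 0, 0],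
  [0, 192, 193, 194, 0, 0, 0, 195, 196, 197, 198, 199],
  [0, 200, 201, 202, 0, 0, 203, 0, 204, 205, 206, 207],
  [0, 208, 209, 210, 0, 0, 211, 212, 0, 213, 214, 215],
  [0, 216, 217, 218, 0, 0, 219, 220, 221, 0, 222, 223],
  [0, 224, 225, 226, 0, 0, 227, 228, 229, 230, 0, 231],
  [0, 232, 233, 234, 0, 0, 235, 236, 237, 238, 239, 0],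
  [0, 0, 176, 184, 0, 0, 192, 200, 208, 216, 224, 232],
  [0, 0, 0, 0, 0, 0, 0, 0, 0, 0, 0, 0],
  [168, 0, 0, 112, 0, 0, 113, 114, 115, 116, 117, 118],
  [169, 0, 119, 0, 0, 0, 120, 121, 122, 123, 124, 125],
  [0, 0, 0, 0, 0, 0, 0, 0, 0, 0, 0, 0],
  [0, 0, 0, 0, 0, 0, 0, 0, 0, 0, 0, 0],
  [170, 0, 126, 127, 0, 0, 0, 128, 129, 130, 131, 132],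
  [171, 0, 133, 134, 0, 0, 135, 0, 136, 137, 138, 139],
  [172, 0, 140, 141, 0, 0, 142, 143, 0, 144, 145, 146],
  [173, 0, 147, 148, 0, 0, 149, 150, 151, 0, 152, 153],
  [174, 0, 154, 155, 0, 0, 156, 157, 158, 159, 0, 160],
  [175, 0, 161, 162, 0, 0, 163, 164, 165, 166, 167, 0],
  [0, 168, 0, 185, 0, 0, 193, 201, 209, 217, 225, 233],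
  [176, 0, 0, 119, 0, 0, 126, 133, 140, 147, 154, 161],
  [0, 0, 0, 0, 0, 0, 0, 0, 0, 0, 0, 0],
  [177, 112, 0, 0, 0, 0, 70, 71, 72, 73, 74, 75],
  [0, 0, 0, 0, 0, 0, 0, 0, 0, 0, 0, 0],
  [0, 0, 0, 0, 0, 0, 0, 0, 0, 0, 0, 0],
  [178, 113, 0, 76, 0, 0, 0, 77, 78, 79, 80, 81],
  [179, 114, 0, 82, 0, 0, 83, 0, 84, 85, 86, 87],
  [180, 115, 0, 88, 0, 0, 89, 90, 0, 91, 92, 93],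
  [181, 116, 0, 94, 0, 0, 95, 96, 97, 0, 98, 99],
  [182, 117, 0, 100, 0, 0, 101, 102, 103, 104, 0, 105],
  [183, 118, 0, 106, 0, 0, 107, 108, 109, 110, 111, 0],
  [0, 169, 177, 0, 0, 0, 194, 202, 210, 218, 226, 234],
  [184, 0, 112, 0, 0, 0, 127, 134, 141, 148, 155, 162],
  [185, 119, 0, 0, 0, 0, 76, 82, 88, 94, 100, 106],
  [0, 0, 0, 0, 0, 0, 0, 0, 0, 0, 0, 0],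
  [0, 0, 0, 0, 0, 0, 0, 0, 0, 0, 0, 0],
  [0, 0, 0, 0, 0, 0, 0, 0, 0, 0, 0, 0],
  [186, 120, 70, 0, 0, 0, 0, 40, 41, 42, 43, 44],
  [187, 121, 71, 0, 0, 0, 45, 0, 46, 47, 48, 49],
  [188, 122, 72, 0, 0, 0, 50, 51, 0, 52, 53, 54],
  [189, 123, 73, 0, 0, 0, 55, 56, 57, 0, 58, 59],
  [190, 124, 74, 0, 0, 0, 60, 61, 62, 63, 0, 64],
  [191, 125, 75, 0, 0, 0, 65, 66, 67, 68, 69, 0],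
  [0, 0, 0, 0, 0, 0, 0, 0, 0, 0, 0, 0],
  [0, 0, 0, 0, 0, 0, 0, 0, 0, 0, 0, 0],
  [0, 0, 0, 0, 0, 0, 0, 0, 0, 0, 0, 0],
  [0, 0, 0, 0, 0, 0, 0, 0, 0, 0, 0, 0],
  [0, 0, 0, 0, 0, 0, 0, 0, 0, 0, 0, 0],
  [0, 0, 0, 0, 0, 0, 0, 0, 0, 0, 0, 0],
  [0, 0, 0, 0, 0, 0, 0, 0, 0, 0, 0, 0],
  [0, 0, 0, 0, 0, 0, 0, 0, 0, 0, 0, 0],
  [0, 0, 0, 0, 0, 0, 0, 0, 0, 0, 0, 0],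
  [0, 0, 0, 0, 0, 0, 0, 0, 0, 0, 0, 0],
  [0, 0, 0, 0, 0, 0, 0, 0, 0, 0, 0, 0],
  [0, 0, 0, 0, 0, 0, 0, 0, 0, 0, 0, 0],
  [0, 0, 0, 0, 0, 0, 0, 0, 0, 0, 0, 0],
  [0, 0, 0, 0, 0, 0, 0, 0, 0, 0, 0, 0],
  [0, 0, 0, 0, 0, 0, 0, 0, 0, 0, 0, 0],
  [0, 0, 0, 0, 0, 0, 0, 0, 0, 0, 0, 0],
  [0, 0, 0, 0, 0, 0, 0, 0, 0, 0, 0, 0],
  [0, 0, 0, 0, 0, 0, 0, 0, 0, 0, 0, 0],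
  [0, 0, 0, 0, 0, 0, 0, 0, 0, 0, 0, 0],
  [0, 0, 0, 0, 0, 0, 0, 0, 0, 0, 0, 0],
  [0, 0, 0, 0, 0, 0, 0, 0, 0, 0, 0, 0],
  [0, 0, 0, 0, 0, 0, 0, 0, 0, 0, 0, 0],
  [0, 0, 0, 0, 0, 0, 0, 0, 0, 0, 0, 0],
  [0, 0, 0, 0, 0, 0, 0, 0, 0, 0, 0, 0],
  [0, 170, 178, 186, 0, 0, 0, 203, 211, 219, 227, 235],
  [192, 0, 113, 120, 0, 0, 0, 135, 142, 149, 156, 163],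
  [193, 126, 0, 70, 0, 0, 0, 83, 89, 95, 101, 107],
  [194, 127, 76, 0, 0, 0, 0, 45, 50, 55, 60, 65],
  [0, 0, 0, 0, 0, 0, 0, 0, 0, 0, 0, 0],
  [0, 0, 0, 0, 0, 0, 0, 0, 0, 0, 0, 0],
  [0, 0, 0, 0, 0, 0, 0, 0, 0, 0, 0, 0],
  [195, 128, 77, 40, 0, 0, 0, 0, 20, 21, 22, 23],
  [196, 129, 78, 41, 0, 0, 0, 24, 0, 25, 26, 27],
  [197, 130, 79, 42, 0, 0, 0, 28, 29, 0, 30, 31],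
  [198, 131, 80, 43, 0, 0, 0, 32, 33, 34, 0, 35],
  [199, 132, 81, 44, 0, 0, 0, 36, 37, 38, 39, 0],
  [0, 171, 179, 187, 0, 0, 195, 0, 212, 220, 228, 236],
  [200, 0, 114, 121, 0, 0, 128, 0, 143, 150, 157, 164],
  [201, 133, 0, 71, 0, 0, 77, 0, 90, 96, 102, 108],
  [202, 134, 82, 0, 0, 0, 40, 0, 51, 56, 61, 66],
  [0, 0, 0, 0, 0, 0, 0, 0, 0, 0, 0, 0],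
  [0, 0, 0, 0, 0, 0, 0, 0, 0, 0, 0, 0],
  [203, 135, 83, 45, 0, 0, 0, 0, 24, 28, 32, 36],
  [0, 0, 0, 0, 0, 0, 0, 0, 0, 0, 0, 0],
  [204, 136, 84, 46, 0, 0, 20, 0, 0, 8, 9, 10],
  [205, 137, 85, 47, 0, 0, 21, 0, 11, 0, 12, 13],
  [206, 138, 86, 48, 0, 0, 22, 0, 14, 15, 0, 16],
  [207, 139, 87, 49, 0, 0, 23, 0, 17, 18, 19, 0],
  [0, 172, 180, 188, 0, 0, 196, 204, 0, 221, 229, 237],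
  [208, 0, 115, 122, 0, 0, 129, 136, 0, 151, 158, 165],
  [209, 140, 0, 72, 0, 0, 78, 84, 0, 97, 103, 109],
  [210, 141, 88, 0, 0, 0, 41, 46, 0, 57, 62, 67],
  [0, 0, 0, 0, 0, 0, 0, 0, 0, 0, 0, 0],
  [0, 0, 0, 0, 0, 0, 0, 0, 0, 0, 0, 0],
  [211, 142, 89, 50, 0, 0, 0, 20, 0, 29, 33, 37],
  [212, 143, 90, 51, 0, 0, 24, 0, 0, 11, 14, 17],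
  [0, 0, 0, 0, 0, 0, 0, 0, 0, 0, 0, 0],
  [213, 144, 91, 52, 0, 0, 25, 8, 0, 0, 2, 3],
  [214, 145, 92, 53, 0, 0, 26, 9, 0, 4, 0, 5],
  [215, 146, 93, 54, 0, 0, 27, 10, 0, 6, 7, 0],
  [0, 173, 181, 189, 0, 0, 197, 205, 213, 0, 230, 238],
  [216, 0, 116, 123, 0, 0, 130, 137, 144, 0, 159, 166],
  [217, 147, 0, 73, 0, 0, 79, 85, 91, 0, 104, 110],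
  [218, 148, 94, 0, 0, 0, 42, 47, 52, 0, 63, 68],
  [0, 0, 0, 0, 0, 0, 0, 0, 0, 0, 0, 0],
  [0, 0, 0, 0, 0, 0, 0, 0, 0, 0, 0, 0],
  [219, 149, 95, 55, 0, 0, 0, 21, 25, 0, 34, 38],
  [220, 150, 96, 56, 0, 0, 28, 0, 8, 0, 15, 18],
  [221, 151, 97, 57, 0, 0, 29, 11, 0, 0, 4, 6],
  [0, 0, 0, 0, 0, 0, 0, 0, 0, 0, 0, 0],
  [222, 152, 98, 58, 0, 0, 30, 12, 2, 0, 0, 0],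
  [223, 153, 99, 59, 0, 0, 31, 13, 3, 0, 1, 0],
  [0, 174, 182, 190, 0, 0, 198, 206, 214, 222, 0, 239],
  [224, 0, 117, 124, 0, 0, 131, 138, 145, 152, 0, 167],
  [225, 154, 0, 74, 0, 0, 80, 86, 92, 98, 0, 111],
  [226, 155, 100, 0, 0, 0, 43, 48, 53, 58, 0, 69],
  [0, 0, 0, 0, 0, 0, 0, 0, 0, 0, 0, 0],
  [0, 0, 0, 0, 0, 0, 0, 0, 0, 0, 0, 0],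
  [227, 156, 101, 60, 0, 0, 0, 22, 26, 30, 0, 39],
  [228, 157, 102, 61, 0, 0, 32, 0, 9, 12, 0, 19],
  [229, 158, 103, 62, 0, 0, 33, 14, 0, 2, 0, 7],
  [230, 159, 104, 63, 0, 0, 34, 15, 4, 0, 0, 1],
  [0, 0, 0, 0, 0, 0, 0, 0, 0, 0, 0, 0],
  [231, 160, 105, 64, 0, 0, 35, 16, 5, 0, 0, 0],
  [0, 175, 183, 191, 0, 0, 199, 207, 215, 223, 231, 0],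
  [232, 0, 118, 125, 0, 0, 132, 139, 146, 153, 160, 0],
  [233, 161, 0, 75, 0, 0, 81, 87, 93, 99, 105, 0],
  [234, 162, 106, 0, 0, 0, 44, 49, 54, 59, 64, 0],
  [0, 0, 0, 0, 0, 0, 0, 0, 0, 0, 0, 0],
  [0, 0, 0, 0, 0, 0, 0, 0, 0, 0, 0, 0],
  [235, 163, 107, 65, 0, 0, 0, 23, 27, 31, 35, 0],
  [236, 164, 108, 66, 0, 0, 36, 0, 10, 13, 16, 0],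
  [237, 165, 109, 67, 0, 0, 37, 17, 0, 3, 5, 0],
  [238, 166, 110, 68, 0, 0, 38, 18, 6, 0, 0, 0],
  [239, 167, 111, 69, 0, 0, 39, 19, 7, 1, 0, 0],
  [0, 0, 0, 0, 0, 0, 0, 0, 0, 0, 0, 0]]

end Cfsg.Agent.Fus.SymSix
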