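import Cfsg.Agent.Lib.Fus.SymSix.ListPerm
import Cfsg.Agent.Lib.Fus.SymSix.ThirteenData

/-!
# Generators of a two-point stabilizer in degree twelve
-/

set_option autoImplicit false
set_option maxRecDepth 100000
set_option Elab.async false

namespace Cfsg.Agent.Fus.SymSix

open Cfsg.Agent.Spor.Cos (force force_eq)

/-- The list of a three-cycle. -/
def cycL (a b c : ℕ) : List ℕ :=
  (List.range 12).map fun y => bif Nat.beq y a then b else bif Nat.beq y b then c else bif Nat.beq y c then a else y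

/-- The product along a word in the generators. -/
def stabList : List ℕ → List ℕ
  | [] => List.range 12
  | s :: w => force s fun s => lc (stabGens.getD s []) (stabList w)

/-- The check of one three-cycle. -/
def stabAt (a b c : ℕ) : Bool :=
  Nat.beq a b || Nat.beq a c || Nat.beq b c || Nat.beq a 4 || Nat.beq a 5 || Nat.beq b 4 || Nat.beq b 5 ||
    Nat.beq c 4 || Nat.beq c 5 ||
    (fun w : List ℕ => w.all (fun s => Nat.blt s stabGens.length) && leq (stabList w) (cycL a b c))
      (stabWords.getD ((stabIdx.getD (12 * a + b) []).getD c 0) [])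

theorem stab_all : ((List.range 12).all fun a => (List.range 12).all fun b => (List.range 12).all (stabAt a b)) = true := by
  decide +kernel

/-- The check of a product through the sixth point. -/
def viaAt (a b c : ℕ) : Bool :=
  Nat.beq a b || Nat.beq a c || Nat.beq b c || Nat.beq a 5 || Nat.beq b 5 || Nat.beq c 5 ||
    leq (lc (cycL 5 a b) (cycL 5 b c)) (cycL a b c)

theorem via_all : ((List.range 12).all fun a => (List.range 12).all fun b => (List.range 12).all (viaAt a b)) = true := by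
  decide +kernel

theorem cycL_rot : ((List.range 12).all fun a => (List.range 12).all fun b => (List.range 12).all fun c =>
    Nat.beq a b || Nat.beq a c || Nat.beq b c || leq (cycL a b c) (cycL b c a)) = true := by
  decide +kernel

/-- A three-cycle given by its three points. -/
theorem three_list {σ : Equiv.Perm (Fin 12)} (h : σ.IsThreeCycle) :
    ∃ a b c : Fin 12, a ≠ b ∧ a ≠ c ∧ b ≠ c ∧ σ a ≠ a ∧ σ b ≠ b ∧ σ c ≠ c ∧
      ∀ y : Fin 12, (σ y : ℕ) = (cycL a b c).getD y 0 := by
  obtain ⟨a, ha⟩ : σ.support.Nonempty := by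
    rw [← Finset.card_pos, Equiv.Perm.IsThreeCycle.card_support h]; norm_num
  have hfix := (Equiv.Perm.IsThreeCycle.support_eq_iff_mem_support h).2 ha
  have hnd := (Equiv.Perm.IsThreeCycle.nodup_iff_mem_support h).2 ha
  simp only [List.nodup_cons, List.mem_cons, List.not_mem_nil, or_false, not_or, not_false_eq_true,
    List.nodup_nil, and_true] at hnd
  obtain ⟨⟨hab, hac⟩, hbc⟩ := hnd
  refine ⟨a, σ a, σ (σ a), hab, hac, hbc, Equiv.Perm.mem_support.1 ha,
    fun e => hab (σ.injective e).symm, fun e => hbc (σ.injective e).symm, fun x => ?_⟩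
  rw [cycL, getD_map_range _ x.2]
  have h3 : σ (σ (σ a)) = a := by
    have h4 : (σ ^ 3) a = a := by rw [← h.orderOf, pow_orderOf_eq_one]; rfl
    simpa [pow_succ] using h4
  by_cases hxa : x = a
  · subst hxa; simp [Nat.beq_refl]
  rw [show Nat.beq (x : ℕ) a = false from Bool.eq_false_iff.2 fun e => hxa (Fin.ext (Nat.eq_of_beq_eq_true e)),
    cond_false]
  by_cases hxb : x = σ a
  · subst hxb; simp [Nat.beq_refl]
  rw [show Nat.beq (x : ℕ) (σ a : ℕ) = false from
    Bool.eq_false_iff.2 fun e => hxb (Fin.ext (Nat.eq_of_beq_eq_true e)), cond_false]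
  by_cases hxc : x = σ (σ a)
  · subst hxc; simp [Nat.beq_refl, h3]
  rw [show Nat.beq (x : ℕ) (σ (σ a) : ℕ) = false from
    Bool.eq_false_iff.2 fun e => hxc (Fin.ext (Nat.eq_of_beq_eq_true e)), cond_false]
  have hx : x ∉ σ.support := by rw [hfix]; simp [hxa, hxb, hxc]
  rw [Equiv.Perm.notMem_support.1 hx]

variable {K : Subgroup (alternatingGroup (Fin 12))}

theorem stabList_mem (hgen : ∀ s < stabGens.length, ∃ g ∈ K, PR g (stabGens.getD s [])) :
    ∀ w : List ℕ, (∀ s ∈ w, s < stabGens.length) → ∃ g ∈ K, PR g (stabList w)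
  | [], _ => ⟨1, one_mem _, fun y => by simp [stabList, List.getD_eq_getElem?_getD]⟩
  | s :: w, h => by
    obtain ⟨g, hg, hgl⟩ := hgen s (h s (List.mem_cons_self ..))
    obtain ⟨g', hg', hgl'⟩ := stabList_mem hgen w fun t ht => h t (List.mem_cons_of_mem _ ht)
    exact ⟨g * g', mul_mem hg hg', by rw [stabList, force_eq]; exact hgl.mul hgl'⟩

/-- The generators give all even permutations fixing the two points. -/
theorem stab_le (hgen : ∀ s < stabGens.length, ∃ g ∈ K, PR g (stabGens.getD s []))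
    {σ : alternatingGroup (Fin 12)} (h4 : σ.1 4 = 4) (h5 : σ.1 5 = 5) : σ ∈ K := by
  let p : Fin 12 → Prop := fun y => y ≠ 4 ∧ y ≠ 5
  let ι : Equiv.Perm {y // p y} →* Equiv.Perm (Fin 12) := Equiv.Perm.ofSubtype
  have hp : ∀ y, p (σ.1 y) ↔ p y := fun y => by
    show σ.1 y ≠ 4 ∧ σ.1 y ≠ 5 ↔ y ≠ 4 ∧ y ≠ 5
    constructor <;> rintro ⟨a, b⟩ <;> refine ⟨fun e => a ?_, fun e => b ?_⟩
    · rw [e, h4]
    · rw [e, h5]
    · exact σ.1.injective (e.trans h4.symm)
    · exact σ.1.injective (e.trans h5.symm)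
  have hσ : ι (σ.1.subtypePerm hp) = σ.1 :=
    Equiv.Perm.ofSubtype_subtypePerm hp fun y hy => by
      refine ⟨fun e => hy ?_, fun e => hy ?_⟩
      · rw [e, h4]
      · rw [e, h5]
  have key : Subgroup.closure {τ : Equiv.Perm {y // p y} | τ.IsThreeCycle} ≤
      (K.map (alternatingGroup (Fin 12)).subtype).comap ι := by
    refine (Subgroup.closure_le _).2 fun τ hτ => ?_
    have h3 : (ι τ).IsThreeCycle := by
      show (Equiv.Perm.ofSubtype τ).cycleType = {3}
      rw [Equiv.Perm.cycleType_ofSubtype]; exact hτ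
    have hout : ∀ y, ι τ y ≠ y → p y := fun y hy => by
      by_contra hn
      exact hy (Equiv.Perm.ofSubtype_apply_of_not_mem τ hn)
    obtain ⟨a, b, c, hab, hac, hbc, ma, mb, mc, hval⟩ := three_list h3
    have ha := hout a ma; have hb := hout b mb; have hc := hout c mc
    simp only [p, ne_eq, Fin.ext_iff, Fin.val_ofNat] at ha hb hc
    norm_num at ha hb hc
    have h := stab_all
    simp only [List.all_eq_true, List.mem_range, stabAt, Bool.or_eq_true, Bool.and_eq_true, Nat.beq_eq,
      Nat.blt_eq] at h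
    obtain ⟨hw, hl⟩ := (h a a.2 b b.2 c c.2).resolve_left (by
      simp only [Fin.val_inj, hab, hac, hbc, ha.1, ha.2, hb.1, hb.2, hc.1, hc.2, or_self, not_false_eq_true])
    obtain ⟨g, hg, hgl⟩ := stabList_mem hgen _ hw
    exact ⟨g, hg, Equiv.ext fun y => Fin.ext (by
      rw [hval y, ← Nat.eq_of_beq_eq_true (List.all_eq_true.1 hl y (List.mem_range.2 y.2))]; exact hgl y)⟩
  rw [Equiv.Perm.closure_three_cycles_eq_alternating] at key
  obtain ⟨g, hg, he⟩ := key (x := σ.1.subtypePerm hp) (by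
    rw [Equiv.Perm.mem_alternatingGroup, ← Equiv.Perm.sign_ofSubtype]
    show Equiv.Perm.sign (ι _) = 1
    rw [hσ]
    exact Equiv.Perm.mem_alternatingGroup.1 σ.2)
  rw [hσ] at he
  rwa [← Subtype.ext he]

/-- Three-cycles through the sixth point generate everything. -/
theorem top_of_five (h : ∀ p q : ℕ, p < 12 → q < 12 → p ≠ 5 → q ≠ 5 → p ≠ q → ∃ g ∈ K, PR g (cycL 5 p q)) :
    K = ⊤ := by
  suffices hle : alternatingGroup (Fin 12) ≤ K.map (alternatingGroup (Fin 12)).subtype by
    refine eq_top_iff.2 fun x _ => ?_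
    obtain ⟨y, hy, e⟩ := Subgroup.mem_map.1 (hle x.2)
    rwa [← Subtype.ext e]
  refine le_trans (le_of_eq Equiv.Perm.closure_three_cycles_eq_alternating.symm) ((Subgroup.closure_le _).2 ?_)
  intro σ hσ
  obtain ⟨a, b, c, hab, hac, hbc, -, -, -, hval⟩ := three_list hσ
  rw [← Fin.val_ne_iff] at hab hac hbc
  have hr := cycL_rot
  simp only [List.all_eq_true, List.mem_range, Bool.or_eq_true, Nat.beq_eq, leq] at hr
  have hex : ∃ g ∈ K, PR g (cycL a b c) := by
    by_cases ha : (a : ℕ) = 5
    · rw [ha]; exact h b c b.2 c.2 (by omega) (by omega) hbc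
    by_cases hb : (b : ℕ) = 5
    · obtain ⟨g, hg, hgl⟩ := h c a c.2 a.2 (by omega) (by omega) (Ne.symm hac)
      rw [← hb] at hgl
      refine ⟨g, hg, fun y => (hgl y).trans ?_⟩
      exact ((hr a a.2 b b.2 c c.2).resolve_left (by omega) y y.2).symm
    by_cases hc : (c : ℕ) = 5
    · obtain ⟨g, hg, hgl⟩ := h a b a.2 b.2 (by omega) (by omega) hab
      rw [← hc] at hgl
      refine ⟨g, hg, fun y => (hgl y).trans ?_⟩
      exact (hr c c.2 a a.2 b b.2).resolve_left (by omega) y y.2
    obtain ⟨g, hg, hgl⟩ := h a b a.2 b.2 ha hb hab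
    obtain ⟨g', hg', hgl'⟩ := h b c b.2 c.2 hb hc hbc
    refine ⟨g * g', mul_mem hg hg', fun y => ((hgl.mul hgl') y).trans ?_⟩
    have hv := via_all
    simp only [List.all_eq_true, List.mem_range, viaAt, Bool.or_eq_true, Nat.beq_eq, leq] at hv
    exact (hv a a.2 b b.2 c c.2).resolve_left (by omega) y y.2
  obtain ⟨g, hg, hgl⟩ := hex
  exact Subgroup.mem_map.2 ⟨g, hg, Equiv.ext fun y => Fin.ext (by rw [hval y]; exact hgl y)⟩

end Cfsg.Agent.Fus.SymSix
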