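import Cfsg.Agent.Lib.Fus.SymSix.Psi
import Cfsg.Agent.Lib.Fus.SymSix.Gen

/-!
# The swapping involutions on their whole centralizers
-/

set_option autoImplicit false
set_option maxRecDepth 100000

namespace Cfsg.Agent.Fus.SymSix

open Cfsg.Agent.Spor.Cos (force force_eq)

/-- The checks of one entry. -/
noncomputable def entOk (gens imgs : List ℕ) (t : CTree) (e : ℕ × ℕ) : Bool :=
  inH e.1 && inH (mImg e.2) &&
    bif Nat.beq (mDep e.2) 0 then Nat.beq e.1 oneC && Nat.beq (mImg e.2) oneC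
    else Nat.blt (mGen e.2) gens.length && force (mPar e.2) fun p => force (t.find p) fun pv =>
      !Nat.beq pv noVal && Nat.blt (mDep pv) (mDep e.2) && Nat.beq (mulC (gens.getD (mGen e.2) oneC) p) e.1 &&
        Nat.beq (mulC (imgs.getD (mGen e.2) oneC) (mImg pv)) (mImg e.2)

/-- The checks of the whole map. -/
noncomputable def treeOk (i : ℕ) (gens imgs : List ℕ) (t : CTree) : Bool :=
  t.toList.all (entOk gens imgs t) && Nat.beq gens.length imgs.length && (gens.all fun g => inH g) &&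
    (imgs.all fun g => inH g) && Nat.beq (mapC t zC) (repC i) && Nat.beq (mapC t (repC i)) zC

/-- The map exchanges the generators and their images. -/
noncomputable def invOk (gens imgs : List ℕ) (t : CTree) : Bool :=
  (List.range gens.length).all fun j =>
    Nat.beq (mapC t (imgs.getD j oneC)) (gens.getD j oneC) && Nat.beq (mapC t (gens.getD j oneC)) (imgs.getD j oneC)

/-- An element acting as recorded. -/
def Acts {K : Type*} [Group K] (I : ℕ → K) (g : K) (t : CTree) : Prop :=
  ∀ x, mapC t x ≠ noVal → Mem x ∧ Mem (mapC t x) ∧ g * I x * g⁻¹ = I (mapC t x)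

/-- The map follows from its action on the generators. -/
theorem acts_of_gens {K : Type*} [Group K] {I : ℕ → K} (hom : ∀ a b, Mem a → Mem b → I (mulC a b) = I a * I b)
    {i : ℕ} {gens imgs : List ℕ} {t : CTree} (hok : treeOk i gens imgs t = true) {g : K}
    (hg : ∀ j < gens.length, g * I (gens.getD j oneC) * g⁻¹ = I (imgs.getD j oneC)) : Acts I g t := by
  simp only [treeOk, Bool.and_eq_true, List.all_eq_true, Nat.beq_eq] at hok
  obtain ⟨⟨⟨⟨⟨hall, hlen⟩, hgm⟩, him⟩, -⟩, -⟩ := hok
  have h1 : I oneC = 1 := by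
    have h := hom oneC oneC mem_one mem_one
    rw [mem_one.mul_one] at h
    exact left_eq_mul.1 h
  have main : ∀ d x, mDep (t.find x) = d → t.find x ≠ noVal → Mem x ∧ Mem (mImg (t.find x)) ∧
      g * I x * g⁻¹ = I (mImg (t.find x)) := by
    intro d
    induction d using Nat.strong_induction_on with
    | _ d ih =>
      intro x hd hx
      have he := hall _ ((CTree.find_mem t x).resolve_left hx)
      simp only [entOk, Bool.and_eq_true] at he
      obtain ⟨⟨hxm, hym⟩, he⟩ := he
      refine ⟨hxm, hym, ?_⟩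
      cases h0 : Nat.beq (mDep (t.find x)) 0 <;> rw [h0] at he
      · simp only [cond_false, force_eq, Bool.and_eq_true, Bool.not_eq_true', Nat.blt_eq, Nat.beq_eq] at he
        obtain ⟨hj, ⟨⟨hpv, hdep⟩, hxe⟩, hye⟩ := he
        obtain ⟨hpm, hpi, hpg⟩ := ih _ (hd ▸ hdep) (mPar (t.find x)) rfl fun h => by rw [h] at hpv; simp at hpv
        have hgj : Mem (gens.getD (mGen (t.find x)) oneC) := by
          rw [List.getD_eq_getElem _ _ hj]; exact hgm _ (List.getElem_mem hj)
        have hij : Mem (imgs.getD (mGen (t.find x)) oneC) := by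
          rw [List.getD_eq_getElem _ _ (hlen ▸ hj)]; exact him _ (List.getElem_mem _)
        rw [← hye, hom _ _ hij hpi, ← hg _ hj, ← hpg]
        conv_lhs => rw [← hxe, hom _ _ hgj hpm]
        group
      · simp only [cond_true, Bool.and_eq_true, Nat.beq_eq] at he
        obtain ⟨hx1, hx2⟩ := he
        rw [hx2, show I x = 1 by rw [hx1, h1], h1, mul_one, mul_inv_cancel]
  intro x hx
  have h8 : t.find x ≠ noVal := fun h => hx (by rw [mapC, force_eq, h]; rfl)
  have e : mapC t x = mImg (t.find x) := by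
    rw [mapC, force_eq, beq_noVal_false h8]
    rfl
  rw [e]
  exact main _ x rfl h8

/-- Being central in the domain, as recorded. -/
def zenAt (gens zl : List ℕ) (c : ℕ) : Bool :=
  !(gens.all fun g => commC c g) || zl.any fun x => Nat.beq x c

/-- The squares can be removed. -/
noncomputable def sqOk (m : ℕ) (gens zl : List ℕ) (t : CTree) : Bool :=
  (zl.all fun x => inH x && !Nat.beq (mapC t x) noVal && t.toList.all fun e => commC x e.1) &&
    zl.all fun c => !Nat.beq (mapC t c) c ||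
      zl.any fun x => force (mulC (mapC t x) (mulC c x)) fun y => Nat.beq y oneC || fz m y

/-- An element of the kernel. -/
noncomputable def gaugeOk (t : CTree) (x : ℕ) : Bool :=
  inH x && (t.toList.all fun e => commC x e.1) && force (mapC t x) fun y =>
    !Nat.beq y noVal && Nat.beq (mulC y x) oneC

/-- The witness against one combination of options. -/
structure RelWit where
  /-- the first element -/
  x : ℕ
  /-- the second element -/
  w : ℕ
  /-- the class of the first -/
  j : ℕ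
  /-- the class of its image -/
  l : ℕ
  /-- conjugating to the first -/
  hx : ℕ
  /-- conjugating to its image -/
  hy : ℕ

/-- The check of a witness. -/
noncomputable def relBad (tc tj tl : CTree) (W : RelWit) : Bool :=
  inH W.hx && inH W.hy && Nat.beq (cjC W.hx (repC W.j)) W.x && Nat.beq (mapC tj (repC W.j)) zC &&
    Nat.beq (mapC tl (repC W.l)) zC && !Nat.beq (mapC tc W.x) noVal && !Nat.beq (mapC tc W.w) noVal &&
    Nat.beq (cjC W.hy (repC W.l)) (mapC tc W.x) &&
    force (mapC tj (cjC (invC W.hx) W.w)) fun e1 => force (mapC tl (cjC (invC W.hy) (mapC tc W.w))) fun e2 =>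
      !Nat.beq e1 noVal && !Nat.beq e2 noVal && Nat.blt (clsF e1) noVal && !Nat.beq (clsF e1) (clsF e2)

namespace Loc

variable {G : Type*} [Group G] {z : G} {I : ℕ → G} (L : Loc z I)
include L

/-- The central involution is no square in the whole group. -/
theorem conj_not_square {y : G} (h : IsConj (y * y) z) : False := by
  obtain ⟨g, hg⟩ := isConj_iff.1 h
  set v := g * y * g⁻¹ with hv
  have hvv : v * v = z := by rw [← hg, hv]; group
  have hcomm : v * z = z * v :=
    calc v * z = v * (v * v) := by rw [hvv]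
      _ = v * v * v := (mul_assoc _ _ _).symm
      _ = z * v := by rw [hvv]
  obtain ⟨d, hd, hde⟩ := (L.range _).1 hcomm
  exact no_root hd (L.inj _ _ (hd.mul hd) mem_z (by rw [L.hom _ _ hd hd, hde, hvv, L.map_z]))

/-- An element exchanging the central involution with a representative, after the correction. -/
theorem acts_corrected {i : ℕ} {gens imgs : List ℕ} {t : CTree}
    (hok : treeOk i (gens ++ [zC, repC i]) (imgs ++ [repC i, zC]) t = true) (hlen : imgs.length = gens.length)
    {σ : G} (hz : σ * z * σ⁻¹ = I (repC i)) (hu : σ * I (repC i) * σ⁻¹ = z) {k : ℕ} (hk : Mem k)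
    (hku : mulC k (repC i) = mulC (repC i) k)
    (hall : ∀ j < gens.length, σ * I (gens.getD j oneC) * σ⁻¹ = I (cjC k (imgs.getD j oneC))) :
    Acts I ((I k)⁻¹ * σ) t := by
  have hok' := hok
  simp only [treeOk, Bool.and_eq_true, List.all_eq_true, Nat.beq_eq] at hok'
  obtain ⟨⟨⟨⟨⟨-, -⟩, -⟩, him⟩, -⟩, -⟩ := hok'
  refine acts_of_gens L.hom hok fun j hj => ?_
  set g := (I k)⁻¹ * σ with hgdef
  have hkz := L.comm_z hk
  have hkI := (L.comm_iff hk (Mem.rep i)).2 hku
  simp only [List.length_append, List.length_cons, List.length_nil] at hj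
  rcases Nat.lt_or_ge j gens.length with h | h
  · rw [List.getD_append _ _ _ _ h, List.getD_append _ _ _ _ (hlen.symm ▸ h)]
    have hm : Mem (imgs.getD j oneC) := by
      rw [List.getD_eq_getElem _ _ (hlen.symm ▸ h)]
      exact him _ (List.mem_append_left _ (List.getElem_mem _))
    have := hall j h
    rw [L.map_cj hk hm] at this
    calc g * I (gens.getD j oneC) * g⁻¹ = (I k)⁻¹ * (σ * I (gens.getD j oneC) * σ⁻¹) * I k := by rw [hgdef]; group
      _ = _ := by rw [this]; group
  · rw [List.getD_append_right _ _ _ _ h, List.getD_append_right _ _ _ _ (hlen.symm ▸ h), hlen]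
    rcases (show j - gens.length = 0 ∨ j - gens.length = 1 by omega) with e | e <;> rw [e]
    · rw [List.getD_cons_zero, List.getD_cons_zero, L.map_z]
      calc g * z * g⁻¹ = (I k)⁻¹ * (σ * z * σ⁻¹) * I k := by rw [hgdef]; group
        _ = (I k)⁻¹ * (I k * I (repC i)) := by rw [hz, mul_assoc, ← hkI]
        _ = _ := by group
    · rw [List.getD_cons_succ, List.getD_cons_zero, List.getD_cons_succ, List.getD_cons_zero, L.map_z]
      calc g * I (repC i) * g⁻¹ = (I k)⁻¹ * (σ * I (repC i) * σ⁻¹) * I k := by rw [hgdef]; group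
        _ = (I k)⁻¹ * (I k * z) := by rw [hu, mul_assoc, ← hkz]
        _ = _ := by group

theorem acts_z {i : ℕ} {gens imgs : List ℕ} {t : CTree} (hok : treeOk i gens imgs t = true) {g : G}
    (ha : Acts I g t) : g * z * g⁻¹ = I (repC i) ∧ g * I (repC i) * g⁻¹ = z := by
  simp only [treeOk, Bool.and_eq_true, Nat.beq_eq] at hok
  obtain ⟨⟨-, h1⟩, h2⟩ := hok
  constructor
  · have := (ha zC (h1.symm ▸ (Mem.rep i).ne_noVal)).2.2
    rwa [h1, L.map_z] at this
  · have := (ha (repC i) (h2.symm ▸ mem_z.ne_noVal)).2.2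
    rwa [h2, L.map_z] at this

/-- A witness excludes the options. -/
theorem rel_kill {tc tj tl : CTree} {gc gj gl : G} (hc : Acts I gc tc) (hj : Acts I gj tj) (hl : Acts I gl tl)
    {W : RelWit} (h : relBad tc tj tl W = true) : False := by
  simp only [relBad, force_eq, Bool.and_eq_true, Nat.beq_eq, Nat.blt_eq, Bool.not_eq_true',
    ← Bool.not_eq_true] at h
  obtain ⟨⟨⟨⟨⟨⟨⟨⟨hxm, hym⟩, hxe⟩, hjz⟩, hlz⟩, hcx⟩, hcw⟩, hye⟩, ⟨⟨he1, he2⟩, hlt⟩, hne⟩ := h
  replace hxm : Mem W.hx := hxm
  replace hym : Mem W.hy := hym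
  have hju := (hj _ (hjz.symm ▸ mem_z.ne_noVal)).2.2
  have hlu := (hl _ (hlz.symm ▸ mem_z.ne_noVal)).2.2
  rw [hjz, L.map_z] at hju
  rw [hlz, L.map_z] at hlu
  obtain ⟨-, -, hcX⟩ := hc _ hcx
  obtain ⟨hwm, hwm', hcW⟩ := hc _ hcw
  obtain ⟨-, h1m, hjW⟩ := hj _ he1
  obtain ⟨-, h2m, hlW⟩ := hl _ he2
  rw [L.map_cj hxm.inv hwm, L.map_inv hxm] at hjW
  rw [L.map_cj hym.inv hwm', L.map_inv hym] at hlW
  rw [← hxe, L.map_cj hxm (Mem.rep _)] at hcX
  rw [hxe, ← hye, L.map_cj hym (Mem.rep _)] at hcX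
  set e1 := mapC tj (cjC (invC W.hx) W.w)
  set e2 := mapC tl (cjC (invC W.hy) (mapC tc W.w))
  set q := gl * (I W.hy)⁻¹ * gc * I W.hx * gj⁻¹ with hq
  have hqz : q * z * q⁻¹ = z := by
    conv_lhs => rw [← hju]
    calc q * (gj * I (repC W.j) * gj⁻¹) * q⁻¹
        = gl * (I W.hy)⁻¹ * (gc * (I W.hx * I (repC W.j) * (I W.hx)⁻¹) * gc⁻¹) * I W.hy * gl⁻¹ := by
          rw [hq]; group
      _ = gl * I (repC W.l) * gl⁻¹ := by rw [hcX]; group
      _ = z := hlu
  obtain ⟨c, hcm, hce⟩ := (L.range q).1 (mul_inv_eq_iff_eq_mul.1 hqz)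
  have hqe : q * I e1 * q⁻¹ = I e2 := by
    rw [← hjW, ← hlW, ← hcW, hq]; group
  rw [← hce, ← L.map_cj hcm h1m] at hqe
  exact hne ((congrArg clsF (L.inj _ _ (Mem.cj hcm h1m) h2m hqe)).symm.trans (cls_conj hcm hlt)).symm

/-- The square can be removed. -/
theorem exists_swap_inv {m i : ℕ} (hm : ∀ k < noVal, inMask m k = true ↔ IsConj (I (repC k)) z)
    {gens imgs : List ℕ} {t : CTree} (hok : treeOk i gens imgs t = true) (hio : invOk gens imgs t = true) {g : G}
    (ha : Acts I g t) {zl : List ℕ} (hzl : ∀ c, Mem c → zenAt gens zl c = true) (hsq : sqOk m gens zl t = true) :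
    ∃ a, Swap I a t := by
  obtain ⟨hgz, hgu⟩ := L.acts_z hok ha
  simp only [treeOk, Bool.and_eq_true, List.all_eq_true, Nat.beq_eq] at hok
  obtain ⟨⟨⟨⟨⟨-, hlen⟩, hgm⟩, him⟩, -⟩, -⟩ := hok
  have hinv := hio
  simp only [invOk, Bool.and_eq_true, List.all_eq_true, List.mem_range, Nat.beq_eq] at hinv
  have h2z : g * g * z = z * (g * g) :=
    calc g * g * z = g * (g * z * g⁻¹) * g⁻¹ * (g * g) := by group
      _ = _ := by rw [hgz, hgu]
  obtain ⟨c, hc, hcg⟩ := (L.range _).1 h2z
  have hcz : c ∈ zl := by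
    have := hzl c hc
    simp only [zenAt, Bool.or_eq_true, Bool.not_eq_true', List.any_eq_true, Nat.beq_eq] at this
    refine (this.resolve_left fun hf => ?_).elim fun x hx => hx.2 ▸ hx.1
    obtain ⟨y, hy, hyc⟩ := List.all_eq_false.1 hf
    obtain ⟨j, hj, rfl⟩ := List.getElem_of_mem hy
    apply hyc
    rw [← List.getD_eq_getElem _ oneC hj]
    simp only [commC, Nat.beq_eq]
    have hgj : Mem (gens.getD j oneC) := by rw [List.getD_eq_getElem _ _ hj]; exact hgm _ (List.getElem_mem hj)
    have hij : Mem (imgs.getD j oneC) := by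
      rw [List.getD_eq_getElem _ _ (hlen ▸ hj)]; exact him _ (List.getElem_mem _)
    have h8 : mapC t (imgs.getD j oneC) ≠ noVal := by rw [(hinv j hj).1]; exact hgj.ne_noVal
    have e2 := (ha _ h8).2.2
    rw [(hinv j hj).1] at e2
    have h8' : mapC t (gens.getD j oneC) ≠ noVal := by rw [(hinv j hj).2]; exact hij.ne_noVal
    have e1 := (ha _ h8').2.2
    rw [(hinv j hj).2] at e1
    refine (L.comm_iff hc hgj).1 ?_
    rw [hcg]
    calc g * g * I (gens.getD j oneC) = g * (g * I (gens.getD j oneC) * g⁻¹) * g⁻¹ * (g * g) := by group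
      _ = _ := by rw [e1, e2]
  simp only [sqOk, force_eq, Bool.and_eq_true, List.all_eq_true, Bool.not_eq_true', Bool.or_eq_true, List.any_eq_true,
    Nat.beq_eq, commC, ← Bool.not_eq_true] at hsq
  obtain ⟨hz1, hz2⟩ := hsq
  obtain ⟨⟨-, hcd⟩, -⟩ := hz1 c hcz
  have hfix : mapC t c = c := by
    refine L.inj _ _ (ha c hcd).2.1 hc ?_
    rw [← (ha c hcd).2.2, hcg]; group
  obtain ⟨x, hx, hxy⟩ := (hz2 c hcz).resolve_left fun h => h hfix
  obtain ⟨⟨hxm, hxd⟩, hxc⟩ := hz1 x hx
  replace hxm : Mem x := hxm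
  obtain ⟨-, hfm, hfx⟩ := ha x hxd
  have hsquare : g * I x * (g * I x) = I (mulC (mapC t x) (mulC c x)) := by
    rw [L.hom _ _ hfm (hc.mul hxm), L.hom _ _ hc hxm, ← hfx, hcg]; group
  rcases hxy with h | h
  · refine ⟨g * I x, by rw [hsquare, h, L.map_one], fun y hy => ?_⟩
    obtain ⟨hym, hym', hy'⟩ := ha y hy
    refine ⟨hym, hym', ?_⟩
    have h8 : t.find y ≠ noVal := fun h => hy (by rw [mapC, force_eq, h]; rfl)
    have hI : I x * I y = I y * I x := (L.comm_iff hxm hym).2 (hxc _ ((CTree.find_mem t y).resolve_left h8))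
    calc g * I x * I y * (g * I x)⁻¹ = g * (I x * I y * (I x)⁻¹) * g⁻¹ := by group
      _ = _ := by rw [hI, mul_inv_cancel_right, hy']
  · exfalso
    rw [L.fused_mask hm (hfm.mul (hc.mul hxm)), ← hsquare] at h
    exact L.conj_not_square h

/-- Changing a swapping involution by an element of the kernel. -/
theorem swap_gauge {t : CTree} {a : G} (ha : Swap I a t) {x : ℕ} (hx : gaugeOk t x = true) :
    Swap I (a * I x) t := by
  simp only [gaugeOk, force_eq, Bool.and_eq_true, List.all_eq_true, Bool.not_eq_true', Nat.beq_eq, commC,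
    ← Bool.not_eq_true] at hx
  obtain ⟨⟨hxm, hxc⟩, hxd, hxy⟩ := hx
  replace hxm : Mem x := hxm
  obtain ⟨-, hfm, hfx⟩ := ha.map x hxd
  have hai : a⁻¹ = a := inv_eq_of_mul_eq_one_left ha.sq
  refine ⟨?_, fun y hy => ?_⟩
  · calc a * I x * (a * I x) = a * I x * a * I x := (mul_assoc _ _ _).symm
      _ = a * I x * a⁻¹ * I x := by rw [hai]
      _ = 1 := by rw [hfx, ← L.hom _ _ hfm hxm, hxy, L.map_one]
  · obtain ⟨hym, hym', hy'⟩ := ha.map y hy
    refine ⟨hym, hym', ?_⟩
    have h8 : t.find y ≠ noVal := fun h => hy (by rw [mapC, force_eq, h]; rfl)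
    have hI : I x * I y = I y * I x := (L.comm_iff hxm hym).2 (hxc _ ((CTree.find_mem t y).resolve_left h8))
    calc a * I x * I y * (a * I x)⁻¹ = a * (I x * I y * (I x)⁻¹) * a⁻¹ := by group
      _ = _ := by rw [hI, mul_inv_cancel_right, hy']

end Loc

end Cfsg.Agent.Fus.SymSix
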