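import Cfsg.Agent.Lib.Fus.SymSix.Sep

/-!
# A Sylow subgroup of the centralizer of a pure subgroup
-/

set_option autoImplicit false
set_option maxRecDepth 100000
set_option Elab.async false

namespace Cfsg.Agent.Fus.SymSix

open Cfsg.Agent.Spor.Cos (force force_eq ev)

theorem halves_nodup : halvesList.Nodup := by decide +kernel

theorem flips_nodup : flipList.Nodup := by decide +kernel

theorem elems_nodup : elems.Nodup := by
  have hs : ∀ q ∈ halvesList, ∀ f ∈ flipList, hpC (q + f) = q ∧ fpC (q + f) = f := fun q hq f hf => by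
    simpa [Bool.and_eq_true] using List.all_eq_true.1 (List.all_eq_true.1 split_ok q hq) f hf
  rw [elems, List.nodup_flatMap]
  refine ⟨fun q hq => flips_nodup.map_on fun a ha b hb h => ?_, ?_⟩
  · rw [← (hs q hq a ha).2, h, (hs q hq b hb).2]
  · refine List.Pairwise.imp_of_mem (fun {q r} hq hr hne => ?_) halves_nodup
    intro x h1 h2
    obtain ⟨a, ha, rfl⟩ := List.mem_map.1 h1
    obtain ⟨b, hb, hbe⟩ := List.mem_map.1 h2
    exact hne (by rw [← (hs q hq a ha).1, ← hbe, (hs r hr b hb).1])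

/-- Commuting on the six pairs. -/
def pc (c v : ℕ) : Bool :=
  [0, 1, 2, 3, 4, 5].all fun i => force (nib c i / 2) fun x => force (nib v i) fun y =>
    Nat.beq (nib c (y / 2) / 2) (nib v x / 2) && (!Nat.beq (y / 2) i || Nat.beq (Nat.xor (2 * x) (y % 2)) (nib v x))

theorem low_cancel : ∀ x < 16, ∀ b < 2, ∀ y < 16, Nat.xor x b = Nat.xor y (x % 2) → Nat.xor (2 * (x / 2)) b = y := by
  decide +kernel

theorem pc_of_commC {c v : ℕ} (h : commC c v = true) : pc c v = true := by
  simp only [commC, Nat.beq_eq] at h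
  simp only [pc, force_eq, List.all_eq_true, Nat.beq_eq, Bool.and_eq_true, Bool.or_eq_true, Bool.not_eq_true']
  intro i hi
  have hi' : i < 6 := by fin_cases hi <;> norm_num
  have e := congrArg (fun x => nib x i) h
  simp only [nib_mulC _ _ hi', app] at e
  refine ⟨?_, ?_⟩
  · have e2 := congrArg (fun x => x / 2) e
    simp only [(xor_low _ (nib_lt _ _) _ (Nat.mod_lt _ (by norm_num))).1] at e2
    exact e2
  · by_cases hfix : nib v i / 2 = i
    · rw [hfix] at e
      exact Or.inr (low_cancel _ (nib_lt _ _) _ (Nat.mod_lt _ (by norm_num)) _ (nib_lt _ _) e)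
    · exact Or.inl (Bool.eq_false_iff.2 fun he => hfix (Nat.eq_of_beq_eq_true he))

theorem mask_nib : ∀ i < 6, nib 15658734 i = 14 := by decide +kernel

theorem and_14 : ∀ n < 16, n &&& 14 = 2 * (n / 2) := by decide +kernel

theorem pc_add {q f : ℕ} (hq : q ∈ halvesList) (hf : f ∈ flipList) (v : ℕ) : pc (q + f) v = pc q v := by
  have h := List.all_eq_true.1 (List.all_eq_true.1 split_ok q hq) f hf
  simp only [Bool.and_eq_true, Nat.beq_eq] at h
  have hlt : q + f < 2 ^ 24 := by rw [← split_all hq hf]; exact mulC_lt _ _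
  have hqlt : q < 2 ^ 24 := lt_of_le_of_lt (Nat.le_add_right q f) hlt
  have hd : ∀ i, nib (q + f) i / 2 = nib q i / 2 := fun i => by
    by_cases hi : i < 6
    · have e : nib q i = nib (q + f) i &&& 14 := by
        conv_lhs => rw [← h.1]
        simp only [nib, hpC]
        show ((q + f) &&& 15658734) >>> (4 * i) % 16 = _
        rw [Nat.shiftRight_and_distrib, show (16 : ℕ) = 2 ^ 4 from rfl, Nat.and_mod_two_pow]
        exact congrArg _ (mask_nib i hi)
      rw [e, and_14 _ (nib_lt _ _)]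
      omega
    · have h0 : ∀ x < 2 ^ 24, nib x i = 0 := fun x hx => by
        have hp : 2 ^ 24 ≤ 2 ^ (4 * i) := Nat.pow_le_pow_right two_pos (by omega)
        rw [nib, Nat.shiftRight_eq_div_pow, Nat.div_eq_of_lt (hx.trans_le hp), Nat.zero_mod]
      rw [h0 _ hlt, h0 _ hqlt]
  simp only [pc, hd]

/-- The elements commuting with all of a list. -/
noncomputable def centList (l : List ℕ) : List ℕ :=
  halvesList.flatMap fun q => bif l.all (pc q) then (flipList.map fun f => q + f).filter fun c => l.all fun v => commC c v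
    else []

theorem centList_eq (l : List ℕ) : centList l = elems.filter fun c => l.all fun v => commC c v := by
  rw [elems, List.filter_flatMap, centList]
  refine List.flatMap_congr fun q hq => ?_
  cases h : l.all (pc q)
  · refine (List.filter_eq_nil_iff.2 fun c hc hcl => ?_).symm
    obtain ⟨f, hf, rfl⟩ := List.mem_map.1 hc
    rw [← Bool.not_eq_true, List.all_eq_true] at h
    exact h fun v hv => by rw [← pc_add hq hf]; exact pc_of_commC (List.all_eq_true.1 hcl v hv)
  · rfl

theorem mem_centList {l : List ℕ} {c : ℕ} : c ∈ centList l ↔ c ∈ elems ∧ (l.all fun v => commC c v) = true := by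
  rw [centList_eq, List.mem_filter]

/-- A list in strictly increasing order. -/
def sortedB : List ℕ → Bool
  | [] => true
  | [_] => true
  | a :: b :: l => Nat.blt a b && sortedB (b :: l)

theorem pairwise_of_sortedB : ∀ {l : List ℕ}, sortedB l = true → l.Pairwise (· < ·)
  | [], _ => List.Pairwise.nil
  | [_], _ => List.pairwise_singleton _ _
  | a :: b :: l, h => by
    simp only [sortedB, Bool.and_eq_true, Nat.blt_eq] at h
    have ih := pairwise_of_sortedB h.2
    refine List.pairwise_cons.2 ⟨fun x hx => ?_, ih⟩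
    rcases List.mem_cons.1 hx with rfl | hx
    · exact h.1
    · exact h.1.trans ((List.pairwise_cons.1 ih).1 x hx)

/-- The data of a Sylow subgroup. -/
structure SylCert where
  /-- the elements, in order -/
  P : List ℕ
  /-- the exponent -/
  k : ℕ
  /-- for each central fused element a word to the central involution and the images of the subgroup -/
  fus : List (ℕ × List ℕ × List (ℕ × ℕ))

/-- The fused central elements. -/
noncomputable def SylCert.fused (c : SylCert) (m : ℕ) : List ℕ := c.P.filter fun u => fz m u && c.P.all fun q => commC u q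

/-- The checks of a Sylow subgroup. -/
noncomputable def sylOk (m : ℕ) (wEq : List ℕ → List ℕ → Bool) (n : CNode) (c : SylCert) : Bool :=
  sortedB c.P && Nat.beq c.P.length (2 ^ c.k) && (c.P.any fun p => Nat.beq p oneC) &&
    (c.P.any fun p => Nat.beq p zC) && (n.V.all fun v => c.P.any fun p => Nat.beq p v) &&
    (c.P.all fun p => inH p && (n.V.all fun v => commC p v) && c.P.all fun q =>
      force (mulC p q) fun r => c.P.any fun x => Nat.beq x r) &&
    Nat.beq ((c.fused m).length % 2) 1 &&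
    (c.fused m).all fun u => c.fus.any fun e => Nat.beq e.1 u && conjOk wEq e.2.1 u zC &&
      (n.V.all fun v => e.2.2.any fun p => Nat.beq p.1 v) && (e.2.2.all fun p => n.inV p.1 && conjOk wEq e.2.1 p.1 p.2) &&
      Nat.beq ((centList (e.2.2.map Prod.snd)).length % 2 ^ (c.k + 1)) (2 ^ c.k)

/-- The centralizer of a subgroup of the list. -/
def centV {G : Type*} [Group G] (I : ℕ → G) (n : CNode) : Subgroup G := Subgroup.centralizer {x | ∃ v ∈ n.V, I v = x}

theorem mem_centV {G : Type*} [Group G] {I : ℕ → G} {n : CNode} {g : G} :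
    g ∈ centV I n ↔ ∀ v ∈ n.V, g * I v = I v * g := by
  simp only [centV, Subgroup.mem_centralizer_iff, Set.mem_ofPred_eq, forall_exists_index, and_imp]
  exact ⟨fun h v hv => (h _ v hv rfl).symm, fun h x v hv e => e ▸ (h v hv).symm⟩

variable {G : Type*} [Group G] [Finite G] {z : G} {I : ℕ → G} {a b : G} {ta tb : CTree} {m : ℕ}

theorem Loc.card_cent (L : Loc z I) {l : List ℕ} (hl : ∀ v ∈ l, Mem v) :
    Nat.card ↥(Subgroup.centralizer ({z} : Set G) ⊓ Subgroup.centralizer {x | ∃ v ∈ l, I v = x}) =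
      (centList l).length := by
  classical
  have hmem : ∀ i : Fin (centList l).length, Mem ((centList l)[(i : ℕ)]) :=
    fun i => mem_iff_elems.2 (mem_centList.1 (List.getElem_mem i.2)).1
  let f : Fin (centList l).length →
      ↥(Subgroup.centralizer ({z} : Set G) ⊓ Subgroup.centralizer {x | ∃ v ∈ l, I v = x}) := fun i =>
    ⟨I ((centList l)[(i : ℕ)]), Subgroup.mem_centralizer_singleton_iff.2 (L.comm_z (hmem i)), by
      refine Subgroup.mem_centralizer_iff.2 ?_
      rintro _ ⟨v, hv, rfl⟩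
      have h := List.all_eq_true.1 (mem_centList.1 (List.getElem_mem i.2)).2 v hv
      simp only [commC, Nat.beq_eq] at h
      exact ((L.comm_iff (hmem i) (hl v hv)).2 h).symm⟩
  refine (Nat.card_eq_of_bijective f ⟨fun i j h => ?_, fun x => ?_⟩).symm.trans (Nat.card_fin _)
  · have := L.inj _ _ (hmem i) (hmem j) (congrArg Subtype.val h)
    exact Fin.ext ((centList_eq l ▸ elems_nodup.filter _ : (centList l).Nodup).getElem_inj_iff.1 this)
  · obtain ⟨c, hc, hcx⟩ := (L.range _).1 (Subgroup.mem_centralizer_singleton_iff.1 x.2.1)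
    have hcl : c ∈ centList l := mem_centList.2 ⟨mem_iff_elems.1 hc, List.all_eq_true.2 fun v hv => by
      simp only [commC, Nat.beq_eq]
      refine (L.comm_iff hc (hl v hv)).1 ?_
      rw [hcx]
      exact (Subgroup.mem_centralizer_iff.1 x.2.2 _ ⟨v, hv, rfl⟩).symm⟩
    obtain ⟨i, hi, e⟩ := List.getElem_of_mem hcl
    exact ⟨⟨i, hi⟩, Subtype.ext (by show I _ = _; rw [e, hcx])⟩

/-- What the checks of a Sylow subgroup give. -/
structure SylSpec (z : G) (I : ℕ → G) (n : CNode) (c : SylCert) : Prop where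
  /-- the elements -/
  mem : ∀ p ∈ c.P, Mem p
  /-- a subgroup containing the involution and the subgroup, inside the centralizer -/
  zmem : zC ∈ c.P
  /-- containing the subgroup -/
  vmem : ∀ v ∈ n.V, v ∈ c.P
  /-- two-elements move into it -/
  into : ∀ g : G, g ∈ centV I n → (∃ j, g ^ 2 ^ j = 1) → ∃ t ∈ centV I n, ∃ p ∈ c.P, t * g * t⁻¹ = I p
  /-- a Sylow subgroup of the centralizer -/
  sylow : ∃ S : Sylow 2 (centV I n), ∀ x : centV I n, x ∈ S ↔ ∃ p ∈ c.P, I p = (x : G)

theorem sylSpec (L : Loc z I) (P : Pair I a b ta tb) (hm : ∀ i < noVal, inMask m i = true ↔ IsConj (I (repC i)) z)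
    {wEq : List ℕ → List ℕ → Bool} (W : WordEq I a b wEq) {n : CNode} (hnm : ∀ v ∈ n.V, Mem v) {c : SylCert}
    (h : sylOk m wEq n c = true) : SylSpec z I n c := by
  classical
  haveI : Fact (Nat.Prime 2) := ⟨Nat.prime_two⟩
  simp only [sylOk, force_eq, Bool.and_eq_true, List.all_eq_true, List.any_eq_true, Nat.beq_eq, exists_eq_right,
    CNode.inV_iff, commC] at h
  obtain ⟨⟨⟨⟨⟨⟨⟨hso, hlen⟩, h1⟩, hzP⟩, hVP⟩, hP⟩, hodd⟩, hfus⟩ := h
  have hPm : ∀ p ∈ c.P, Mem p := fun p hp => (hP p hp).1.1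
  have hnd : c.P.Nodup := (pairwise_of_sortedB hso).imp fun h => h.ne
  have hPc : ∀ p ∈ c.P, I p ∈ centV I n := fun p hp => mem_centV.2 fun v hv =>
    (L.comm_iff (hPm p hp) (hnm v hv)).2 ((hP p hp).1.2 v hv)
  have hclosed : ∀ p ∈ c.P, ∀ q ∈ c.P, mulC p q ∈ c.P := fun p hp q hq => (hP p hp).2 q hq
  -- the subgroup
  let S : Submonoid G :=
    { carrier := {x | ∃ p ∈ c.P, I p = x}
      one_mem' := ⟨oneC, h1, L.map_one⟩
      mul_mem' := by
        rintro _ _ ⟨p, hp, rfl⟩ ⟨q, hq, rfl⟩
        exact ⟨_, hclosed p hp q hq, L.hom _ _ (hPm p hp) (hPm q hq)⟩ }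
  let PG : Subgroup G :=
    { S with
      inv_mem' := by
        intro x hx
        obtain ⟨j, -, hj⟩ : ∃ j, 0 < j ∧ x⁻¹ = x ^ j := ⟨orderOf x - 1 + orderOf x, by have := orderOf_pos x; omega, by
          rw [pow_add, pow_orderOf_eq_one, mul_one]
          refine inv_eq_of_mul_eq_one_right ?_
          rw [← pow_succ', Nat.sub_add_cancel (orderOf_pos x), pow_orderOf_eq_one]⟩
        rw [hj]
        exact S.pow_mem hx j }
  have hPG : ∀ x, x ∈ PG ↔ ∃ p ∈ c.P, I p = x := fun x => Iff.rfl
  have hPT : PG ≤ centV I n := fun x hx => by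
    obtain ⟨p, hp, rfl⟩ := (hPG x).1 hx
    exact hPc p hp
  have hcard : Nat.card PG = 2 ^ c.k := by
    rw [← hlen]
    let f : Fin c.P.length → PG := fun i => ⟨I c.P[(i : ℕ)], (hPG _).2 ⟨_, List.getElem_mem i.2, rfl⟩⟩
    refine (Nat.card_eq_of_bijective f ⟨fun i j h => ?_, fun x => ?_⟩).symm.trans (Nat.card_fin _)
    · exact Fin.ext (hnd.getElem_inj_iff.1
        (L.inj _ _ (hPm _ (List.getElem_mem i.2)) (hPm _ (List.getElem_mem j.2)) (congrArg Subtype.val h)))
    · obtain ⟨p, hp, hpx⟩ := (hPG _).1 x.2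
      obtain ⟨i, hi, e⟩ := List.getElem_of_mem hp
      exact ⟨⟨i, hi⟩, Subtype.ext (by show I _ = _; rw [e, hpx])⟩
  set PT := PG.subgroupOf (centV I n)
  have hPT2 : IsPGroup 2 PT := (IsPGroup.of_card hcard).of_equiv (Subgroup.subgroupOfEquivOfLe hPT).symm
  obtain ⟨Q, hQ⟩ := hPT2.exists_le_sylow
  have hEq : PT = (Q : Subgroup (centV I n)) := by
    by_contra hne
    have hlt : PT.subgroupOf (Q : Subgroup (centV I n)) < ⊤ := lt_top_iff_ne_top.2 fun e =>
      hne (le_antisymm hQ (Subgroup.subgroupOf_eq_top.1 e))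
    have hN := @Group.normalizerCondition_of_isNilpotent _ _ Q.2.isNilpotent _ hlt
    obtain ⟨r, hrN, hrP⟩ := SetLike.exists_of_lt hN
    set R := Subgroup.normalizer ((PT.subgroupOf (Q : Subgroup (centV I n))) : Set ↥(Q : Subgroup (centV I n)))
    -- its action on the fused central elements
    set α := {u : G // ∃ p ∈ c.fused m, I p = u}
    have hfm : ∀ p ∈ c.fused m, p ∈ c.P ∧ fz m p = true ∧ ∀ q ∈ c.P, mulC p q = mulC q p := by
      intro p hp
      simpa [SylCert.fused, List.mem_filter, Bool.and_eq_true, List.all_eq_true, commC] using hp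
    have hcα : Nat.card α = (c.fused m).length := by
      let f : Fin (c.fused m).length → α := fun i => ⟨I (c.fused m)[(i : ℕ)], _, List.getElem_mem i.2, rfl⟩
      refine (Nat.card_eq_of_bijective f ⟨fun i j h => ?_, fun x => ?_⟩).symm.trans (Nat.card_fin _)
      · exact Fin.ext ((hnd.filter _).getElem_inj_iff.1
          (L.inj _ _ (hPm _ (hfm _ (List.getElem_mem i.2)).1) (hPm _ (hfm _ (List.getElem_mem j.2)).1)
            (congrArg Subtype.val h)))
      · obtain ⟨p, hp, hpx⟩ := x.2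
        obtain ⟨i, hi, e⟩ := List.getElem_of_mem hp
        exact ⟨⟨i, hi⟩, Subtype.ext (by show I _ = _; rw [e, hpx])⟩
    let val : R →* G := (centV I n).subtype.comp ((Q : Subgroup (centV I n)).subtype.comp R.subtype)
    have hnorm : ∀ (g : R) (x : G), x ∈ PG → val g * x * (val g)⁻¹ ∈ PG := by
      intro g x hx
      have hxQ : (⟨x, hPT hx⟩ : centV I n) ∈ (Q : Subgroup (centV I n)) := hQ hx
      have := (Subgroup.mem_normalizer_iff.1 g.2 ⟨⟨x, hPT hx⟩, hxQ⟩).1 hx
      exact this
    have hact : ∀ (g : R) (u : α), ∃ p ∈ c.fused m, I p = val g * u.1 * (val g)⁻¹ := by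
      intro g u
      obtain ⟨p, hp, hpu⟩ := u.2
      obtain ⟨hpP, hpf, hpc⟩ := hfm p hp
      have hin : val g * I p * (val g)⁻¹ ∈ PG := hnorm g _ ((hPG _).2 ⟨p, hpP, rfl⟩)
      obtain ⟨q, hq, hqe⟩ := (hPG _).1 hin
      refine ⟨q, ?_, by rw [hqe, hpu]⟩
      simp only [SylCert.fused, List.mem_filter, Bool.and_eq_true, List.all_eq_true, commC, Nat.beq_eq]
      refine ⟨hq, (L.fused_mask hm (hPm q hq)).2 ?_, fun y hy => (L.comm_iff (hPm q hq) (hPm y hy)).1 ?_⟩
      · rw [hqe]
        exact (isConj_iff.2 ⟨val g, rfl⟩ : IsConj (I p) _).symm.trans ((L.fused_mask hm (hPm p hpP)).1 hpf)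
      · have hy' := hnorm g⁻¹ _ ((hPG _).2 ⟨y, hy, rfl⟩)
        obtain ⟨y', hy'P, hye⟩ := (hPG _).1 hy'
        have hcom : I p * I y' = I y' * I p := (L.comm_iff (hPm p hpP) (hPm y' hy'P)).2 (hpc y' hy'P)
        rw [map_inv, inv_inv] at hye
        have hy2 : I y = val g * I y' * (val g)⁻¹ := by rw [hye]; group
        rw [hqe, hy2]
        calc val g * I p * (val g)⁻¹ * (val g * I y' * (val g)⁻¹) = val g * (I p * I y') * (val g)⁻¹ := by group
          _ = _ := by rw [hcom]; group
    letI : MulAction R α :=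
      { smul := fun g u => ⟨val g * u.1 * (val g)⁻¹, hact g u⟩
        one_smul := fun u => Subtype.ext (by show val 1 * u.1 * (val 1)⁻¹ = _; simp)
        mul_smul := fun g h u => Subtype.ext (by
          show val (g * h) * u.1 * (val (g * h))⁻¹ = val g * (val h * u.1 * (val h)⁻¹) * (val g)⁻¹
          rw [map_mul]; group) }
    have hR2 : IsPGroup 2 R := Q.2.to_subgroup R
    obtain ⟨u, hu⟩ := hR2.nonempty_fixed_point_of_prime_not_dvd_card α (by rw [hcα]; omega)
    obtain ⟨p, hp, hpu⟩ := u.2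
    obtain ⟨e, -, ⟨⟨⟨hep, het⟩, heV⟩, heI⟩, helen⟩ := hfus p hp
    subst hep
    obtain ⟨-, -, het'⟩ := W.conj_eq P het
    rw [L.map_z] at het'
    set T := ev (gW I a b) e.2.1
    set l := e.2.2.map Prod.snd
    have hl : ∀ v ∈ l, Mem v := fun v hv => by
      obtain ⟨q, hq, rfl⟩ := List.mem_map.1 hv
      exact (W.conj_eq P (heI q hq).2).2.1
    set K := Subgroup.centralizer ({z} : Set G) ⊓ Subgroup.centralizer {x | ∃ v ∈ l, I v = x}
    let ψ : R →* G := (MulAut.conj T).toMonoidHom.comp val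
    have hψ : ∀ g, ψ g ∈ K := by
      intro g
      have hfix : val g * I e.1 * (val g)⁻¹ = I e.1 := by
        have := congrArg Subtype.val (hu g)
        change val g * u.1 * (val g)⁻¹ = u.1 at this
        rwa [← hpu] at this
      show T * val g * T⁻¹ ∈ K
      refine ⟨Subgroup.mem_centralizer_singleton_iff.2 ?_, Subgroup.mem_centralizer_iff.2 ?_⟩
      · rw [← het']
        calc T * val g * T⁻¹ * (T * I e.1 * T⁻¹) = T * (val g * I e.1) * T⁻¹ := by group
          _ = T * (I e.1 * val g) * T⁻¹ := by rw [mul_inv_eq_iff_eq_mul.1 hfix]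
          _ = _ := by group
      · rintro _ ⟨v, hv, rfl⟩
        obtain ⟨q, hq, rfl⟩ := List.mem_map.1 hv
        obtain ⟨-, -, hqe⟩ := W.conj_eq P (heI q hq).2
        rw [← hqe]
        have := mem_centV.1 ((g : (Q : Subgroup (centV I n))) : centV I n).2 q.1 (heI q hq).1
        calc T * I q.1 * T⁻¹ * (T * val g * T⁻¹) = T * (I q.1 * val g) * T⁻¹ := by group
          _ = T * (val g * I q.1) * T⁻¹ := by rw [show val g * I q.1 = I q.1 * val g from this]
          _ = _ := by simp only [T]; group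
    have hinj : Function.Injective (fun g : R => (⟨ψ g, hψ g⟩ : K)) := fun g g' h =>
      Subtype.ext (Subtype.ext (Subtype.ext ((MulAut.conj T).injective (congrArg Subtype.val h))))
    have hdvd : Nat.card R ∣ Nat.card K := Subgroup.card_dvd_of_injective (ψ.codRestrict K hψ) hinj
    rw [L.card_cent hl] at hdvd
    obtain ⟨j, hj⟩ := IsPGroup.iff_card.1 hR2
    have hjk : j ≤ c.k := by
      by_contra hlt'
      have hd2 : 2 ^ (c.k + 1) ∣ (centList l).length :=
        (pow_dvd_pow 2 (by omega)).trans (hj ▸ hdvd)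
      rw [Nat.mod_eq_zero_of_dvd hd2] at helen
      exact absurd helen.symm (pow_ne_zero _ two_ne_zero)
    have hle : Nat.card (PT.subgroupOf (Q : Subgroup (centV I n))) < Nat.card R :=
      Set.ncard_lt_ncard (SetLike.coe_ssubset_coe.2 hN) (Set.toFinite _) |> fun h => by
        rwa [← Nat.card_coe_set_eq, ← Nat.card_coe_set_eq] at h
    rw [Nat.card_congr (Subgroup.subgroupOfEquivOfLe hQ).toEquiv,
      Nat.card_congr (Subgroup.subgroupOfEquivOfLe hPT).toEquiv, hcard, hj] at hle
    exact absurd (Nat.pow_le_pow_right two_pos hjk) (by omega)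
  refine ⟨hPm, hzP, hVP, fun g hg hg2 => ?_, ⟨Q, fun x => ?_⟩⟩
  · obtain ⟨j, hj⟩ := hg2
    have hgp : IsPGroup 2 (Subgroup.zpowers (⟨g, hg⟩ : centV I n)) := by
      intro x
      refine ⟨j, Subtype.ext ?_⟩
      obtain ⟨i, hi⟩ := x.2
      change ((x : centV I n)) ^ 2 ^ j = 1
      rw [← hi, ← zpow_natCast, ← zpow_mul, mul_comm, zpow_mul, zpow_natCast,
        show (⟨g, hg⟩ : centV I n) ^ 2 ^ j = 1 from Subtype.ext hj, one_zpow]
    obtain ⟨S', hS'⟩ := hgp.exists_le_sylow
    obtain ⟨t, ht⟩ := MulAction.exists_smul_eq (centV I n) S' Q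
    have hmem : t * ⟨g, hg⟩ * t⁻¹ ∈ (Q : Subgroup (centV I n)) := by
      rw [← ht, Sylow.coe_subgroup_smul]
      exact Subgroup.mem_map.2 ⟨⟨g, hg⟩, hS' (Subgroup.mem_zpowers _), rfl⟩
    rw [← hEq] at hmem
    obtain ⟨p, hp, hpe⟩ := (hPG _).1 (Subgroup.mem_subgroupOf.1 hmem)
    exact ⟨t, t.2, p, hp, hpe.symm⟩
  · show x ∈ (Q : Subgroup (centV I n)) ↔ _
    rw [← hEq]
    rfl

end Cfsg.Agent.Fus.SymSix
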