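import Mathlib

/-!
# Search trees
-/

set_option autoImplicit false

namespace Cfsg.Agent.Fus.SymSix

/-- Search trees. -/
inductive CTree where
  | leaf
  | node (key val : ℕ) (l r : CTree)

/-- The value of the missing keys. -/
def noVal : ℕ := 10

/-- Looking up a key. -/
noncomputable def CTree.find (t : CTree) : ℕ → ℕ :=
  CTree.rec (motive := fun _ => ℕ → ℕ) (fun _ => noVal)
    (fun key val _ _ fl fr x => bif Nat.beq x key then val else bif Nat.blt x key then fl x else fr x) t

/-- The entries. -/
def CTree.toList : CTree → List (ℕ × ℕ)
  | .leaf => []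
  | .node k v l r => (k, v) :: (l.toList ++ r.toList)

theorem CTree.find_mem : ∀ (t : CTree) (x : ℕ), t.find x = noVal ∨ (x, t.find x) ∈ t.toList
  | .leaf, x => Or.inl rfl
  | .node k v l r, x => by
    show (bif Nat.beq x k then v else bif Nat.blt x k then l.find x else r.find x) = noVal ∨
      (x, bif Nat.beq x k then v else bif Nat.blt x k then l.find x else r.find x) ∈ (k, v) :: (l.toList ++ r.toList)
    cases h : Nat.beq x k
    · cases Nat.blt x k
      · simp only [cond_false, List.mem_cons, List.mem_append]
        exact (CTree.find_mem r x).imp_right fun h => Or.inr (Or.inr h)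
      · simp only [cond_false, cond_true, List.mem_cons, List.mem_append]
        exact (CTree.find_mem l x).imp_right fun h => Or.inr (Or.inl h)
    · rw [Nat.eq_of_beq_eq_true h]
      exact Or.inr (List.mem_cons_self ..)

end Cfsg.Agent.Fus.SymSix
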