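import Cfsg.Agent.Lib.Fus.SymSix.Syl

/-!
# A subgroup whose centralizer has Sylow subgroups of order twice its own
-/

set_option autoImplicit false
set_option maxRecDepth 100000
set_option maxHeartbeats 1000000

namespace Cfsg.Agent.Fus.SymSix

open Cfsg.Agent.Spor.Cos (force force_eq)

/-- The checks of the Sylow subgroup of order twice the subgroup. -/
noncomputable def twoOk (m : ℕ) (wEq : List ℕ → List ℕ → Bool) (n : CNode) (s : SylCert) : Bool :=
  sylOk m wEq n s && (s.P.all fun p => n.inV p || n.inV (mulC zC p)) &&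
    (centList n.V).all fun c => s.P.any fun p => Nat.beq p c

/-- The product of the central involution and the fused ones, in pairs. -/
def zdProd : List ℕ → ℕ
  | [] => oneC
  | d :: ds => mulC (mulC zC d) (zdProd ds)

/-- The checks of a good subgroup generated by products of fused normalising involutions. -/
noncomputable def spanOk (m : ℕ) (n k : CNode) (h : ℕ) (ds : List (ℕ × List ℕ)) : Bool :=
  inH h && (k.V.all fun v => ds.any fun e => Nat.beq e.1 v && Nat.beq (zdProd e.2) (cjC h v)) &&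
    ds.all fun e => e.2.all fun d => inH d && fz m d && n.V.all fun v => n.inV (cjC d v)

/-- A node moved by an element. -/
def movedGood {G : Type*} [Group G] (I : ℕ → G) (M : Subgroup G) (k : CNode) (h : ℕ) : Prop :=
  ∀ g : G, (∀ v ∈ k.V, g * I (cjC h v) = I (cjC h v) * g) → g ∈ M

namespace Emb

variable {G : Type*} [Group G] [Finite G] {z : G} {I : ℕ → G} {a b : G} {ta tb : CTree} {m : ℕ} {M : Subgroup G}
variable (E : Emb z I a b ta tb m M) {Ns : List CNode} {wEq : List ℕ → List ℕ → Bool}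
include E

omit [Finite G] in
theorem moved_good {k : CNode} (hk : ∀ v ∈ k.V, Mem v) (hg : GoodNode I M k) {h : ℕ} (hh : Mem h) :
    movedGood I M k h := by
  intro g hgv
  have hm : (I h)⁻¹ * g * I h ∈ M := hg _ fun v hv => by
    have e := hgv v hv
    rw [E.loc.map_cj hh (hk v hv)] at e
    calc (I h)⁻¹ * g * I h * I v = (I h)⁻¹ * (g * (I h * I v * (I h)⁻¹)) * I h := by group
      _ = (I h)⁻¹ * (I h * I v * (I h)⁻¹ * g) * I h := by rw [e]
      _ = _ := by group
  simpa [mul_assoc] using mul_mem (mul_mem (E.hC h hh) hm) (inv_mem (E.hC h hh))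

variable (W : WordEq I a b wEq)
include W

/-- The centralizer is the product of an abelian odd part inverted by the central involution and the Sylow
subgroup. -/
theorem two_split (hN : NodesGood m Ns) {n : CNode} (hn : n ∈ Ns) {s : SylCert}
    (hok : twoOk m wEq n s = true) :
    ∃ O : Subgroup G, O ≤ centV I n ∧ (∀ x ∈ O, Odd (orderOf x)) ∧
      (∀ x ∈ centV I n, Odd (orderOf x) → x ∈ O) ∧ (∀ x ∈ O, ∀ y ∈ O, x * y = y * x) ∧
      (∀ x ∈ O, z * x * z⁻¹ = x⁻¹) ∧ ∀ g ∈ centV I n, ∃ x ∈ O, ∃ p ∈ s.P, g = x * I p := by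
  classical
  haveI : Fact (Nat.Prime 2) := ⟨Nat.prime_two⟩
  have L := E.loc
  obtain ⟨h1, -, hb⟩ := hN.base n hn
  have hmem : ∀ v ∈ n.V, Mem v := fun v hv => (hb v hv).1
  simp only [twoOk, Bool.and_eq_true, List.all_eq_true, Bool.or_eq_true, CNode.inV_iff, List.any_eq_true,
    Nat.beq_eq, exists_eq_right] at hok
  obtain ⟨⟨hsyl, hPV⟩, hcent⟩ := hok
  have Sp := sylSpec L E.pair E.hm W hmem hsyl
  set T := centV I n
  obtain ⟨Q, hQ⟩ := Sp.sylow
  have hzT : z ∈ T := mem_centV.2 fun v hv => (L.comm_z (hmem v hv)).symm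
  have hVT : ∀ v ∈ n.V, I v ∈ T := fun v hv => mem_centV.2 fun w hw =>
    (L.comm_iff (hmem v hv) (hmem w hw)).2 ((hb v hv).2.2.2 w hw).2
  have hvv : ∀ v ∈ n.V, I v * I v = 1 := fun v hv => by
    rw [← L.hom _ _ (hmem v hv) (hmem v hv), (hb v hv).2.1, L.map_one]
  have hzz : mulC zC zC = oneC := by decide +kernel
  -- the shape of the Sylow subgroup
  have hshape : ∀ p ∈ s.P, ∃ v ∈ n.V, I p = I v ∨ I p = z * I v := by
    intro p hp
    rcases hPV p hp with h | h
    · exact ⟨p, h, Or.inl rfl⟩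
    · refine ⟨_, h, Or.inr ?_⟩
      rw [← L.map_z, ← L.hom _ _ mem_z (mem_z.mul (Sp.mem p hp)), ← mulC_assoc mem_z (Sp.mem p hp), hzz,
        (Sp.mem p hp).one_mul]
  have hzQ : (⟨z, hzT⟩ : T) ∈ Q := (hQ _).2 ⟨zC, Sp.zmem, L.map_z⟩
  have hQc : ∀ g : T, (g : G) * z = z * (g : G) → ∀ q : T, q ∈ Q → q * g = g * q := by
    intro g hg q hq
    obtain ⟨p, hp, hpe⟩ := (hQ q).1 hq
    refine Subtype.ext ?_
    show (q : G) * g = g * q
    have hgv := mem_centV.1 g.2
    obtain ⟨v, hv, e | e⟩ := hshape p hp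
    · rw [← hpe, e, hgv v hv]
    · rw [← hpe, e, mul_assoc, ← hgv v hv, ← mul_assoc, ← hg, mul_assoc]
  have hcent' : Subgroup.normalizer (((Q : Subgroup T)) : Set T) ≤
      Subgroup.centralizer (((Q : Subgroup T)) : Set T) := by
    intro g hg
    refine Subgroup.mem_centralizer_iff.2 fun q hq => hQc g ?_ q hq
    have hzg : g * ⟨z, hzT⟩ * g⁻¹ ∈ Q := (Subgroup.mem_normalizer_iff.1 hg _).1 hzQ
    obtain ⟨p, hp, hpe⟩ := (hQ _).1 hzg
    change I p = (g : G) * z * (g : G)⁻¹ at hpe
    obtain ⟨v, hv, e | e⟩ := hshape p hp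
    · exfalso
      rw [e] at hpe
      have hf : IsConj (I v) z := by rw [hpe]; exact (isConj_iff.2 ⟨(g : G), rfl⟩ : IsConj z _).symm
      have hvu := (unf_iff L E.hm (hmem v hv)).1 (hb v hv).2.2.1
      refine hvu (fun h => L.ne_one_of_conj (x := v) hf h) hf
    rw [e] at hpe
    have hpow : ∀ j : ℕ, (g : G) ^ j * z * ((g : G) ^ j)⁻¹ = z * I v ^ j := by
      intro j
      induction j with
      | zero => simp
      | succ j ih =>
        have hvg : (g : G) * I v = I v * g := mem_centV.1 g.2 v hv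
        calc (g : G) ^ (j + 1) * z * ((g : G) ^ (j + 1))⁻¹
            = (g : G) * ((g : G) ^ j * z * ((g : G) ^ j)⁻¹) * (g : G)⁻¹ := by rw [pow_succ']; group
          _ = (g : G) * z * (g : G)⁻¹ * ((g : G) * I v ^ j * (g : G)⁻¹) := by rw [ih]; group
          _ = z * I v ^ (j + 1) := by
            rw [← hpe, ((show Commute (g : G) (I v) from hvg).pow_right j).eq, mul_inv_cancel_right, pow_succ',
              mul_assoc]
    obtain ⟨j, l, hl, hgo⟩ : ∃ j l, Odd l ∧ orderOf g = 2 ^ j * l :=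
      Nat.exists_eq_two_pow_mul_odd (orderOf_pos g).ne'
    have hgl : g ^ l ∈ (Q : Subgroup T) := by
      have hp2 : IsPGroup 2 (Subgroup.zpowers (g ^ l)) := by
        refine IsPGroup.of_card (n := j) ?_
        rw [Nat.card_zpowers, orderOf_pow, hgo, Nat.gcd_eq_right (dvd_mul_left _ _),
          Nat.mul_div_cancel _ hl.pos]
      have hle : Subgroup.zpowers (g ^ l) ≤ Subgroup.normalizer (((Q : Subgroup T)) : Set T) :=
        Subgroup.zpowers_le.2 (pow_mem hg l)
      have := hp2.inf_normalizer_sylow Q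
      exact (Subgroup.mem_inf.1 (this.le (Subgroup.mem_inf.2
        ⟨Subgroup.mem_zpowers _, hle (Subgroup.mem_zpowers _)⟩))).2
    obtain ⟨q', hq', hqe⟩ := (hQ _).1 hgl
    have hzl : (g : G) ^ l * z * ((g : G) ^ l)⁻¹ = z := by
      rw [mul_inv_eq_iff_eq_mul]
      change I q' = (g : G) ^ l at hqe
      rw [← hqe]
      exact L.comm_z (Sp.mem q' hq')
    rw [hpow] at hzl
    obtain ⟨i, hi⟩ := hl
    rw [hi, pow_add, pow_mul, pow_two, hvv v hv, one_pow, one_mul, pow_one, mul_eq_left] at hzl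
    rw [hzl, mul_one] at hpe
    exact mul_inv_eq_iff_eq_mul.1 hpe.symm
  have hQle : Subgroup.normalizer (((Q : Subgroup T)) : Set T) ≤ Subgroup.centralizer ((Q : Subgroup T) : Set T) :=
    hcent'
  set f := MonoidHom.transferSylow Q hQle
  have hK : Subgroup.IsComplement' f.ker (Q : Subgroup T) := MonoidHom.ker_transferSylow_isComplement' Q hQle
  have hKodd : Odd (Nat.card f.ker) := Nat.not_even_iff_odd.1 fun he =>
    MonoidHom.not_dvd_card_ker_transferSylow Q hQle (even_iff_two_dvd.1 he)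
  have hmemK : ∀ x : T, Odd (orderOf x) → x ∈ f.ker := by
    intro x hx
    rw [MonoidHom.mem_ker]
    obtain ⟨j, hj⟩ := IsPGroup.iff_orderOf.1 Q.2 (f x)
    have hd : orderOf (f x) ∣ orderOf x := orderOf_map_dvd f x
    rw [hj] at hd
    refine orderOf_eq_one_iff.1 ?_
    rw [hj]
    rcases j with _ | j
    · rfl
    · exact absurd ((even_iff_two_dvd.2 (dvd_pow_self 2 j.succ_ne_zero)).trans_dvd hd)
        (Nat.not_even_iff_odd.2 hx)
  -- the involution on the odd part
  have hdisj : Disjoint f.ker (Q : Subgroup T) := MonoidHom.ker_transferSylow_disjoint Q hQle (Q : Subgroup T) Q.2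
  clear_value f
  have hKn : ∀ x : f.ker, ((⟨z, hzT⟩ : T) * x * (⟨z, hzT⟩ : T)⁻¹) ∈ f.ker := fun x =>
    (MonoidHom.normal_ker f).conj_mem _ x.2 _
  let φ : f.ker →* f.ker :=
    ((MulAut.conj (⟨z, hzT⟩ : T)).toMonoidHom.comp f.ker.subtype).codRestrict f.ker hKn
  have hfix : MonoidHom.FixedPointFree φ := by
    intro x hx
    have e : z * ((x : T) : G) * z⁻¹ = ((x : T) : G) := congrArg (fun u : f.ker => ((u : T) : G)) hx
    obtain ⟨c, hc, hce⟩ := (L.range ((x : T) : G)).1 (mul_inv_eq_iff_eq_mul.1 e).symm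
    have hcl : c ∈ centList n.V := mem_centList.2 ⟨mem_iff_elems.1 hc, List.all_eq_true.2 fun v hv => by
      simp only [commC, Nat.beq_eq]
      refine (L.comm_iff hc (hmem v hv)).1 ?_
      rw [hce]
      exact mem_centV.1 (x : T).2 v hv⟩
    have hxQ : (x : T) ∈ (Q : Subgroup T) := (hQ _).2 ⟨c, hcent c hcl, hce⟩
    have := Subgroup.disjoint_def.1 hdisj x.2 hxQ
    exact Subtype.ext this
  have hinvol : Function.Involutive φ := fun x => by
    refine Subtype.ext (Subtype.ext ?_)
    show z * (z * ((x : T) : G) * z⁻¹) * z⁻¹ = _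
    calc z * (z * ((x : T) : G) * z⁻¹) * z⁻¹ = z * z * ((x : T) : G) * (z * z)⁻¹ := by group
      _ = _ := by rw [L.mul_self_z]; group
  refine ⟨f.ker.map T.subtype, fun x hx => ?_, fun x hx => ?_, fun x hx ho => ?_, fun x hx y hy => ?_,
    fun x hx => ?_, fun g hg => ?_⟩
  · obtain ⟨u, -, rfl⟩ := hx
    exact u.2
  · obtain ⟨u, hu, rfl⟩ := hx
    rw [Subgroup.coe_subtype, Subgroup.orderOf_coe]
    exact hKodd.of_dvd_nat ((Subgroup.orderOf_mk u hu) ▸ orderOf_dvd_natCard (⟨u, hu⟩ : f.ker))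
  · exact ⟨⟨x, hx⟩, hmemK _ (by rwa [← Subgroup.orderOf_coe]), rfl⟩
  · obtain ⟨u, hu, rfl⟩ := hx
    obtain ⟨w, hw, rfl⟩ := hy
    exact congrArg (fun q : f.ker => ((q : T) : G)) (hfix.commute_all_of_involutive hinvol ⟨u, hu⟩ ⟨w, hw⟩).eq
  · obtain ⟨u, hu, rfl⟩ := hx
    have := congrFun (hfix.coe_eq_inv_of_involutive hinvol) ⟨u, hu⟩
    exact congrArg (fun q : f.ker => ((q : T) : G)) this
  · obtain ⟨⟨x, q⟩, e⟩ := hK.2 ⟨g, hg⟩
    obtain ⟨p, hp, hpe⟩ := (hQ _).1 q.2
    exact ⟨((x : T) : G), ⟨x, x.2, rfl⟩, p, hp, by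
      rw [hpe]
      exact (congrArg Subtype.val e).symm⟩

omit W in
/-- Products of fused normalising involutions with the central one move the odd part only modulo the subgroup. -/
theorem zd_mod {n : CNode} (hnm : ∀ v ∈ n.V, Mem v) {O : Subgroup G} (hO : O ≤ centV I n)
    (hodd : ∀ x ∈ O, Odd (orderOf x)) (hall : ∀ x ∈ centV I n, Odd (orderOf x) → x ∈ O)
    (hcomm : ∀ x ∈ O, ∀ y ∈ O, x * y = y * x) (hinv : ∀ x ∈ O, z * x * z⁻¹ = x⁻¹) :
    ∀ ds : List ℕ, (∀ d ∈ ds, Mem d ∧ fz m d = true ∧ ∀ v ∈ n.V, cjC d v ∈ n.V) →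
      Mem (zdProd ds) ∧ ∀ x ∈ O, I (zdProd ds) * x * (I (zdProd ds))⁻¹ ∈ O ∧
        x⁻¹ * (I (zdProd ds) * x * (I (zdProd ds))⁻¹) ∈ M
  | [], _ => by
    refine ⟨mem_one, fun x hx => ?_⟩
    have e : I (zdProd []) = 1 := E.loc.map_one
    rw [e]
    simp [hx, one_mem]
  | d :: ds, h => by
    have L := E.loc
    obtain ⟨hm', ih⟩ := zd_mod hnm hO hodd hall hcomm hinv ds fun x hx => h x (List.mem_cons_of_mem _ hx)
    obtain ⟨hd, hdf, hdn⟩ := h d (List.mem_cons_self ..)
    have hdf' := (L.fused_mask E.hm hd).1 hdf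
    have hdd : I d * I d = 1 := E.fused_mem hdf'
    have hdi : (I d)⁻¹ = I d := inv_eq_of_mul_eq_one_left hdd
    refine ⟨(mem_z.mul hd).mul hm', fun x hx => ?_⟩
    have hu : I (zdProd (d :: ds)) = z * I d * I (zdProd ds) := by
      show I (mulC (mulC zC d) (zdProd ds)) = _
      rw [L.hom _ _ (mem_z.mul hd) hm', L.hom _ _ mem_z hd, L.map_z]
    -- one step
    have step : ∀ x ∈ O, z * I d * x * (z * I d)⁻¹ ∈ O ∧ x⁻¹ * (z * I d * x * (z * I d)⁻¹) ∈ M := by
      intro x hx
      set x' := I d * x * (I d)⁻¹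
      have hx' : x' ∈ O := by
        refine hall _ (mem_centV.2 fun v hv => ?_) ?_
        · have hv' : I (cjC d v) = I d * I v * (I d)⁻¹ := L.map_cj hd (hnm v hv)
          have hxc := mem_centV.1 (hO hx) _ (hdn v hv)
          rw [hv', hdi] at hxc
          simp only [x', hdi]
          calc I d * x * I d * I v = I d * (x * (I d * I v * I d)) * I d := by
                calc _ = I d * x * (I d * I v) * (I d * I d) := by rw [hdd, mul_one]; group
                  _ = _ := by group
            _ = I d * (I d * I v * I d * x) * I d := by rw [hxc]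
            _ = I d * I d * (I v * (I d * x * I d)) := by group
            _ = I v * (I d * x * I d) := by rw [hdd, one_mul]
        · simp only [x']
          rw [Cfsg.Agent.Invol.orderOf_conj_eq]
          exact hodd x hx
      have e : z * I d * x * (z * I d)⁻¹ = z * x' * z⁻¹ := by simp only [x']; group
      rw [e, hinv x' hx']
      refine ⟨inv_mem hx', ?_⟩
      have hq : x * x' ∈ M := by
        refine E.cent_le (E.hC d hd) hdf' ?_
        have e2 : I d * (x * x') * (I d)⁻¹ = x * x' := by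
          rw [hcomm x hx x' hx']
          simp only [x', hdi]
          calc I d * (I d * x * I d * x) * I d = I d * I d * x * (I d * x * I d) := by group
            _ = _ := by
              rw [hdd, one_mul]
              have := hcomm x hx x' hx'
              simp only [x', hdi] at this
              rw [this]
        exact (mul_inv_eq_iff_eq_mul.1 e2).symm
      have e3 : x⁻¹ * x'⁻¹ = (x * x')⁻¹ := by rw [← mul_inv_rev, hcomm x' hx' x hx]
      rw [e3]
      exact inv_mem hq
    obtain ⟨h1, h2⟩ := ih x hx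
    obtain ⟨h3, h4⟩ := step _ h1
    rw [hu]
    have e4 : z * I d * I (zdProd ds) * x * (z * I d * I (zdProd ds))⁻¹ =
        z * I d * (I (zdProd ds) * x * (I (zdProd ds))⁻¹) * (z * I d)⁻¹ := by group
    rw [e4]
    refine ⟨h3, ?_⟩
    set x₁ := I (zdProd ds) * x * (I (zdProd ds))⁻¹
    have e5 : x⁻¹ * (z * I d * x₁ * (z * I d)⁻¹) = x⁻¹ * x₁ * (x₁⁻¹ * (z * I d * x₁ * (z * I d)⁻¹)) := by group
    rw [e5]
    exact mul_mem h2 h4

/-- Such a subgroup is good once a subgroup spanned by products of normalising fused involutions is. -/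
theorem good_of_two (hN : NodesGood m Ns) {n k : CNode} (hn : n ∈ Ns) (hk : k ∈ Ns) (hgk : GoodNode I M k)
    {s : SylCert} {h : ℕ} {ds : List (ℕ × List ℕ)} (hok : twoOk m wEq n s = true)
    (hsp : spanOk m n k h ds = true) : GoodNode I M n := by
  have L := E.loc
  obtain ⟨O, hO, hodd, hall, hcomm, hinv, hsplit⟩ := E.two_split W hN hn hok
  have hnm : ∀ v ∈ n.V, Mem v := fun v hv => ((hN.base n hn).2.2 v hv).1
  obtain ⟨-, -, hkb⟩ := hN.base k hk
  simp only [spanOk, Bool.and_eq_true, List.all_eq_true, List.any_eq_true, Nat.beq_eq, CNode.inV_iff] at hsp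
  obtain ⟨⟨hh, hcov⟩, hds⟩ := hsp
  replace hh : Mem h := hh
  have hu : ∀ v ∈ k.V, ∀ x ∈ O, I (cjC h v) * x * (I (cjC h v))⁻¹ ∈ O ∧
      x⁻¹ * (I (cjC h v) * x * (I (cjC h v))⁻¹) ∈ M := by
    intro v hv
    obtain ⟨e, he, -, he2⟩ := hcov v hv
    rw [← he2]
    exact (zd_mod E hnm hO hodd hall hcomm hinv e.2 fun d hd => ⟨(hds e he d hd).1.1, (hds e he d hd).1.2,
      (hds e he d hd).2⟩).2
  have main : ∀ l : List ℕ, (∀ v ∈ l, v ∈ k.V) → ∀ x ∈ O, ∃ y ∈ O, (∀ v ∈ l, y * I (cjC h v) = I (cjC h v) * y) ∧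
      (x ^ 2 ^ l.length)⁻¹ * y ∈ M := by
    intro l
    induction l with
    | nil => intro _ x hx; exact ⟨x, hx, fun v hv => absurd hv (by simp), by simp⟩
    | cons v l ih =>
      intro hl x hx
      obtain ⟨y, hy, hyc, hyM⟩ := ih (fun w hw => hl w (List.mem_cons_of_mem _ hw)) x hx
      have hv := hl v (List.mem_cons_self ..)
      obtain ⟨hvO, hvM⟩ := hu v hv y hy
      obtain ⟨hvm, hvsq, -, hvc⟩ := hkb v hv
      set u := I (cjC h v)
      have huu : u * u = 1 := by
        simp only [u]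
        rw [L.map_cj hh hvm]
        calc I h * I v * (I h)⁻¹ * (I h * I v * (I h)⁻¹) = I h * (I v * I v) * (I h)⁻¹ := by group
          _ = 1 := by rw [← L.hom _ _ hvm hvm, hvsq, L.map_one, mul_one, mul_inv_cancel]
      have hui : u⁻¹ = u := inv_eq_of_mul_eq_one_left huu
      refine ⟨y * (u * y * u⁻¹), mul_mem hy hvO, fun w hw => ?_, ?_⟩
      · rcases List.mem_cons.1 hw with rfl | hw
        · have e : u * (y * (u * y * u⁻¹)) * u⁻¹ = y * (u * y * u⁻¹) := by
            rw [hcomm y hy _ hvO, hui]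
            calc u * (u * y * u * y) * u = u * u * y * (u * y * u) := by group
              _ = _ := by
                rw [huu, one_mul]
                have := hcomm y hy _ hvO
                rw [hui] at this
                rw [this]
          exact (mul_inv_eq_iff_eq_mul.1 e).symm
        · obtain ⟨hwm, -, -, hwc⟩ := hkb w (hl w (List.mem_cons_of_mem _ hw))
          have huw : Commute u (I (cjC h w)) := by
            show _ * _ = _ * _
            simp only [u]
            rw [L.map_cj hh hvm, L.map_cj hh hwm]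
            calc I h * I v * (I h)⁻¹ * (I h * I w * (I h)⁻¹) = I h * (I v * I w) * (I h)⁻¹ := by group
              _ = I h * (I w * I v) * (I h)⁻¹ := by
                rw [← L.hom _ _ hvm hwm, ← L.hom _ _ hwm hvm,
                  (hvc w (hl w (List.mem_cons_of_mem _ hw))).2]
              _ = _ := by group
          have hyw : Commute y (I (cjC h w)) := hyc w hw
          exact (hyw.mul_left ((huw.mul_left hyw).mul_left huw.inv_left)).eq
      · set X := x ^ 2 ^ l.length
        have hX : X ∈ O := pow_mem hx _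
        have hc1 : X * y = y * X := hcomm _ hX _ hy
        have e : (x ^ 2 ^ (l.length + 1))⁻¹ * (y * (u * y * u⁻¹)) =
            (X⁻¹ * y) * (X⁻¹ * y) * (y⁻¹ * (u * y * u⁻¹)) := by
          rw [pow_succ, pow_mul, pow_two]
          show (X * X)⁻¹ * _ = _
          have hc2 : X⁻¹ * y = y * X⁻¹ := ((show Commute X y from hc1).inv_left).eq
          calc (X * X)⁻¹ * (y * (u * y * u⁻¹)) = X⁻¹ * (X⁻¹ * y) * (u * y * u⁻¹) := by group
            _ = X⁻¹ * (y * X⁻¹) * (u * y * u⁻¹) := by rw [hc2]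
            _ = _ := by group
        rw [List.length_cons, e]
        exact mul_mem (mul_mem hyM hyM) hvM
  intro g hg
  obtain ⟨x, hx, p, hp, rfl⟩ := hsplit g (mem_centV.2 hg)
  have hpM : I p ∈ M := by
    simp only [twoOk, Bool.and_eq_true] at hok
    exact E.hC p ((sylSpec L E.pair E.hm W hnm hok.1.1).mem p hp)
  obtain ⟨y, -, hyc, hyM⟩ := main k.V (fun v hv => hv) x hx
  have hy : y ∈ M := E.moved_good (fun v hv => (hkb v hv).1) hgk hh y hyc
  have hpow : x ^ 2 ^ k.V.length ∈ M := by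
    have := mul_mem hy (inv_mem hyM)
    simpa [mul_assoc] using this
  obtain ⟨j, hj⟩ := exists_pow_eq_self_of_coprime (x := x) (n := 2 ^ k.V.length)
    (Nat.Coprime.pow_left _ (Nat.coprime_two_left.2 (hodd x hx)))
  exact mul_mem (hj ▸ pow_mem hpow j) hpM

end Emb

end Cfsg.Agent.Fus.SymSix
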